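import Cfsg.Agent.USixType.PairNoR

/-!
# Every commuting pair is a pair of transvections
-/

set_option autoImplicit false
set_option Elab.async false

namespace Cfsg.Lib.USixType

open Subgroup

universe u

variable {G : Type u} [Group G] {z x : G} {J J' : Subgroup G}

namespace Pr

variable [Finite G] {c : Coord z J} {c' : Coord x J'} (P : Pr c c')
include P

/-- Every pair is a pair of transvections. -/
theorem exists_tv : ∃ j, c.π x = tvP j := by
  obtain ⟨u, hu, e | e⟩ := c.exists_rep P.comm P.x_sq P.x_notMem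
  · rw [c.twist_π] at e
    refine ⟨act45 u⁻¹ 0, ?_⟩
    rw [← conj_tvP (inv_mem hu), ← e]
    group
  · obtain ⟨v, hv, e' | e'⟩ := c'.exists_rep P.comm.symm c.z_sq P.z_notMem
    · have h1 := (P.twist u 1 hu (one_mem U)).R_other_le e
      have h2 := (P.symm.twist v 1 hv (one_mem U)).card_C_T e'
      omega
    · exact ((P.twist u v hu hv).no_R e e').elim

end Pr

/-- The facts about a pair. -/
theorem facts_of [Finite G] (c : Coord z J) (c' : Coord x J') (g : G) (hx : x = g * z * g⁻¹)
    (hJ' : J' = J.map (MulAut.conj g).toMonoidHom) (P : Pr c c')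
    (hclosed' : ∀ h : G, ∀ d, IsConj z d → d ∈ J.map (MulAut.conj h).toMonoidHom → d = h * z * h⁻¹) :
    ∃ j, PairFacts c g j := by
  have hcomm := P.comm
  have hne := P.ne
  have hclosed := P.closed
  obtain ⟨j, hj⟩ := P.exists_tv
  obtain ⟨i, hi⟩ := P.symm.exists_tv
  have S := P.tvSide hj
  have S' := P.symm.tvSide hi
  have hK : ∀ q ∈ J, onLine (ctr j) (c.β (x * (q⁻¹ * x * q))) = true := fun q hq => by
    rw [(P.shift hq).2]; exact S.shifts q hq
  have hnot : ¬ IsConj z (z * x) := by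
    intro hzx
    obtain ⟨k, hk, hkv⟩ := S.onto (ctr j) (line_ctr j).1
    obtain ⟨r, hr, hrv⟩ := S.shift_onto (ctr j) (line_ctr j).1
    obtain ⟨him, hib⟩ := P.shift hr
    set s := x * (r⁻¹ * x * r) with hs
    have hsv : c.β s = ctr j := hib.trans hrv
    have hkz : k = s * z := by
      obtain ⟨d, hd⟩ := c.eq_or_mul_z him hk.1 (hsv.trans hkv.symm)
      cases d
      · exfalso
        simp only [zp, Bool.false_eq_true, if_false, mul_one] at hd
        refine P.no_step hk.2 (fun e => (ctr_iso j).2 (by rw [← hkv, e, c.β_one])) ?_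
        rw [hd, hs, ← mul_assoc x x, P.x_sq, one_mul]
        exact P.conj_shift
      · simpa [zp] using hd
    obtain ⟨r', hr', hr'v⟩ := S'.shift_onto (c'.β k) (S'.line k ⟨hk.2, hk.1⟩)
    obtain ⟨him', hib'⟩ := P.symm.shift hr'
    obtain ⟨d, hd⟩ := c'.eq_or_mul_z him' hk.2 (hib'.trans hr'v)
    have hk' : k = z * (r'⁻¹ * z * r') * x := by
      cases d
      · exfalso
        simp only [zp, Bool.false_eq_true, if_false, mul_one] at hd
        refine P.symm.no_step hk.1 (fun e => (ctr_iso j).2 (by rw [← hkv, e, c.β_one])) ?_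
        rw [hd, ← mul_assoc z z, c.z_sq, one_mul]
        exact P.symm.conj_shift
      · simpa [zp] using hd
    have hsx : Commute s x := (P.shift_commute hr (by
      rw [hrv]
      exact (show ∀ j : Fin 45, Q (ctr j) = false by decide +kernel) j)).symm
    have hsz : Commute s z := c.le s him
    have e1 : r'⁻¹ * z * r' = s * x := by
      calc r'⁻¹ * z * r' = z * (z * (r'⁻¹ * z * r') * x) * x := by
            simp only [mul_assoc, P.x_sq, mul_one]
            rw [← mul_assoc z z, c.z_sq, one_mul]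
        _ = z * (s * z) * x := by rw [← hk', hkz]
        _ = s * x := by rw [hsz.eq, ← mul_assoc, c.z_sq, one_mul]
    have e2 : r'⁻¹ * (z * x) * r' = s := by
      calc r'⁻¹ * (z * x) * r' = (r'⁻¹ * z * r') * (r'⁻¹ * (x * r')) := by group
        _ = s * x * x := by rw [e1, ← (c'.le r' hr').eq]; group
        _ = s := by rw [mul_assoc, P.x_sq, mul_one]
    have := hclosed s (hzx.trans (isConj_iff.2 ⟨r'⁻¹, by rw [inv_inv]; exact e2⟩)) him
    rw [this, c.β_z] at hsv
    exact (ctr_iso j).2 hsv.symm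
  refine ⟨j, ⟨hx ▸ hj, hx ▸ S.comm, ?_, hx ▸ hnot, ?_, hJ' ▸ fun q hq hq' => S.line q ⟨hq, hq'⟩⟩⟩ <;>
    rw [← hx]
  rotate_left
  rw [← hJ']
  rotate_left
  · intro k hkc hkne hkπ
    obtain ⟨d, hd⟩ : ∃ d, d = k * z * k⁻¹ := ⟨_, rfl⟩
    rw [← hd] at hkc hkne hkπ ⊢
    have hdsq : d * d = 1 := by
      rw [hd, show k * z * k⁻¹ * (k * z * k⁻¹) = k * (z * z) * k⁻¹ by group, c.z_sq]; group
    have hdj : x * d ∈ J := (c.π_ker _ (hcomm.mul_left hkc)).1 (by
      rw [c.π_mul x d hcomm hkc, hj, hkπ, tvP_sq])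
    by_cases hdx : d = x
    · exact ⟨1, one_mem J, by rw [hdx]; group⟩
    set m := x * d with hm
    have hfix : c.π x (c.β m) = c.β m := by
      rw [← c.equiv x hcomm m hdj, show x * m * x⁻¹ = m⁻¹ by
        rw [hm, mul_inv_rev, inv_eq_of_mul_eq_one_left hdsq, P.x_inv, ← mul_assoc x x, P.x_sq, one_mul],
        c.β_inv hdj]
    have hxm : Commute x m := S.comm m hdj (S.fixed _ hfix)
    have hxd : Commute d x := by
      have : d = x * m := by rw [hm, ← mul_assoc, P.x_sq, one_mul]
      rw [this]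
      exact ((Commute.refl x).mul_right hxm).symm
    obtain ⟨cd⟩ : Nonempty (Coord d (J.map (MulAut.conj k).toMonoidHom)) := ⟨hd ▸ c.map k⟩
    have P2 : Pr c' cd := ⟨P.conj.symm.trans (isConj_iff.2 ⟨k, hd.symm⟩), hxd, hdx,
      fun e he hem => P.closed' e (P.conj.trans he) hem,
      fun e he hem => (hclosed' k e (P.conj.trans he) hem).trans hd.symm⟩
    obtain ⟨l, hl⟩ := P2.exists_tv
    have hπm : c'.π m = tvP l := by
      rw [← hl, hm, c'.π_mul x d (Commute.refl x) hxd, c'.π_of_mem c'.mem, one_mul]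
    have hli : l = i := by
      have := S'.image m hdj hxm.symm
      rw [hπm, key_tvP] at this
      exact O2_tv i l this
    have hzm : z * m ∈ J' := (c'.π_ker _ (hcomm.symm.mul_left hxm.symm)).1 (by
      rw [c'.π_mul z m hcomm.symm hxm.symm, hi, hπm, hli, tvP_sq])
    have hline := S.line _ ⟨mul_mem c.mem hdj, hzm⟩
    rw [c.β_mul z c.mem m hdj, c.β_z, zero_add] at hline
    obtain ⟨q, hq, hqv⟩ := S.shift_onto _ hline
    obtain ⟨him, hib⟩ := P.shift hq
    obtain ⟨b, hb⟩ := c.eq_or_mul_z him hdj (hib.trans hqv)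
    refine ⟨q, hq, ?_⟩
    cases b
    · simp only [zp, Bool.false_eq_true, if_false, mul_one, hm] at hb
      exact mul_left_cancel hb
    · exfalso
      simp only [zp, if_true] at hb
      refine hnot ((isConj_iff.2 ⟨k, rfl⟩).trans (isConj_iff.2 ⟨q, ?_⟩))
      have hd2 : d = q⁻¹ * (x * z) * q := by
        calc d = x * m := by rw [hm, ← mul_assoc, P.x_sq, one_mul]
          _ = q⁻¹ * x * q * z := by rw [hb, ← mul_assoc, ← mul_assoc, P.x_sq, one_mul]
          _ = _ := by rw [mul_assoc _ q z, (c.le q hq).eq]; group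
      rw [← hd, hd2, show q * (q⁻¹ * (x * z) * q) * q⁻¹ = x * z by group, hcomm.eq]
  · intro q hq hqne
    obtain ⟨him, hib⟩ := P.shift hq
    set s := x * (q⁻¹ * x * q) with hs
    obtain ⟨k, hk, hkv⟩ := S.onto _ (hK q hq)
    obtain ⟨b, hb⟩ := c.eq_or_mul_z him hk.1 hkv.symm
    cases b
    · exfalso
      simp only [zp, Bool.false_eq_true, if_false, mul_one] at hb
      refine P.no_step hk.2 ?_ ?_
      · intro e
        refine hqne ?_
        rw [hb, hs] at e
        calc q⁻¹ * x * q = x * (x * (q⁻¹ * x * q)) := by rw [← mul_assoc, P.x_sq, one_mul]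
          _ = x := by rw [e, mul_one]
      · rw [hb, hs, ← mul_assoc x x, P.x_sq, one_mul]
        exact P.conj_shift
    · simp only [zp, if_true] at hb
      show z * s ∈ J'
      rw [← (c.le s him).eq, ← hb]
      exact hk.2

/-- Every commuting pair satisfies the facts. -/
theorem pairGoal : PairGoal.{u} := by
  intro G _ _ z J c g hcomm hne
  have hclosed : ∀ d, IsConj z d → d ∈ J → d = z := fun d hd hm => by
    obtain ⟨k, hk⟩ := isConj_iff.1 hd
    rw [← hk] at hm ⊢
    exact c.weak_closed hm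
  have hclosed' : ∀ h : G, ∀ d, IsConj z d → d ∈ J.map (MulAut.conj h).toMonoidHom → d = h * z * h⁻¹ := by
    intro h d hd hm
    have := hclosed _ (hd.trans (isConj_iff.2 ⟨h⁻¹, by rw [inv_inv]⟩)) (c.mem_conj.1 hm)
    rw [← this]
    group
  exact facts_of c (c.map g) g rfl rfl ⟨isConj_iff.2 ⟨g, rfl⟩, hcomm, hne, hclosed, hclosed' g⟩ hclosed'

end Cfsg.Lib.USixType
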