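import Cfsg.Agent.USixType.CoreMain
import Cfsg.Agent.USixType.Pair

/-!
# The recognition
-/

set_option autoImplicit false

namespace Cfsg.Lib.USixType

universe u

/-- The recognition. -/
theorem coreGoal : CoreGoal.{u} := coreGoal_of_pair pairGoal

end Cfsg.Lib.USixType
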