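import Cfsg.Agent.FiPres.Uni
import Cfsg.Prelude.Def_Transfer
import Cfsg.Prelude.Def_Classical

/-!
# Groups with the involution centraliser of a transvection of the six-dimensional unitary group: interfaces

`NatSetting` is the hypothesis of the recognition. `CoreGoal` is the recognition for the natural module,
`GlobalGoal` says that an embedded model containing the centraliser of a transvection, with no fusion of transvections
to other elements, is everything.
-/

set_option autoImplicit false

namespace Cfsg.Lib.USixType

universe u

/-- The model: the unitary group on the 693 isotropic points. -/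
noncomputable abbrev W : Subgroup (Equiv.Perm (Fin 693)) := Cfsg.Lib.FiPres.toSub.range

/-- A transvection of the model. -/
def IsTv (w : W) : Prop := w ≠ 1 ∧ w * w = 1 ∧
  (Finset.univ.filter fun j => (w : Equiv.Perm (Fin 693)) j = j).card = 181

/-- An involution centraliser with extraspecial core of order `2^9`, unitary quotient and natural module: no element
outside the centre is central modulo the centre. -/
structure NatSetting {G : Type u} [Group G] (z : G) (J : Subgroup G) : Prop where
  order : orderOf z = 2
  le : J ≤ Subgroup.centralizer ({z} : Set G)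
  norm : Subgroup.centralizer ({z} : Set G) ≤ Subgroup.normalizer (J : Set G)
  extra : Cfsg.IsExtraspecial 2 ↥J
  card : Nat.card ↥J = 2 ^ 9
  mem : z ∈ J
  self : ∀ g ∈ Subgroup.centralizer ({z} : Set G), (∀ q ∈ J, g * q = q * g) → g ∈ J
  quot : ∀ (F : Type) [Field F] [Fintype F], Fintype.card F = 3 →
    ∃ f : ↥(Subgroup.centralizer ({z} : Set G)) →* Cfsg.PSp 2 F, Function.Surjective f ∧
      ∀ h, f h = 1 ↔ (h : G) ∈ J
  nofix : ∀ q ∈ J, (∀ h ∈ Subgroup.centralizer ({z} : Set G), h * q * h⁻¹ * q⁻¹ ∈ Subgroup.zpowers z) →
    q ∈ Subgroup.zpowers z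

/-- The recognition for the natural module. -/
def CoreGoal : Prop := ∀ {G : Type u} [Group G] [Finite G] (z : G) (J : Subgroup G), NatSetting z J →
  (∃ g : G, Commute (g * z * g⁻¹) z ∧ g * z * g⁻¹ ≠ z) →
    Nonempty (G ≃* W) ∧ Subgroup.center G = ⊥

/-- An embedded model with the centraliser of a transvection inside and no fusion is everything. -/
def GlobalGoal : Prop := ∀ {G : Type u} [Group G] [Finite G] (φ : W →* G), Function.Injective φ →
  ∀ t : W, IsTv t → Subgroup.centralizer ({φ t} : Set G) ≤ φ.range →
    (∀ w : W, IsConj (φ t) (φ w) → IsTv w) → φ.range = ⊤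

end Cfsg.Lib.USixType
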