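import Cfsg.Agent.USixType.Natural

/-!
# Finite facts about transvections and products of two orthogonal transvections
-/

set_option autoImplicit false
set_option Elab.async false
set_option maxRecDepth 100000

namespace Cfsg.Lib.USixType

/-- The key of the first product. -/
def R0K : ℕ := pairK 0 d0

/-- The key of the first transvection. -/
def T0K : ℕ := keyOf (tv (ctr 0))

theorem ctr_zero : ctr 0 = ⟨5⟩ ∧ sm 2 ⟨5⟩ = (⟨10⟩ : Vt) := by decide +kernel

/-- Fixed by the first transvection. -/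
def fix0 : List Vt := ((List.finRange 256).map Vt.mk).filter fun v => tv ⟨5⟩ v == v

/-- Fixed by the first product. -/
def fixR : List Vt := ((List.finRange 256).map Vt.mk).filter fun v => ev R0K v == v

/-- A multiple of a centre. -/
def onLine (c v : Vt) : Bool := v == 0 || v == c || v == sm 2 c || v == sm 3 c

theorem fix_len : fix0.length = 64 ∧ fixR.length = 16 := by decide +kernel

theorem tv0_fix_iff : ∀ v : Fin 256, (tv ⟨5⟩ ⟨v⟩ = ⟨v⟩ ↔ h ⟨v⟩ ⟨5⟩ = 0) := by decide +kernel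

theorem tv0_image : ∀ v : Fin 256, onLine ⟨5⟩ (tv ⟨5⟩ ⟨v⟩ + ⟨v⟩) = true := by decide +kernel

theorem tv0_onto : ∀ a : Fin 4, ∃ v : Fin 256, tv ⟨5⟩ ⟨v⟩ + ⟨v⟩ = sm a.val ⟨5⟩ := by decide +kernel

theorem R0_image : ∀ v : Fin 256,
    ev R0K (ev R0K ⟨v⟩ + ⟨v⟩) = ev R0K ⟨v⟩ + ⟨v⟩ ∧ Q (ev R0K ⟨v⟩ + ⟨v⟩) = false ∧
    B (ev R0K ⟨v⟩ + ⟨v⟩) ⟨v⟩ = false := by decide +kernel

theorem R0_onto : fixR.all (fun w => (List.finRange 256).any fun v => ev R0K ⟨v⟩ + ⟨v⟩ == w) = true := by decide +kernel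

theorem fixR_isotropic : fixR.all (fun u => fixR.all fun v => !B u v) = true := by decide +kernel

theorem fix0_decomp : ∀ v : Fin 256, tv ⟨5⟩ ⟨v⟩ = ⟨v⟩ → ∃ a : Fin 4, ∃ m : Fin 16,
    (⟨v⟩ : Vt) = sm a.val ⟨5⟩ + vt (16 * m.val) := by decide +kernel

theorem fix0_units : ∀ m : Fin 16, tv ⟨5⟩ (vt (16 * m.val)) = vt (16 * m.val) := by decide +kernel

theorem b_table : ∀ f0 f1 f2 f3 : Bool, ∃ b : Fin 16, B (vt 16) (vt (16 * b.val)) = f0 ∧
    B (vt 32) (vt (16 * b.val)) = f1 ∧ B (vt 64) (vt (16 * b.val)) = f2 ∧ B (vt 128) (vt (16 * b.val)) = f3 := by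
  decide +kernel

theorem b_line : ∀ b : Fin 16, B ⟨5⟩ (vt (16 * b.val)) = false ∧ B ⟨10⟩ (vt (16 * b.val)) = false := by decide +kernel

/-- The vectors of the twisted kernel. -/
def kerF (b : Fin 16) : List Vt := fix0.filter fun v => !B v (vt (16 * b.val))

/-- The possible vectors of a twisted intersection. -/
def radF (b : Fin 16) : List Vt :=
  (kerF b).filter fun p => !onLine ⟨5⟩ p && !Q p && (kerF b).all fun v => !B p v

theorem radF_pair : ∀ b : Fin 16, b ≠ 0 → (radF b).all (fun p => (radF b).all fun p' =>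
    p == p' || !(radF b).contains (p + p')) = true := by decide +kernel

theorem twisted_count : ∀ b : Fin 16, b ≠ 0 → (0 :: radF b).all (fun p =>
    (grpAKey.countP fun n => (let n2 := mulK n n; n2 == idK || n2 == T0K) &&
      (kerF b).all fun v => let w := ev n v + v; w == 0 || w == p) < 16) = true := by decide +kernel

theorem rad0 : fix0.all (fun p => onLine ⟨5⟩ p || fix0.any fun v => B p v) = true := by decide +kernel

theorem small_count : ∀ a : Fin 4,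
    (grpAKey.countP fun n => fix0.all fun v => let w := ev n v + v; w == 0 || w == sm a.val ⟨5⟩) < 64 := by
  decide +kernel

theorem fixL_count : (grpBKey.countP fun n => fixR.all fun v => ev n v == v) = 16 := by decide +kernel

theorem fixL_only : grpBKey.all (fun n => (fixR.all fun v => ev n v == v) || (List.finRange 256).any fun v =>
    let w := ev R0K ⟨v⟩ + ⟨v⟩; ev n w != w && !B (ev n w + w) ⟨v⟩) = true := by decide +kernel

/-- The condition on the transvection side with the centre `j`. -/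
def O2cond (j : Fin 45) (n : ℕ) : Bool :=
  (List.finRange 256).all fun v => h ⟨v⟩ (ctr j) != 0 || onLine (ctr j) (ev n ⟨v⟩ + ⟨v⟩)

theorem O2_R0 : O2cond 0 R0K = false ∧ O2cond d0 R0K = false := by decide +kernel

theorem O2_tv : ∀ j k : Fin 45, O2cond j (keyOf (tv (ctr k))) = true → k = j := by decide +kernel

theorem fixL_group : (let L := grpBKey.filter fun n => fixR.all fun v => ev n v == v
    L.all fun e => L.all fun e' =>
      let S := [idK, R0K, e, mulK e R0K, e', mulK e' R0K, mulK e e', mulK (mulK e e') R0K]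
      !decide S.Nodup || S.any fun n => (List.finRange 45).any fun j => n == keyOf (tv (ctr j))) = true := by
  decide +kernel

theorem R0_special : ∀ j : Fin 45, ev R0K (ctr j) = ctr j → ∀ v : Fin 256,
    ev R0K ⟨v⟩ + ⟨v⟩ = sm 2 (ctr j) → B (ctr j) ⟨v⟩ = true → j = 0 ∨ j = d0 := by decide +kernel

theorem R0_point : ∀ j : Fin 45, (fixR.all fun v => ev (keyOf (tv (ctr j))) v == v) = true → ev R0K (ctr j) = ctr j := by
  decide +kernel

theorem R0_pair_other : mulK (keyOf (tv (ctr 0))) R0K = keyOf (tv (ctr d0)) ∧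
    mulK (keyOf (tv (ctr d0))) R0K = keyOf (tv (ctr 0)) := by decide +kernel

theorem line_disjoint : ∀ v : Fin 256, onLine (ctr 0) ⟨v⟩ = true → onLine (ctr d0) ⟨v⟩ = true → (⟨v⟩ : Vt) = 0 := by
  decide +kernel

theorem stab_count : (grpAKey.countP fun n => ev n ⟨5⟩ == (⟨5⟩ : Vt)) = 192 := by decide +kernel

theorem sylow_noninvol : ∃ n ∈ grpSKey, mulK n n ≠ idK := by decide +kernel

theorem orbit_line : ∀ w : Fin 256, Q ⟨w⟩ = false → B ⟨5⟩ ⟨w⟩ = false → onLine ⟨5⟩ ⟨w⟩ = false →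
    ∃ c d : Fin 45, h ⟨5⟩ (ctr c) = 0 ∧ h ⟨5⟩ (ctr d) = 0 ∧
      (tv (ctr c) ⟨w⟩ + tv (ctr d) ⟨w⟩ = ⟨10⟩ ∨ tv (ctr c) ⟨w⟩ + tv (ctr d) ⟨w⟩ = ⟨10⟩ + ⟨5⟩ ∨
        B (tv (ctr c) ⟨w⟩ + ⟨w⟩) (tv (ctr d) ⟨w⟩ + ⟨w⟩) = true) := by decide +kernel

theorem functional_sep : ∀ b : Fin 256, (⟨b⟩ : Vt) ≠ 0 → (⟨b⟩ : Vt) ≠ ⟨5⟩ →
    ∃ u : Fin 256, B ⟨5⟩ ⟨u⟩ = false ∧ B ⟨b⟩ ⟨u⟩ = true := by decide +kernel

theorem functional_ne : ∀ a : Fin 256, (⟨a⟩ : Vt) ≠ 0 → ∃ u : Fin 256, B ⟨a⟩ ⟨u⟩ = true := by decide +kernel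

theorem half_count : ∀ a : Fin 256, (⟨a⟩ : Vt) ≠ 0 → ((List.finRange 256).countP fun v => !B ⟨a⟩ ⟨v⟩) = 128 := by
  decide +kernel

end Cfsg.Lib.USixType
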