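import Cfsg.Agent.USixType.Coord
import Cfsg.Agent.USixType.Facts

/-!
# Working with coordinates
-/

set_option autoImplicit false
set_option Elab.async false

namespace Cfsg.Lib.USixType

open Subgroup

universe u

variable {G : Type u} [Group G] {z : G} {J : Subgroup G}

namespace Coord

variable (c : Coord z J)
include c

theorem z_sq : z * z = 1 := by rw [← pow_two, ← c.order, pow_orderOf_eq_one]

theorem z_ne_one : z ≠ 1 := fun e => by
  have := c.order; rw [e, orderOf_one] at this; exact absurd this (by norm_num)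

theorem z_inv : z⁻¹ = z := inv_eq_of_mul_eq_one_left c.z_sq

theorem zp_mul (a b : Bool) : zp z a * zp z b = zp z (a.xor b) := by
  cases a <;> cases b <;> simp [zp, c.z_sq]

theorem zp_inj {a b : Bool} (e : zp z a = zp z b) : a = b := by
  cases a <;> cases b <;> simp_all [zp, c.z_ne_one, c.z_ne_one.symm]

theorem zp_mem (b : Bool) : zp z b ∈ J := by cases b <;> simp [zp, c.mem, one_mem]

omit c in
theorem zp_comm {q : G} (h : Commute q z) (b : Bool) : Commute q (zp z b) := by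
  cases b
  · exact Commute.one_right q
  · exact h

theorem β_one : c.β 1 = 0 := (c.β_ker 1 (one_mem J)).2 (Or.inl rfl)

theorem β_z : c.β z = 0 := (c.β_ker z c.mem).2 (Or.inr rfl)

theorem β_zp (b : Bool) : c.β (zp z b) = 0 := by cases b <;> simp [zp, c.β_one, c.β_z]

theorem β_inv {q : G} (hq : q ∈ J) : c.β q⁻¹ = c.β q := by
  have := c.β_mul q hq q⁻¹ (inv_mem hq)
  rw [mul_inv_cancel, c.β_one] at this
  exact (eq_neg_of_add_eq_zero_right this.symm).trans (Vt.neg_eq _)

theorem β_mul_zp {q : G} (hq : q ∈ J) (b : Bool) : c.β (q * zp z b) = c.β q := by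
  rw [c.β_mul q hq _ (c.zp_mem b), c.β_zp, add_zero]

theorem eq_or_mul_z {p q : G} (hp : p ∈ J) (hq : q ∈ J) (e : c.β p = c.β q) : ∃ b, q = p * zp z b := by
  have h0 : c.β (p⁻¹ * q) = 0 := by rw [c.β_mul _ (inv_mem hp) q hq, c.β_inv hp, e, Vt.add_self]
  rcases (c.β_ker _ (mul_mem (inv_mem hp) hq)).1 h0 with h | h
  · exact ⟨false, by rw [zp, if_neg Bool.false_ne_true, mul_one]; exact (inv_mul_eq_one.1 h).symm⟩
  · exact ⟨true, by rw [zp, if_pos rfl, ← h, mul_inv_cancel_left]⟩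

/-- A commutator in the core. -/
theorem swap {p q : G} (hp : p ∈ J) (hq : q ∈ J) : p * q = q * p * zp z (B (c.β p) (c.β q)) := by
  have e := c.comm p hp q hq
  rw [(Coord.zp_comm (c.le _ (mul_mem hq hp)) _).eq, ← e]
  group

theorem commute_iff {p q : G} (hp : p ∈ J) (hq : q ∈ J) : Commute p q ↔ B (c.β p) (c.β q) = false := by
  have e := c.comm p hp q hq
  constructor
  · intro h
    apply c.zp_inj
    rw [← e, h.eq]
    simp [zp]
  · intro h
    show p * q = q * p
    rw [c.swap hp hq, h]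
    simp [zp]

theorem π_one : c.π 1 = 1 := (c.π_ker 1 (Commute.one_left z)).2 (one_mem J)

theorem π_inv {h : G} (hh : Commute h z) : c.π h⁻¹ = (c.π h)⁻¹ := by
  have := c.π_mul h⁻¹ h hh.inv_left hh
  rw [inv_mul_cancel, c.π_one] at this
  exact eq_inv_of_mul_eq_one_left this.symm

theorem π_of_mem {q : G} (hq : q ∈ J) : c.π q = 1 := (c.π_ker q (c.le q hq)).2 hq

theorem π_lin {h : G} (hh : Commute h z) : Lin (c.π h) := lin_of_mem (c.π_mem h hh)

theorem conj_zp {h : G} (hh : Commute h z) (b : Bool) : h * zp z b * h⁻¹ = zp z b := by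
  rw [(Coord.zp_comm hh b).eq, mul_inv_cancel_right]

/-- The coordinates after an element of the unitary group. -/
def twist (u : Equiv.Perm Vt) (hu : u ∈ U) : Coord z J where
  β q := u (c.β q)
  π h := u * c.π h * u⁻¹
  order := c.order
  le := c.le
  norm := c.norm
  mem := c.mem
  card := c.card
  β_mul p hp q hq := by rw [c.β_mul p hp q hq, (lin_of_mem hu).map_add]
  β_surj v := by
    obtain ⟨q, hq, e⟩ := c.β_surj (u⁻¹ v)
    exact ⟨q, hq, by rw [e]; exact u.apply_symm_apply v⟩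
  β_ker q hq := by
    rw [← c.β_ker q hq]
    exact ⟨fun e => u.injective (e.trans (lin_of_mem hu).map_zero.symm), fun e => by rw [e, (lin_of_mem hu).map_zero]⟩
  sq q hq := by
    rw [c.sq q hq, Q, Q, (lin_of_mem hu).map_h]
  comm p hp q hq := by
    rw [c.comm p hp q hq, B, B, (lin_of_mem hu).map_h]
  π_mem h hh := mul_mem (mul_mem hu (c.π_mem h hh)) (inv_mem hu)
  π_mul h k hh hk := by rw [c.π_mul h k hh hk]; group
  π_ker h hh := by rw [← c.π_ker h hh, conj_eq_one_iff]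
  π_surj g hg := by
    obtain ⟨h, hh, e⟩ := c.π_surj (u⁻¹ * g * u) (mul_mem (mul_mem (inv_mem hu) hg) hu)
    exact ⟨h, hh, by rw [e]; group⟩
  equiv h hh q hq := by
    rw [c.equiv h hh q hq]
    simp only [Equiv.Perm.mul_apply, Equiv.Perm.coe_inv, Equiv.symm_apply_apply]

theorem twist_β (u : Equiv.Perm Vt) (hu : u ∈ U) (q : G) : (c.twist u hu).β q = u (c.β q) := rfl

theorem twist_π (u : Equiv.Perm Vt) (hu : u ∈ U) (h : G) : (c.twist u hu).π h = u * c.π h * u⁻¹ := rfl

omit c in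
theorem map_commute {z h : G} (g : G) (hh : Commute h (g * z * g⁻¹)) : Commute (g⁻¹ * h * g) z := by
  show g⁻¹ * h * g * z = z * (g⁻¹ * h * g)
  calc g⁻¹ * h * g * z = g⁻¹ * (h * (g * z * g⁻¹)) * g := by group
    _ = g⁻¹ * ((g * z * g⁻¹) * h) * g := by rw [hh.eq]
    _ = _ := by group

theorem mem_conj {g q : G} : q ∈ J.map (MulAut.conj g).toMonoidHom ↔ g⁻¹ * q * g ∈ J := by
  constructor
  · rintro ⟨p, hp, rfl⟩
    show g⁻¹ * (g * p * g⁻¹) * g ∈ J
    rwa [show g⁻¹ * (g * p * g⁻¹) * g = p by group]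
  · intro hq
    exact ⟨g⁻¹ * q * g, hq, by show g * (g⁻¹ * q * g) * g⁻¹ = q; group⟩

/-- The coordinates at a conjugate. -/
def map (g : G) : Coord (g * z * g⁻¹) (J.map (MulAut.conj g).toMonoidHom) where
  β q := c.β (g⁻¹ * q * g)
  π h := c.π (g⁻¹ * h * g)
  order := by
    rw [← c.order]
    exact orderOf_injective (MulAut.conj g).toMonoidHom (MulAut.conj g).injective z
  le q hq := by
    have h := c.le _ (c.mem_conj.1 hq)
    show q * (g * z * g⁻¹) = g * z * g⁻¹ * q
    calc q * (g * z * g⁻¹) = g * ((g⁻¹ * q * g) * z) * g⁻¹ := by group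
      _ = g * (z * (g⁻¹ * q * g)) * g⁻¹ := by rw [h.eq]
      _ = _ := by group
  norm h hh q hq := c.mem_conj.2 (by
    rw [show g⁻¹ * (h * q * h⁻¹) * g = (g⁻¹ * h * g) * (g⁻¹ * q * g) * (g⁻¹ * h * g)⁻¹ by group]
    exact c.norm _ (Coord.map_commute g hh) _ (c.mem_conj.1 hq))
  mem := ⟨z, c.mem, rfl⟩
  card := by rw [Subgroup.card_map_of_injective (MulAut.conj g).injective]; exact c.card
  β_mul p hp q hq := by
    rw [show g⁻¹ * (p * q) * g = (g⁻¹ * p * g) * (g⁻¹ * q * g) by group]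
    exact c.β_mul _ (c.mem_conj.1 hp) _ (c.mem_conj.1 hq)
  β_surj v := by
    obtain ⟨q, hq, e⟩ := c.β_surj v
    exact ⟨g * q * g⁻¹, ⟨q, hq, rfl⟩, by rw [show g⁻¹ * (g * q * g⁻¹) * g = q by group, e]⟩
  β_ker q hq := by
    rw [c.β_ker _ (c.mem_conj.1 hq)]
    refine or_congr ⟨fun e => ?_, fun e => by rw [e]; group⟩ ⟨fun e => ?_, fun e => by rw [e]; group⟩
    · rw [show q = g * (g⁻¹ * q * g) * g⁻¹ by group, e]; group
    · rw [show q = g * (g⁻¹ * q * g) * g⁻¹ by group, e]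
  sq q hq := by
    rw [show q * q = g * ((g⁻¹ * q * g) * (g⁻¹ * q * g)) * g⁻¹ by group, c.sq _ (c.mem_conj.1 hq)]
    cases Q (c.β (g⁻¹ * q * g)) <;> simp [zp]
  comm p hp q hq := by
    rw [show p * q * p⁻¹ * q⁻¹ = g * ((g⁻¹ * p * g) * (g⁻¹ * q * g) * (g⁻¹ * p * g)⁻¹ * (g⁻¹ * q * g)⁻¹) * g⁻¹ by group,
      c.comm _ (c.mem_conj.1 hp) _ (c.mem_conj.1 hq)]
    cases B (c.β (g⁻¹ * p * g)) (c.β (g⁻¹ * q * g)) <;> simp [zp]
  π_mem h hh := c.π_mem _ (Coord.map_commute g hh)
  π_mul h k hh hk := by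
    rw [show g⁻¹ * (h * k) * g = (g⁻¹ * h * g) * (g⁻¹ * k * g) by group]
    exact c.π_mul _ _ (Coord.map_commute g hh) (Coord.map_commute g hk)
  π_ker h hh := (c.π_ker _ (Coord.map_commute g hh)).trans c.mem_conj.symm
  π_surj u hu := by
    obtain ⟨h, hh, e⟩ := c.π_surj u hu
    refine ⟨g * h * g⁻¹, ?_, by rw [show g⁻¹ * (g * h * g⁻¹) * g = h by group, e]⟩
    show g * h * g⁻¹ * (g * z * g⁻¹) = g * z * g⁻¹ * (g * h * g⁻¹)
    calc _ = g * (h * z) * g⁻¹ := by group
      _ = g * (z * h) * g⁻¹ := by rw [hh.eq]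
      _ = _ := by group
  equiv h hh q hq := by
    rw [show g⁻¹ * (h * q * h⁻¹) * g = (g⁻¹ * h * g) * (g⁻¹ * q * g) * (g⁻¹ * h * g)⁻¹ by group]
    exact c.equiv _ (Coord.map_commute g hh) _ (c.mem_conj.1 hq)

/-- A subgroup of the core containing the centre is twice as large as its set of vectors. -/
theorem card_pre [Finite G] {K : Subgroup G} (hK : K ≤ J) (hz : z ∈ K) :
    Nat.card ↥K = 2 * (c.β '' (K : Set G)).ncard := by
  classical
  let f : ↥K →* Multiplicative Vt :=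
    { toFun := fun q => Multiplicative.ofAdd (c.β q)
      map_one' := congrArg Multiplicative.ofAdd c.β_one
      map_mul' := fun p q => congrArg Multiplicative.ofAdd (c.β_mul p (hK p.2) q (hK q.2)) }
  have hker : f.ker = zpowers (⟨z, hz⟩ : ↥K) := by
    refine le_antisymm (fun q hq => ?_) (zpowers_le.2 (congrArg Multiplicative.ofAdd c.β_z))
    rcases (c.β_ker q (hK q.2)).1 hq with e | e
    · rw [show q = 1 from Subtype.ext e]; exact one_mem _
    · rw [show q = ⟨z, hz⟩ from Subtype.ext e]; exact mem_zpowers _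
  have h := Subgroup.card_eq_card_quotient_mul_card_subgroup f.ker
  rw [Nat.card_congr (QuotientGroup.quotientKerEquivRange f).toEquiv] at h
  have hr : Nat.card f.range = (c.β '' (K : Set G)).ncard := by
    rw [← Nat.card_coe_set_eq]
    refine Nat.card_congr ⟨fun v => ⟨Multiplicative.toAdd v.1, ?_⟩, fun v => ⟨Multiplicative.ofAdd v.1, ?_⟩,
      fun _ => rfl, fun _ => rfl⟩
    · obtain ⟨q, hq⟩ := v.2
      exact ⟨q, q.2, congrArg Multiplicative.toAdd hq⟩
    · obtain ⟨q, hq, e⟩ := v.2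
      exact ⟨⟨q, hq⟩, congrArg Multiplicative.ofAdd e⟩
  have hz2 : Nat.card f.ker = 2 := by
    rw [hker, Nat.card_zpowers, ← orderOf_injective K.subtype K.subtype_injective]
    exact c.order
  rw [h, hr, hz2, mul_comm]

/-- The order of a subgroup of the centraliser through the kernel and the image. -/
theorem card_split [Finite G] {K : Subgroup G} (hK : ∀ h ∈ K, Commute h z) :
    Nat.card ↥K = Nat.card ↥(K ⊓ J) * (c.π '' (K : Set G)).ncard := by
  let f : ↥K →* Equiv.Perm Vt :=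
    { toFun := fun h => c.π h
      map_one' := c.π_one
      map_mul' := fun p q => c.π_mul p q (hK p p.2) (hK q q.2) }
  have h := Subgroup.card_eq_card_quotient_mul_card_subgroup f.ker
  rw [Nat.card_congr (QuotientGroup.quotientKerEquivRange f).toEquiv] at h
  have hr : Nat.card f.range = (c.π '' (K : Set G)).ncard := by
    rw [← Nat.card_coe_set_eq]
    refine Nat.card_congr (Equiv.subtypeEquivRight fun v => ?_)
    exact ⟨fun ⟨q, e⟩ => ⟨q, q.2, e⟩, fun ⟨q, hq, e⟩ => ⟨⟨q, hq⟩, e⟩⟩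
  have hk : Nat.card f.ker = Nat.card ↥(K ⊓ J) := Nat.card_congr
    { toFun := fun q => ⟨q.1.1, q.1.2, (c.π_ker _ (hK _ q.1.2)).1 q.2⟩
      invFun := fun q => ⟨⟨q.1, q.2.1⟩, (c.π_ker _ (hK _ q.2.1)).2 q.2.2⟩
      left_inv := fun _ => rfl
      right_inv := fun _ => rfl }
  rw [h, hr, hk, mul_comm]

/-- Counting by keys. -/
theorem ncard_keys_le {S : Set G} (hS : ∀ h ∈ S, Commute h z) {L : List ℕ} (p : ℕ → Bool)
    (hp : ∀ h ∈ S, key (c.π h) ∈ L ∧ p (key (c.π h)) = true) : (c.π '' S).ncard ≤ L.countP p := by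
  classical
  refine le_trans (Set.ncard_le_ncard_of_injOn key (t := ((L.filter p).toFinset : Set ℕ)) ?_ ?_
    (Finset.finite_toSet _)) ?_
  · rintro _ ⟨h, hh, rfl⟩
    simp [hp h hh]
  · rintro _ ⟨a, ha, rfl⟩ _ ⟨b, hb, rfl⟩ e
    exact key_inj (c.π_mem a (hS a ha)) (c.π_mem b (hS b hb)) e
  · rw [Set.ncard_coe_finset, List.countP_eq_length_filter]
    exact List.toFinset_card_le _

end Coord

end Cfsg.Lib.USixType
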