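import Cfsg.Agent.USixType.Natural
import Cfsg.Agent.USixType.Interface
import Cfsg.Agent.PGroups.Basic

/-!
# Coordinates on the centraliser of a transvection
-/

set_option autoImplicit false
set_option Elab.async false
set_option maxRecDepth 100000
set_option linter.style.haveILetI false

namespace Cfsg.Lib.USixType

open Subgroup

universe u

variable {G : Type u} [Group G]

/-- The central element or one. -/
def zp (z : G) (b : Bool) : G := if b then z else 1

/-- Coordinates: the core as a double cover of the vectors, the centraliser acting through the unitary group. -/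
structure Coord (z : G) (J : Subgroup G) where
  /-- The vector of an element of the core. -/
  β : G → Vt
  /-- The map of an element of the centraliser. -/
  π : G → Equiv.Perm Vt
  order : orderOf z = 2
  le : ∀ q ∈ J, Commute q z
  norm : ∀ h, Commute h z → ∀ q ∈ J, h * q * h⁻¹ ∈ J
  mem : z ∈ J
  card : Nat.card ↥J = 2 ^ 9
  β_mul : ∀ p ∈ J, ∀ q ∈ J, β (p * q) = β p + β q
  β_surj : ∀ v, ∃ q ∈ J, β q = v
  β_ker : ∀ q ∈ J, β q = 0 ↔ q = 1 ∨ q = z
  sq : ∀ q ∈ J, q * q = zp z (Q (β q))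
  comm : ∀ p ∈ J, ∀ q ∈ J, p * q * p⁻¹ * q⁻¹ = zp z (B (β p) (β q))
  π_mem : ∀ h, Commute h z → π h ∈ U
  π_mul : ∀ h k, Commute h z → Commute k z → π (h * k) = π h * π k
  π_ker : ∀ h, Commute h z → (π h = 1 ↔ h ∈ J)
  π_surj : ∀ g ∈ U, ∃ h, Commute h z ∧ π h = g
  equiv : ∀ h, Commute h z → ∀ q ∈ J, β (h * q * h⁻¹) = π h (β q)

theorem vec_words : ∀ v : Fin 256, (⟨v⟩ : Vt) = 0 ∨
    ev (wordK (vecWord.getD v.val [])) (if h ⟨v⟩ ⟨v⟩ = 0 then ⟨5⟩ else ⟨1⟩) = ⟨v⟩ := by decide +kernel

theorem singular_triple : ∃ a b c : Vt, a ≠ 0 ∧ b ≠ 0 ∧ c ≠ 0 ∧ a + b ≠ 0 ∧ a + c ≠ 0 ∧ b + c ≠ 0 ∧ a + b + c ≠ 0 ∧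
    h a a = 0 ∧ h b b = 0 ∧ h c c = 0 ∧ h (a + b) (a + b) = 0 ∧ h (a + c) (a + c) = 0 ∧ h (b + c) (b + c) = 0 ∧
    h (a + b + c) (a + b + c) = 0 := ⟨vt 5, vt 10, vt 80, by decide +kernel⟩

theorem Q_eq_phi (v : Vt) : Q v = phi v v := by obtain ⟨i⟩ := v; exact ((h_self_small i).2).symm

theorem Q_add (u v : Vt) : Q (u + v) = ((Q u).xor (Q v)).xor (B u v) := by
  simp only [Q_eq_phi, phi_add_left, phi_add_right, ← phi_swap u v]
  cases phi u u <;> cases phi v v <;> cases phi u v <;> cases phi v u <;> rfl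

/-- An invariant quadratic form is the standard one, if it is not zero. -/
theorem form_unique (q : Vt → Bool) (c : Vt → Vt → Bool)
    (hq : ∀ u v, q (u + v) = ((q u).xor (q v)).xor (c u v))
    (hc : ∀ u v w, c (u + v) w = (c u w).xor (c v w)) (hc' : ∀ u v w, c w (u + v) = (c w u).xor (c w v))
    (hinv : ∀ g ∈ U, ∀ v, q (g v) = q v) (hne : ∃ v, q v = true) : q = Q ∧ c = B := by
  have hconst : ∀ v : Vt, v ≠ 0 → q v = if h v v = 0 then q ⟨5⟩ else q ⟨1⟩ := by
    intro v hv
    obtain ⟨i⟩ := v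
    have e := (vec_words i).resolve_left hv
    rw [← key_word, ev_key (wordP_mem _)] at e
    conv_lhs => rw [← e, hinv _ (wordP_mem _)]
    split <;> rfl
  have h0 : q 0 = false := by
    have z : c 0 0 = false := by have := hc 0 0 0; rw [add_zero] at this; revert this; cases c 0 0 <;> simp
    have := hq 0 0; rw [add_zero, z] at this; revert this; cases q 0 <;> simp
  have ha : q ⟨5⟩ = false := by
    obtain ⟨x, y, w, n1, n2, n3, n4, n5, n6, n7, i1, i2, i3, i4, i5, i6, i7⟩ := singular_triple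
    have e : (q (x + y + w)).xor (((q (x + y)).xor ((q (x + w)).xor ((q (y + w)).xor ((q x).xor
        ((q y).xor (q w))))))) = false := by
      rw [hq (x + y) w, hq x y, hq x w, hq y w, hc]
      cases q x <;> cases q y <;> cases q w <;> cases c x y <;> cases c x w <;> cases c y w <;> rfl
    rw [hconst _ n1, hconst _ n2, hconst _ n3, hconst _ n4, hconst _ n5, hconst _ n6, hconst _ n7, if_pos i1,
      if_pos i2, if_pos i3, if_pos i4, if_pos i5, if_pos i6, if_pos i7] at e
    revert e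
    cases q ⟨5⟩ <;> simp
  have hs : ∀ v : Fin 256, h ⟨v⟩ ⟨v⟩ = 0 ∨ h ⟨v⟩ ⟨v⟩ = 1 := fun v => by have := (h_self_small v).1; omega
  obtain ⟨v, hv⟩ := hne
  have hv0 : v ≠ 0 := fun e => by rw [e, h0] at hv; exact Bool.false_ne_true hv
  have hb1 : q ⟨1⟩ = true := by
    rw [hconst v hv0, ha] at hv
    revert hv
    split <;> simp
  have eq : ∀ w, q w = Q w := fun w => by
    by_cases hw : w = 0
    · rw [hw, h0]; decide +kernel
    · rw [hconst w hw, ha, hb1, Q]
      obtain ⟨i⟩ := w
      rcases hs i with e | e <;> simp [e]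
  refine ⟨funext eq, funext fun u => funext fun w => ?_⟩
  have e1 := hq u w
  rw [eq, eq, eq, Q_add] at e1
  revert e1
  cases Q u <;> cases Q w <;> cases B u w <;> cases c u w <;> simp

section build

variable [Finite G] {z : G} {J : Subgroup G}

theorem center_cases (S : NatSetting z J) (c : ↥J) (hc : c ∈ Subgroup.center ↥J) : (c : G) = 1 ∨ (c : G) = z := by
  let zJ : ↥J := ⟨z, S.mem⟩
  have hz : zJ ∈ Subgroup.center ↥J := Subgroup.mem_center_iff.2 fun q => Subtype.ext
    (Subgroup.mem_centralizer_singleton_iff.1 (S.le q.2))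
  have h2 : zpowers zJ = Subgroup.center ↥J := Subgroup.eq_of_le_of_card_ge (zpowers_le.2 hz) (by
    rw [S.extra.2, Nat.card_zpowers, ← orderOf_injective J.subtype J.subtype_injective zJ]
    exact le_of_eq S.order.symm)
  rw [← h2, Subgroup.mem_zpowers_iff] at hc
  obtain ⟨n, rfl⟩ := hc
  have hzz : z ^ (2 : ℤ) = 1 := by
    rw [show (2 : ℤ) = ((2 : ℕ) : ℤ) from rfl, zpow_natCast, ← S.order, pow_orderOf_eq_one]
  rw [SubgroupClass.coe_zpow]
  rcases Int.even_or_odd n with ⟨k, rfl⟩ | ⟨k, rfl⟩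
  · left; rw [← two_mul, zpow_mul, hzz, one_zpow]
  · right; rw [zpow_add, zpow_mul, hzz, one_zpow, one_mul, zpow_one]

theorem square_center (S : NatSetting z J) (q : ↥J) : q * q ∈ Subgroup.center ↥J := by
  haveI : Fact (Nat.Prime 2) := ⟨Nat.prime_two⟩
  rw [← S.extra.1.2.1, ← pow_two]
  exact Cfsg.Lib.PGroups.pow_mem_frattini S.extra.1.1 q

omit [Finite G] in
theorem comm_center (S : NatSetting z J) (p q : ↥J) : p * q * p⁻¹ * q⁻¹ ∈ Subgroup.center ↥J := by
  rw [← S.extra.1.2.2, commutator_eq_closure]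
  exact subset_closure ⟨p, q, rfl⟩

/-- Coordinates exist. -/
theorem exists_coord (S : NatSetting z J) : Nonempty (Coord z J) := by
  classical
  haveI : Fact (Nat.Prime 3) := ⟨by norm_num⟩
  obtain ⟨f, hf, hker⟩ := S.quot (ZMod 3) (ZMod.card 3)
  obtain ⟨e⟩ := equiv_forty (K := ZMod 3) (ZMod.card 3)
  let C := Subgroup.centralizer ({z} : Set G)
  let π0 : ↥C →* ↥U := e.symm.toMonoidHom.comp f
  have hπ0 : Function.Surjective π0 := e.symm.surjective.comp hf
  have hπker : ∀ h, π0 h = 1 ↔ (h : G) ∈ J := fun h => by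
    show e.symm (f h) = 1 ↔ _
    rw [MulEquiv.map_eq_one_iff, hker]
  letI : CommGroup (↥J ⧸ Subgroup.center ↥J) :=
    { (inferInstance : Group (↥J ⧸ Subgroup.center ↥J)) with
      mul_comm := fun a b => by
        induction a using QuotientGroup.induction_on with
        | H p =>
        induction b using QuotientGroup.induction_on with
        | H q =>
        refine (QuotientGroup.eq.2 ?_)
        rw [show (p * q)⁻¹ * (q * p) = q⁻¹ * p⁻¹ * q⁻¹⁻¹ * p⁻¹⁻¹ by group]
        exact comm_center S _ _ }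
  let V := Additive (↥J ⧸ Subgroup.center ↥J)
  let conjJ : ↥C → (↥J →* ↥J) := fun h =>
    { toFun := fun q => ⟨(h : G) * q * (h : G)⁻¹, (Subgroup.mem_normalizer_iff.1 (S.norm h.2) _).1 q.2⟩
      map_one' := Subtype.ext (by simp)
      map_mul' := fun p q => Subtype.ext (by simp only [Subgroup.coe_mul]; group) }
  have hpres : ∀ h, Subgroup.center ↥J ≤ (Subgroup.center ↥J).comap (conjJ h) := by
    intro h c hc
    rw [Subgroup.mem_comap, show conjJ h c = c from Subtype.ext ?_]
    · exact hc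
    · show (h : G) * c * (h : G)⁻¹ = c
      rcases center_cases S c hc with e | e <;> rw [e]
      · group
      · rw [Subgroup.mem_centralizer_singleton_iff.1 h.2, mul_inv_cancel_right]
  let act : ↥C →* AddMonoid.End V :=
    { toFun := fun h => MonoidHom.toAdditive (QuotientGroup.map _ _ (conjJ h) (hpres h))
      map_one' := by
        refine AddMonoidHom.ext fun v => ?_
        obtain ⟨q, rfl⟩ := QuotientGroup.mk_surjective (Additive.toMul v)
        exact congrArg (fun x => Additive.ofMul (QuotientGroup.mk x))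
          (show conjJ 1 q = q from Subtype.ext (by show (1 : G) * q * 1⁻¹ = q; group))
      map_mul' := fun g h => by
        refine AddMonoidHom.ext fun v => ?_
        obtain ⟨q, rfl⟩ := QuotientGroup.mk_surjective (Additive.toMul v)
        exact congrArg (fun x => Additive.ofMul (QuotientGroup.mk x))
          (show conjJ (g * h) q = conjJ g (conjJ h q) from Subtype.ext (by
            show ((g : G) * h) * q * ((g : G) * h)⁻¹ = g * ((h : G) * q * (h : G)⁻¹) * (g : G)⁻¹; group)) }
  have hact : ∀ h : ↥C, (h : G) ∈ J → act h = 1 := fun h hh => by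
    refine AddMonoidHom.ext fun v => ?_
    obtain ⟨q, rfl⟩ := QuotientGroup.mk_surjective (Additive.toMul v)
    show Additive.ofMul (QuotientGroup.mk (conjJ h q)) = Additive.ofMul (QuotientGroup.mk q)
    refine congrArg Additive.ofMul (QuotientGroup.eq.2 ?_)
    have hc := comm_center S (⟨h, hh⟩ : ↥J) q⁻¹
    rw [show (conjJ h q)⁻¹ * q = ⟨h, hh⟩ * q⁻¹ * (⟨h, hh⟩ : ↥J)⁻¹ * (q⁻¹)⁻¹ from Subtype.ext (by
      simp only [Subgroup.coe_mul, Subgroup.coe_inv]; show ((h : G) * q * (h : G)⁻¹)⁻¹ * q = _; group)]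
    exact hc
  have hsec : ∀ g : ↥U, ∃ h, π0 h = g := hπ0
  choose sec hsecπ using hsec
  have hwd : ∀ a b, π0 a = π0 b → act a = act b := fun a b hab => by
    have : act (a * b⁻¹) = 1 := hact _ ((hπker _).1 (by rw [map_mul, map_inv, hab, mul_inv_cancel]))
    calc act a = act (a * b⁻¹ * b) := by rw [inv_mul_cancel_right]
      _ = act b := by rw [map_mul, this, one_mul]
  let ρ : ↥U →* AddMonoid.End V :=
    { toFun := fun g => act (sec g)
      map_one' := by rw [hwd (sec 1) 1 (by rw [hsecπ, map_one]), map_one]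
      map_mul' := fun g h => by rw [← map_mul]; exact hwd _ _ (by rw [map_mul, hsecπ, hsecπ, hsecπ]) }
  haveI : Finite V := inferInstanceAs (Finite (↥J ⧸ Subgroup.center ↥J))
  have hcard : Nat.card V = 256 := by
    have := Subgroup.card_eq_card_quotient_mul_card_subgroup (Subgroup.center ↥J)
    rw [S.card, S.extra.2] at this
    show Nat.card (↥J ⧸ Subgroup.center ↥J) = 256
    omega
  have h2 : ∀ v : V, v + v = 0 := fun v => by
    obtain ⟨q, rfl⟩ := QuotientGroup.mk_surjective (Additive.toMul v)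
    exact congrArg Additive.ofMul ((QuotientGroup.eq_one_iff _).2 (square_center S q))
  have hnofix : ∀ v : V, (∀ g, ρ g v = v) → v = 0 := fun v hv => by
    obtain ⟨q, rfl⟩ := QuotientGroup.mk_surjective (Additive.toMul v)
    refine congrArg Additive.ofMul ((QuotientGroup.eq_one_iff q).2 ?_)
    have hq : (q : G) ∈ Subgroup.zpowers z := S.nofix q q.2 fun h hh => by
      have e1 := hv (π0 ⟨h, hh⟩)
      rw [show ρ (π0 ⟨h, hh⟩) = act ⟨h, hh⟩ from hwd _ _ (hsecπ _)] at e1
      have e2 : ((conjJ ⟨h, hh⟩ q : ↥J) : ↥J ⧸ Subgroup.center ↥J) = (q : ↥J ⧸ Subgroup.center ↥J) :=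
        congrArg Additive.toMul e1
      have e3 := QuotientGroup.eq.1 e2.symm
      have e4 : h * q * h⁻¹ * (q : G)⁻¹ = (q : G) * ((q⁻¹ * conjJ ⟨h, hh⟩ q : ↥J) : G) * (q : G)⁻¹ := by
        simp only [Subgroup.coe_mul, Subgroup.coe_inv]
        show _ = (q : G) * ((q : G)⁻¹ * (h * q * h⁻¹)) * (q : G)⁻¹
        group
      rw [e4]
      rcases center_cases S _ e3 with e | e <;> rw [e]
      · rw [mul_one, mul_inv_cancel]; exact one_mem _
      · rw [Subgroup.mem_centralizer_singleton_iff.1 (S.le q.2), mul_inv_cancel_right]; exact Subgroup.mem_zpowers z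
    have : q ∈ Subgroup.zpowers (⟨z, S.mem⟩ : ↥J) := by
      obtain ⟨n, hn⟩ := hq
      exact ⟨n, Subtype.ext (by simpa using hn)⟩
    refine (zpowers_le.2 ?_) this
    exact Subgroup.mem_center_iff.2 fun q => Subtype.ext (Subgroup.mem_centralizer_singleton_iff.1 (S.le q.2))
  obtain ⟨η, hη⟩ := natural ρ hcard h2 hnofix
  let βJ : ↥J → Vt := fun q => η.symm (Additive.ofMul (QuotientGroup.mk q))
  have βmul : ∀ p q : ↥J, βJ (p * q) = βJ p + βJ q := fun p q => by
    show η.symm (Additive.ofMul (QuotientGroup.mk (p * q))) = η.symm _ + η.symm _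
    rw [← map_add]
    rfl
  have βker : ∀ q : ↥J, βJ q = 0 ↔ q ∈ Subgroup.center ↥J := fun q => by
    show η.symm _ = 0 ↔ _
    rw [EmbeddingLike.map_eq_zero_iff]
    exact QuotientGroup.eq_one_iff q
  have hz : z ≠ 1 := fun e => by have := S.order; rw [e, orderOf_one] at this; exact absurd this (by norm_num)
  have βval : ∀ p q : ↥J, βJ p = βJ q → (p : G) * p = (q : G) * q := by
    intro p q hpq
    have hc : p⁻¹ * q ∈ Subgroup.center ↥J :=
      QuotientGroup.eq.1 (congrArg Additive.toMul (η.symm.injective hpq))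
    have e2 := Subgroup.mem_center_iff.1 hc
    have e3 : q * q = p * p * ((p⁻¹ * q) * (p⁻¹ * q)) := by
      calc q * q = p * (p⁻¹ * q) * (p * (p⁻¹ * q)) := by group
        _ = p * ((p⁻¹ * q) * p) * (p⁻¹ * q) := by group
        _ = p * (p * (p⁻¹ * q)) * (p⁻¹ * q) := by rw [e2 p]
        _ = _ := by group
    have e4 : ((p⁻¹ * q : ↥J) : G) * ((p⁻¹ * q : ↥J) : G) = 1 := by
      rcases center_cases S _ hc with e | e <;> rw [e]
      · rw [one_mul]
      · rw [← pow_two, ← S.order, pow_orderOf_eq_one]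
    have e5 := congrArg Subtype.val e3
    simp only [Subgroup.coe_mul] at e5
    simp only [Subgroup.coe_mul] at e4
    rw [e5, e4, mul_one]
  let lift : Vt → ↥J := fun v => (QuotientGroup.mk_surjective (Additive.toMul (η v))).choose
  have hlift : ∀ v, βJ (lift v) = v := fun v => by
    show η.symm (Additive.ofMul _) = v
    rw [(QuotientGroup.mk_surjective (Additive.toMul (η v))).choose_spec]
    exact η.symm_apply_apply v
  let qf : Vt → Bool := fun v => decide ((lift v : G) * lift v = z)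
  have hqf : ∀ q : ↥J, (q : G) * q = zp z (qf (βJ q)) := fun q => by
    have e := βval q (lift (βJ q)) (hlift _).symm
    rw [e]
    rcases center_cases S _ (square_center S (lift (βJ q))) with e2 | e2
    · rw [Subgroup.coe_mul] at e2
      rw [e2, show qf (βJ q) = false from decide_eq_false (by rw [e2]; exact Ne.symm hz)]
      rfl
    · rw [Subgroup.coe_mul] at e2
      rw [e2, show qf (βJ q) = true from decide_eq_true e2]
      rfl
  have zp_inj : ∀ a b, zp z a = zp z b → a = b := fun a b => by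
    cases a <;> cases b <;> simp [zp, hz, hz.symm]
  have zp_mul : ∀ a b, zp z a * zp z b = zp z (a.xor b) := fun a b => by
    cases a <;> cases b <;> simp [zp, ← pow_two, show z ^ 2 = 1 from S.order ▸ pow_orderOf_eq_one z]
  let cf : Vt → Vt → Bool := fun u v => decide ((lift u : G) * lift v * (lift u : G)⁻¹ * (lift v : G)⁻¹ = z)
  have hcomm : ∀ p q : ↥J, ((p : G) * q * (p : G)⁻¹ * (q : G)⁻¹) = zp z (cf (βJ p) (βJ q)) := by
    intro p q
    obtain ⟨c, hc, ec⟩ : ∃ c ∈ Subgroup.center ↥J, p = lift (βJ p) * c :=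
      ⟨(lift (βJ p))⁻¹ * p, QuotientGroup.eq.1 (congrArg Additive.toMul (η.symm.injective (hlift (βJ p)))),
        by group⟩
    obtain ⟨d, hd, ed⟩ : ∃ d ∈ Subgroup.center ↥J, q = lift (βJ q) * d :=
      ⟨(lift (βJ q))⁻¹ * q, QuotientGroup.eq.1 (congrArg Additive.toMul (η.symm.injective (hlift (βJ q)))),
        by group⟩
    have e : p * q * p⁻¹ * q⁻¹ = lift (βJ p) * lift (βJ q) * (lift (βJ p))⁻¹ * (lift (βJ q))⁻¹ := by
      have c1 := Subgroup.mem_center_iff.1 hc
      have d1 := Subgroup.mem_center_iff.1 hd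
      conv_lhs => rw [ec, ed]
      set a := lift (βJ p)
      set b := lift (βJ q)
      calc a * c * (b * d) * (a * c)⁻¹ * (b * d)⁻¹ = a * (c * (b * d)) * c⁻¹ * a⁻¹ * d⁻¹ * b⁻¹ := by group
        _ = a * ((b * d) * c) * c⁻¹ * a⁻¹ * d⁻¹ * b⁻¹ := by rw [c1 (b * d)]
        _ = a * b * (d * a⁻¹) * d⁻¹ * b⁻¹ := by group
        _ = a * b * (a⁻¹ * d) * d⁻¹ * b⁻¹ := by rw [d1 a⁻¹]
        _ = _ := by group
    have e' := congrArg Subtype.val e
    simp only [Subgroup.coe_mul, Subgroup.coe_inv] at e'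
    rw [e']
    rcases center_cases S _ (comm_center S (lift (βJ p)) (lift (βJ q))) with e2 | e2 <;>
      simp only [Subgroup.coe_mul, Subgroup.coe_inv] at e2
    · rw [e2, show cf (βJ p) (βJ q) = false from decide_eq_false (by rw [e2]; exact Ne.symm hz)]
      rfl
    · rw [e2, show cf (βJ p) (βJ q) = true from decide_eq_true e2]
      rfl
  have hzc : ∀ b, ∀ q : ↥J, (q : G) * zp z b = zp z b * q := fun b q => by
    cases b
    · simp [zp]
    · exact Subgroup.mem_centralizer_singleton_iff.1 (S.le q.2)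
  have hq : ∀ u v, qf (u + v) = ((qf u).xor (qf v)).xor (cf u v) := by
    intro u v
    apply zp_inj
    set p := lift u with hp
    set q := lift v with hq
    have h1 := hqf (p * q)
    rw [βmul, hlift, hlift, Subgroup.coe_mul] at h1
    rw [← h1, ← zp_mul, ← zp_mul, ← hlift u, ← hlift v, ← hqf, ← hqf, ← hcomm]
    show (p : G) * q * ((p : G) * q) = (p : G) * p * ((q : G) * q) * ((p : G) * q * (p : G)⁻¹ * (q : G)⁻¹)
    obtain ⟨b, hb⟩ : ∃ b, (q : G) * q = zp z b := ⟨_, hqf q⟩
    obtain ⟨k, hk⟩ : ∃ k, (p : G) * q * (p : G)⁻¹ * (q : G)⁻¹ = zp z k := ⟨_, hcomm p q⟩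
    have e1 : (p : G) * q = zp z k * ((q : G) * p) := by rw [← hk]; group
    have hkk : zp z k * zp z k = 1 := by rw [zp_mul]; simp [zp]
    have e2 : (q : G) * p = zp z k * ((p : G) * q) := by rw [e1, ← mul_assoc, hkk, one_mul]
    rw [hk, hb]
    calc (p : G) * q * ((p : G) * q) = p * ((q : G) * p) * q := by group
      _ = p * (zp z k * ((p : G) * q)) * q := by rw [e2]
      _ = zp z k * ((p : G) * p) * ((q : G) * q) := by rw [← mul_assoc (p : G) (zp z k), hzc k p]; group
      _ = zp z k * ((p : G) * p * zp z b) := by rw [hb]; group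
      _ = (p : G) * p * zp z b * zp z k := by
          rw [← mul_assoc (zp z k), show zp z k * ((p : G) * p) = (p : G) * p * zp z k from (hzc k (p * p)).symm,
            mul_assoc _ (zp z k), show zp z k * zp z b = zp z b * zp z k by rw [zp_mul, zp_mul, Bool.xor_comm],
            ← mul_assoc]
  have hcl : ∀ u v w, cf (u + v) w = (cf u w).xor (cf v w) := by
    intro u v w
    apply zp_inj
    have e := hcomm (lift u * lift v) (lift w)
    rw [βmul, hlift, hlift, hlift] at e
    rw [← e, ← zp_mul, ← hlift u, ← hlift v, ← hlift w, ← hcomm, ← hcomm]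
    simp only [hlift, Subgroup.coe_mul]
    set a : G := (lift u : G)
    set b : G := (lift v : G)
    set c : G := (lift w : G)
    obtain ⟨k, hk⟩ : ∃ k, b * c * b⁻¹ * c⁻¹ = zp z k := ⟨_, hcomm (lift v) (lift w)⟩
    rw [hk, show a * b * c * (a * b)⁻¹ * c⁻¹ = a * (b * c * b⁻¹ * c⁻¹) * (c * a⁻¹ * c⁻¹) by group, hk, hzc k (lift u)]
    rw [show a * c * a⁻¹ * c⁻¹ * zp z k = ((lift u * lift w * (lift u)⁻¹ * (lift w)⁻¹ : ↥J) : G) * zp z k from rfl,
      hzc k]
    simp only [Subgroup.coe_mul, Subgroup.coe_inv]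
    show zp z k * a * (c * a⁻¹ * c⁻¹) = zp z k * (a * c * a⁻¹ * c⁻¹)
    group
  have hcs : ∀ u v, cf u v = cf v u := fun u v => by
    apply zp_inj
    have a := hcomm (lift u) (lift v)
    have b := hcomm (lift v) (lift u)
    rw [hlift, hlift] at a b
    have hinv : ∀ k, (zp z k)⁻¹ = zp z k := fun k => inv_eq_of_mul_eq_one_left (by rw [zp_mul]; simp [zp])
    rw [← hinv, ← a, ← b]
    group
  have hinvq : ∀ g ∈ U, ∀ v, qf (g v) = qf v := by
    intro g hg v
    apply zp_inj
    have e := hη ⟨g, hg⟩ v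
    set h := sec ⟨g, hg⟩
    have hβ : βJ (conjJ h (lift v)) = g v := by
      apply η.injective
      show η (η.symm _) = _
      rw [η.apply_symm_apply, e]
      show _ = act h (η v)
      conv_rhs => rw [← hlift v]
      show _ = act h (η (η.symm _))
      rw [η.apply_symm_apply]
      rfl
    rw [← hβ, ← hqf, ← hlift v, ← hqf, hlift]
    show ((h : G) * lift v * (h : G)⁻¹) * ((h : G) * lift v * (h : G)⁻¹) = _
    have hzz : (h : G) * z * (h : G)⁻¹ = z := by
      rw [Subgroup.mem_centralizer_singleton_iff.1 h.2, mul_inv_cancel_right]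
    rw [show (h : G) * lift v * (h : G)⁻¹ * ((h : G) * lift v * (h : G)⁻¹) =
      (h : G) * ((lift v : G) * lift v) * (h : G)⁻¹ by group, hqf]
    cases qf (βJ (lift v))
    · simp [zp]
    · exact hzz
  have hnz : ∃ v, qf v = true := by
    by_contra hno
    push Not at hno
    have hcomm1 : ∀ p q : ↥J, p * q = q * p := by
      intro p q
      have e := hq (βJ p) (βJ q)
      have hf' : ∀ v, qf v = false := fun v => eq_false_of_ne_true (hno v)
      rw [hf', hf', hf'] at e
      refine Subtype.ext ?_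
      have e2 := hcomm p q
      rw [show cf (βJ p) (βJ q) = false by simpa using e.symm] at e2
      show (p : G) * q = q * p
      have e3 : (p : G) * q * (p : G)⁻¹ * (q : G)⁻¹ = 1 := e2
      calc (p : G) * q = ((p : G) * q * (p : G)⁻¹ * (q : G)⁻¹) * (q * p) := by group
        _ = _ := by rw [e3, one_mul]
    have htop : Subgroup.center ↥J = ⊤ := eq_top_iff.2 fun p _ => Subgroup.mem_center_iff.2 fun q => hcomm1 q p
    have := S.extra.2
    rw [htop, Subgroup.card_top, S.card] at this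
    norm_num at this
  obtain ⟨hQ, hB⟩ := form_unique qf cf hq hcl (fun u v w => by rw [hcs, hcl, hcs u, hcs v]) hinvq hnz
  have hmemC : ∀ {h : G}, Commute h z → h ∈ C := fun hh => Subgroup.mem_centralizer_singleton_iff.2 hh
  refine ⟨{
    β := fun q => if hq : q ∈ J then βJ ⟨q, hq⟩ else 0
    π := fun h => if hh : h ∈ C then (π0 ⟨h, hh⟩ : ↥U).1 else 1
    order := S.order
    le := fun q hq => Subgroup.mem_centralizer_singleton_iff.1 (S.le hq)
    norm := fun h hh q hq => (Subgroup.mem_normalizer_iff.1 (S.norm (hmemC hh)) q).1 hq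
    mem := S.mem
    card := S.card
    β_mul := fun p hp q hq => by
      rw [dif_pos (mul_mem hp hq), dif_pos hp, dif_pos hq]; exact βmul ⟨p, hp⟩ ⟨q, hq⟩
    β_surj := fun v => ⟨lift v, (lift v).2, by rw [dif_pos (lift v).2]; exact hlift v⟩
    β_ker := fun q hq => by
      rw [dif_pos hq, βker]
      refine ⟨center_cases S ⟨q, hq⟩, fun e => ?_⟩
      rcases e with rfl | rfl
      · exact one_mem _
      · exact Subgroup.mem_center_iff.2 fun p => Subtype.ext (Subgroup.mem_centralizer_singleton_iff.1 (S.le p.2))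
    sq := fun q hq => by rw [dif_pos hq, ← hQ]; exact hqf ⟨q, hq⟩
    comm := fun p hp q hq => by rw [dif_pos hp, dif_pos hq, ← hB]; exact hcomm ⟨p, hp⟩ ⟨q, hq⟩
    π_mem := fun h hh => by rw [dif_pos (hmemC hh)]; exact (π0 _).2
    π_mul := fun h k hh hk => by
      rw [dif_pos (hmemC hh), dif_pos (hmemC hk), dif_pos (hmemC (hh.mul_left hk))]
      exact congrArg Subtype.val (map_mul π0 ⟨h, hmemC hh⟩ ⟨k, hmemC hk⟩)
    π_ker := fun h hh => by
      rw [dif_pos (hmemC hh), ← hπker ⟨h, hmemC hh⟩]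
      exact OneMemClass.coe_eq_one
    π_surj := fun g hg => ⟨sec ⟨g, hg⟩, Subgroup.mem_centralizer_singleton_iff.1 (sec ⟨g, hg⟩).2, by
      rw [dif_pos (sec ⟨g, hg⟩).2, hsecπ]⟩
    equiv := fun h hh q hq => by
      have hm := (Subgroup.mem_normalizer_iff.1 (S.norm (hmemC hh)) q).1 hq
      rw [dif_pos hm, dif_pos hq, dif_pos (hmemC hh)]
      apply η.injective
      show η (η.symm _) = η _
      rw [η.apply_symm_apply, hη (π0 ⟨h, hmemC hh⟩), show ρ (π0 ⟨h, hmemC hh⟩) = act ⟨h, hmemC hh⟩ from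
        hwd _ _ (hsecπ _)]
      show _ = act _ (η (η.symm _))
      rw [η.apply_symm_apply]
      rfl }⟩

end build

end Cfsg.Lib.USixType
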