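import Cfsg.Agent.USixType.Api
import Cfsg.Agent.USixType.EmbedData
import Cfsg.Agent.PermCert.Basic

/-!
# The model on the conjugates of a transvection: the formulas

The points are the transvection, those commuting with it and those not commuting with it, each by its parameters.
-/

set_option autoImplicit false
set_option Elab.async false
set_option maxRecDepth 100000

namespace Cfsg.Lib.USixType

open Cfsg.Lib.PermCert

/-- A point. -/
inductive Pnt where
  | Z : Pnt
  | X (i : Fin 45) (a : Fin 4) : Pnt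
  | Y (v : Vt) (e : Bool) : Pnt
  deriving DecidableEq

/-- The code of a point. -/
def Pnt.num : Pnt → ℕ
  | .Z => 0
  | .X i a => 1 + 4 * i.val + a.val
  | .Y v e => 181 + 2 * v.code.val + e.toNat

/-- The point of a code. -/
def Pnt.of (n : ℕ) : Pnt :=
  if n = 0 then .Z else if n < 181 then .X (Fin.ofNat 45 ((n - 1) / 4)) (Fin.ofNat 4 ((n - 1) % 4))
  else .Y (vt ((n - 181) / 2)) ((n - 181) % 2 == 1)

theorem pnt_num_lt (p : Pnt) : p.num < 693 := by
  cases p with
  | Z => simp [Pnt.num]
  | X i a => have := i.isLt; have := a.isLt; simp only [Pnt.num]; omega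
  | Y v e => have := v.code.isLt; cases e <;> simp only [Pnt.num, Bool.toNat_false, Bool.toNat_true] <;> omega

theorem pnt_of_num (p : Pnt) : Pnt.of p.num = p := by
  cases p with
  | Z => rfl
  | X i a =>
    exact (show ∀ i : Fin 45, ∀ a : Fin 4, Pnt.of (Pnt.X i a).num = Pnt.X i a by decide +kernel) i a
  | Y v e =>
    obtain ⟨w⟩ := v
    exact (show ∀ w : Fin 256, ∀ e, Pnt.of (Pnt.Y ⟨w⟩ e).num = Pnt.Y ⟨w⟩ e by decide +kernel) w e

/-- The product with a centre, as a scalar. -/
def hF (u v : Vt) : Fin 4 := ⟨h u v, h_lt u v⟩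

/-- The exclusive or of scalars. -/
def xF (a b : Fin 4) : Fin 4 := ⟨a.val ^^^ b.val, Nat.xor_lt_two_pow (n := 2) a.isLt b.isLt⟩

/-- A vector with a given product with a centre. -/
def repV (i : Fin 45) (a : Fin 4) : Vt := vt (repTab.getD (4 * i.val + a.val) 0)

theorem rep_ok : ∀ i : Fin 45, ∀ a : Fin 4, hF (repV i a) (ctr i) = a := by decide +kernel

/-- Conjugation by the centre. -/
def tzP : Pnt → Pnt
  | .Y v e => .Y v (!e)
  | p => p

/-- Conjugation by a power of the centre. -/
def tzB : Bool → Pnt → Pnt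
  | true, p => tzP p
  | false, p => p

/-- Conjugation by a lifted vector. -/
def tjP (u : Vt) : Pnt → Pnt
  | .Z => .Z
  | .X i a => .X i (xF a (hF u (ctr i)))
  | .Y v e => .Y (v + u) (xor e (phi v u))

/-- Conjugation by a transvection of the complement. -/
def txP (k : Fin 45) : Pnt → Pnt
  | .Z => .Z
  | .X i a => .X (act45 (tvP k) i) (hF (Cfsg.Lib.USixType.tv (ctr k) (repV i a)) (ctr (act45 (tvP k) i)))
  | .Y v e => .Y (Cfsg.Lib.USixType.tv (ctr k) v) e

/-- The image under the outside transvection. -/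
def yP (p : Pnt) : Pnt := Pnt.of (ap yTab p.num)

/-- Conjugation by a point. -/
def conjP : Pnt → Pnt → Pnt
  | .Z, p => tzP p
  | .X i a, p => tjP (repV i a) (txP i (tzB (Q (repV i a)) (tjP (repV i a) p)))
  | .Y v e, p => tzB e (tjP v (yP (tzB (xor e (Q v)) (tjP v p))))

/-- The point whose image is needed to conjugate by a point. -/
def needP : Pnt → Pnt → Pnt
  | .Y v e, p => tzB (xor e (Q v)) (tjP v p)
  | _, _ => .Z

/-- The deductions are valid from the known points. -/
def deduceOK : ℕ → List (ℕ × ℕ × ℕ) → Bool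
  | m, [] => m + 1 == 2 ^ 693
  | m, (d, a, b) :: r =>
    m.testBit a && m.testBit b && decide (a < 693) && decide (b < 693) && decide (d < 693) &&
      (match Pnt.of b with | .X _ _ => true | _ => false) &&
      m.testBit (needP (yP (Pnt.of b)) (yP (Pnt.of a))).num &&
      (conjP (Pnt.of b) (Pnt.of a) == Pnt.of d) &&
      (yP (Pnt.of d) == conjP (yP (Pnt.of b)) (yP (Pnt.of a))) &&
      deduceOK (m ||| 1 <<< d) r

/-- The points whose images are computed directly. -/
def baseList : List Pnt :=
  .Z :: .Y 0 true :: (List.finRange 45).flatMap (fun i => .X i 0 ::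
    ([1, 2, 3] : List (Fin 4)).flatMap fun a => [.X i a, .Y (sm a.val (ctr i)) true]) ++
  ((List.finRange 256).filter fun v => !Q ⟨v⟩).map fun v => .Y ⟨v⟩ false

theorem base_y : yP .Z = .Y 0 true ∧ yP (.Y 0 true) = .Z ∧
    (∀ i : Fin 45, yP (.X i 0) = .X i 0) ∧
    (∀ i : Fin 45, ∀ a : Fin 4, a ≠ 0 → yP (.X i a) = .Y (sm a.val (ctr i)) true ∧
      yP (.Y (sm a.val (ctr i)) true) = .X i a) ∧
    (∀ v : Fin 256, Q ⟨v⟩ = false → yP (.Y ⟨v⟩ false) = .Y ⟨v⟩ false) := by decide +kernel

theorem phi_scalar : ∀ i : Fin 45, ∀ a : Fin 4, a ≠ 0 → ∀ v : Vt, hF v (ctr i) = a →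
    phi (sm a.val (ctr i)) v = true := by
  intro i a ha v hv
  obtain ⟨w⟩ := v
  exact (show ∀ i : Fin 45, ∀ w : Fin 256, hF ⟨w⟩ (ctr i) ≠ 0 →
    phi (sm (hF ⟨w⟩ (ctr i)).val (ctr i)) ⟨w⟩ = true by decide +kernel) i w (hv ▸ ha) |> fun e => by rwa [hv] at e

theorem deduce_ok : deduceOK (baseList.foldl (fun m p => m ||| 1 <<< p.num) 0) yCert = true := by decide +kernel

/-- The labels. -/
def labP (j : Fin 693) : Pnt := Pnt.of (ap labTab j.val)

theorem lab_inverse : ((List.range 693).all fun j => decide (ap labTab j < 693) && (ap labInv (ap labTab j) == j) &&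
    decide (ap labInv j < 693) && (ap labTab (ap labInv j) == j)) = true := by decide +kernel

theorem num_of : ((List.range 693).all fun n => (Pnt.of n).num == n) = true := by decide +kernel

theorem labP_num (j : Fin 693) : (labP j).num = ap labTab j.val := by
  have h := List.all_eq_true.1 lab_inverse j.val (List.mem_range.2 j.isLt)
  simp only [Bool.and_eq_true, decide_eq_true_eq] at h
  exact beq_iff_eq.1 (List.all_eq_true.1 num_of _ (List.mem_range.2 h.1.1.1))

theorem labP_inj : Function.Injective labP := by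
  intro i j e
  have h1 := List.all_eq_true.1 lab_inverse i.val (List.mem_range.2 i.isLt)
  have h2 := List.all_eq_true.1 lab_inverse j.val (List.mem_range.2 j.isLt)
  simp only [Bool.and_eq_true, beq_iff_eq, decide_eq_true_eq] at h1 h2
  have e' := congrArg Pnt.num e
  rw [labP_num, labP_num] at e'
  exact Fin.ext (by rw [← h1.1.1.2, e', h2.1.1.2])

theorem labP_surj (p : Pnt) : ∃ j, labP j = p := by
  have h := List.all_eq_true.1 lab_inverse p.num (List.mem_range.2 (pnt_num_lt p))
  simp only [Bool.and_eq_true, beq_iff_eq, decide_eq_true_eq] at h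
  exact ⟨⟨ap labInv p.num, h.1.2⟩, by rw [labP, h.2, pnt_of_num]⟩

end Cfsg.Lib.USixType
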