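/-!
Generated: words reaching the points and the elements fixing the first three base points.
-/

set_option autoImplicit false

namespace Cfsg.Lib.USixType.Model

def ptW0 : List (List Nat) :=
  [[], [2], [4, 2],
    [7, 4, 2], [7, 4], [3, 7, 4],
    [3], [4], [5],
    [7], [8], [5, 2],
    [7, 2], [8, 2], [3, 4, 2],
    [8, 4, 2], [5, 3], [8, 3],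
    [8, 4], [6, 5], [7, 5],
    [8, 5], [6, 5, 2], [7, 5, 2],
    [8, 5, 2], [3, 7, 2], [8, 3, 4, 2],
    [5, 9, 4, 5, 3], [4, 5, 3], [6, 5, 3],
    [8, 5, 3], [7, 8, 3], [7, 6, 5],
    [8, 6, 5], [7, 6, 5, 2], [8, 6, 5, 2],
    [3, 7, 5, 2], [7, 8, 3, 4, 2], [9, 4, 5, 3],
    [9, 7, 8, 3], [6, 4, 5, 3], [8, 4, 5, 3],
    [8, 6, 5, 3], [7, 8, 5, 3], [3, 7, 6, 5, 2],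
    [4, 3, 7, 5, 2], [9, 5, 3], [9, 6, 4, 5, 3],
    [8, 9, 4, 5, 3], [9, 8, 3], [5, 6, 4, 5, 3],
    [8, 6, 4, 5, 3], [7, 8, 4, 5, 3], [7, 8, 6, 5, 3],
    [4, 3, 7, 6, 5, 2], [9, 5], [9, 6, 5, 3],
    [8, 9, 5, 3], [8, 9, 6, 4, 5, 3], [5, 9, 8, 3],
    [9, 8], [8, 5, 6, 4, 5, 3], [7, 8, 6, 4, 5, 3],
    [3, 7, 8, 4, 5, 3], [5, 4, 3, 7, 6, 5, 2], [9, 5, 2],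
    [9, 6, 5], [9, 7, 5], [8, 9, 5],
    [5, 9, 6, 5, 3], [8, 9, 6, 5, 3], [7, 8, 9, 5, 3],
    [6, 5, 9, 8, 3], [5, 9, 8], [9, 8, 2],
    [9, 8, 4], [7, 8, 5, 6, 4, 5, 3]]

def ptW1 : List (List Nat) :=
  [[3, 7, 8, 6, 4, 5, 3], [2, 3, 7, 8, 4, 5, 3], [9, 6, 5, 2],
    [9, 7, 5, 2], [8, 9, 5, 2], [5, 9, 6, 5],
    [9, 7, 6, 5], [8, 9, 6, 5], [8, 9, 7, 5],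
    [7, 8, 9, 5], [8, 5, 9, 6, 5, 3], [7, 8, 9, 6, 5, 3],
    [3, 7, 8, 9, 5, 3], [6, 5, 9, 8], [5, 9, 8, 2],
    [4, 5, 9, 8], [9, 8, 4, 2], [5, 9, 8, 4],
    [3, 7, 8, 5, 6, 4, 5, 3], [2, 3, 7, 8, 6, 4, 5, 3], [5, 9, 6, 5, 2],
    [9, 7, 6, 5, 2], [8, 9, 6, 5, 2], [9, 3, 7, 5, 2],
    [8, 9, 7, 5, 2], [7, 8, 9, 5, 2], [4, 5, 9, 6, 5],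
    [5, 9, 7, 6, 5], [8, 5, 9, 6, 5], [8, 9, 7, 6, 5],
    [7, 8, 9, 6, 5], [7, 8, 9, 7, 5], [3, 7, 8, 9, 5],
    [7, 8, 5, 9, 6, 5, 3], [3, 7, 8, 9, 6, 5, 3], [2, 3, 7, 8, 9, 5, 3],
    [3, 4, 5, 9, 8], [6, 5, 9, 8, 2], [6, 4, 5, 9, 8],
    [4, 5, 9, 8, 2], [4, 5, 9, 8, 4], [9, 8, 3, 4, 2],
    [5, 9, 8, 4, 2], [6, 5, 9, 8, 4], [2, 3, 7, 8, 5, 6, 4, 5, 3],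
    [4, 3, 7, 8, 5, 6, 4, 5, 3], [4, 5, 9, 6, 5, 2], [5, 9, 7, 6, 5, 2],
    [8, 5, 9, 6, 5, 2], [9, 3, 7, 6, 5, 2], [8, 9, 7, 6, 5, 2],
    [7, 8, 9, 6, 5, 2], [9, 4, 3, 7, 5, 2], [8, 9, 3, 7, 5, 2],
    [7, 8, 9, 7, 5, 2], [4, 5, 9, 8, 5, 2], [4, 5, 9, 7, 6, 5],
    [8, 4, 5, 9, 6, 5], [8, 5, 9, 7, 6, 5], [7, 8, 5, 9, 6, 5],
    [7, 8, 9, 7, 6, 5], [3, 7, 8, 9, 6, 5], [3, 7, 8, 9, 7, 5],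
    [3, 4, 5, 9, 8, 5], [4, 3, 7, 8, 9, 5], [3, 7, 8, 5, 9, 6, 5, 3],
    [2, 3, 7, 8, 9, 6, 5, 3], [6, 3, 4, 5, 9, 8], [3, 7, 8, 9, 8, 5],
    [3, 4, 5, 9, 8, 4], [6, 4, 5, 9, 8, 2], [5, 6, 4, 5, 9, 8],
    [7, 8, 9, 8, 5, 2], [4, 5, 9, 8, 4, 2], [6, 4, 5, 9, 8, 4],
    [5, 9, 8, 3, 4, 2], [9, 7, 8, 3, 4, 2]]

def ptW2 : List (List Nat) :=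
  [[6, 5, 9, 8, 4, 2], [4, 2, 3, 7, 8, 5, 6, 4, 5, 3], [3, 4, 5, 9, 6, 5, 2],
    [4, 5, 9, 7, 6, 5, 2], [8, 4, 5, 9, 6, 5, 2], [5, 9, 3, 7, 6, 5, 2],
    [8, 5, 9, 7, 6, 5, 2], [7, 8, 5, 9, 6, 5, 2], [9, 4, 3, 7, 6, 5, 2],
    [8, 9, 3, 7, 6, 5, 2], [7, 8, 9, 7, 6, 5, 2], [3, 7, 8, 9, 6, 5, 2],
    [8, 9, 7, 8, 3, 4, 2], [5, 9, 7, 8, 3, 4, 2], [4, 5, 9, 8, 3, 4, 2],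
    [3, 7, 8, 9, 7, 5, 2], [4, 5, 9, 8, 5], [5, 9, 8, 5, 2],
    [3, 4, 5, 9, 7, 6, 5], [8, 4, 5, 9, 7, 6, 5], [7, 8, 4, 5, 9, 6, 5],
    [7, 8, 5, 9, 7, 6, 5], [3, 7, 8, 5, 9, 6, 5], [3, 7, 8, 9, 7, 6, 5],
    [2, 3, 7, 8, 9, 6, 5], [4, 3, 7, 8, 9, 6, 5], [2, 3, 7, 8, 9, 7, 5],
    [4, 3, 7, 8, 9, 7, 5], [3, 4, 5, 9, 8, 5, 3], [7, 3, 4, 5, 9, 8, 4],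
    [2, 3, 7, 8, 5, 9, 6, 5, 3], [4, 3, 7, 8, 5, 9, 6, 5, 3], [3, 7, 8, 9, 8, 6, 5],
    [5, 6, 3, 4, 5, 9, 8], [7, 8, 9, 8, 5], [2, 3, 4, 5, 9, 8, 4],
    [6, 3, 4, 5, 9, 8, 4], [7, 8, 9, 8, 6, 5, 2], [5, 6, 4, 5, 9, 8, 2],
    [5, 6, 4, 5, 9, 8, 4], [3, 4, 5, 9, 8, 4, 2], [8, 9, 8, 5, 2],
    [6, 4, 5, 9, 8, 4, 2], [6, 5, 9, 8, 3, 4, 2], [3, 4, 2, 3, 7, 8, 5, 6, 4, 5, 3],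
    [8, 3, 4, 5, 9, 6, 5, 2], [8, 4, 5, 9, 7, 6, 5, 2], [7, 8, 4, 5, 9, 6, 5, 2],
    [8, 5, 9, 3, 7, 6, 5, 2], [7, 8, 5, 9, 7, 6, 5, 2], [3, 7, 8, 5, 9, 6, 5, 2],
    [6, 5, 9, 7, 8, 3, 4, 2], [6, 4, 5, 9, 8, 3, 4, 2], [3, 7, 8, 9, 7, 6, 5, 2],
    [6, 4, 5, 9, 8, 5], [6, 5, 9, 8, 5, 2], [3, 4, 5, 9, 8, 3, 4, 2],
    [8, 4, 5, 9, 8, 5], [8, 5, 9, 8, 5, 2], [5, 9, 8, 5],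
    [9, 8, 5, 2], [8, 3, 4, 5, 9, 7, 6, 5], [7, 8, 4, 5, 9, 7, 6, 5],
    [3, 7, 8, 4, 5, 9, 6, 5], [3, 7, 8, 5, 9, 7, 6, 5], [2, 3, 7, 8, 5, 9, 6, 5],
    [4, 3, 7, 8, 5, 9, 6, 5], [2, 3, 7, 8, 9, 7, 6, 5], [4, 3, 7, 8, 9, 7, 6, 5],
    [3, 7, 8, 9, 8, 6, 5, 3], [5, 4, 3, 7, 8, 9, 6, 5], [5, 9, 3, 7, 8, 4, 5, 3],
    [9, 2, 3, 7, 8, 4, 5, 3], [4, 5, 9, 8, 5, 3], [8, 9, 3, 7, 8, 4, 5, 3],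
    [7, 6, 3, 4, 5, 9, 8, 4], [4, 2, 3, 7, 8, 5, 9, 6, 5, 3]]

def ptW3 : List (List Nat) :=
  [[4, 5, 6, 3, 4, 5, 9, 8], [7, 8, 9, 8, 6, 5], [3, 7, 8, 5, 9, 8, 6, 5],
    [5, 6, 3, 4, 5, 9, 8, 4], [7, 8, 5, 9, 8, 5], [8, 9, 8, 5],
    [6, 2, 3, 4, 5, 9, 8, 4], [7, 8, 5, 9, 8, 6, 5, 2], [8, 9, 8, 6, 5, 2],
    [5, 6, 4, 5, 9, 8, 4, 2], [6, 3, 4, 5, 9, 8, 4, 2], [8, 7, 3, 4, 2, 3, 7, 8, 5, 6, 4, 5, 3],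
    [7, 3, 4, 2, 3, 7, 8, 5, 6, 4, 5, 3], [9, 8, 5, 9, 3, 7, 6, 5, 2], [7, 8, 4, 5, 9, 7, 6, 5, 2],
    [9, 7, 8, 5, 9, 7, 6, 5, 2], [5, 6, 4, 5, 9, 8, 3, 4, 2], [3, 7, 8, 5, 9, 7, 6, 5, 2],
    [5, 6, 4, 5, 9, 8, 5], [5, 6, 4, 5, 9, 8, 6, 5, 2], [6, 3, 4, 5, 9, 8, 3, 4, 2],
    [8, 6, 4, 5, 9, 8, 5], [8, 6, 5, 9, 8, 5, 2], [6, 5, 9, 8, 5],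
    [6, 5, 9, 8, 6, 5, 2], [7, 8, 4, 5, 9, 8, 5], [8, 5, 9, 8, 5],
    [5, 9, 8, 5, 3], [9, 8, 5], [9, 8, 6, 5, 2],
    [7, 8, 3, 4, 5, 9, 7, 6, 5], [3, 7, 8, 4, 5, 9, 7, 6, 5], [9, 3, 7, 8, 5, 9, 7, 6, 5],
    [4, 3, 7, 8, 4, 5, 9, 6, 5], [2, 3, 7, 8, 5, 9, 7, 6, 5], [4, 3, 7, 8, 5, 9, 7, 6, 5],
    [4, 2, 3, 7, 8, 5, 9, 6, 5], [5, 4, 3, 7, 8, 5, 9, 6, 5], [6, 5, 9, 3, 7, 8, 4, 5, 3],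
    [5, 4, 3, 7, 8, 9, 7, 6, 5], [7, 8, 9, 8, 6, 5, 3], [3, 7, 8, 5, 9, 8, 6, 5, 3],
    [7, 5, 6, 3, 4, 5, 9, 8, 4], [5, 9, 7, 8, 4, 5, 3], [9, 3, 7, 8, 4, 5, 3],
    [9, 2, 3, 7, 8, 6, 4, 5, 3], [8, 9, 7, 8, 4, 5, 3], [8, 9, 8, 5, 3],
    [8, 9, 3, 7, 8, 6, 4, 5, 3], [5, 9, 8, 6, 4, 5, 9, 8, 6, 5, 3], [4, 3, 7, 8, 5, 9, 8, 6, 5],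
    [4, 5, 6, 3, 4, 5, 9, 8, 4], [7, 8, 5, 9, 8, 6, 5], [8, 9, 8, 6, 5],
    [5, 6, 2, 3, 4, 5, 9, 8, 4], [7, 8, 6, 5, 9, 8, 5], [7, 8, 4, 5, 9, 8, 6, 5, 2],
    [5, 6, 3, 4, 5, 9, 8, 4, 2], [8, 5, 9, 8, 6, 5, 2], [9, 8, 5, 9, 7, 6, 5, 2],
    [3, 7, 8, 4, 5, 9, 7, 6, 5, 2], [9, 7, 8, 5, 9, 7, 6, 5], [9, 7, 8, 4, 5, 9, 7, 6, 5, 2],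
    [9, 8, 4, 5, 9, 6, 5, 2], [9, 7, 8, 4, 5, 9, 6, 5], [9, 7, 8, 5, 9, 6, 5, 2],
    [5, 6, 4, 5, 9, 8, 6, 5], [6, 4, 5, 9, 8, 6, 5, 2], [5, 9, 8, 4, 5, 9, 6, 5],
    [8, 6, 5, 9, 8, 5], [8, 6, 5, 9, 8, 6, 5, 2], [6, 5, 9, 8, 5, 3],
    [6, 5, 9, 8, 6, 5], [5, 9, 8, 6, 5, 2], [8, 5, 9, 8, 5, 3],
    [9, 8, 5, 3], [8, 9, 8, 4, 5, 3]]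

def ptW4 : List (List Nat) :=
  [[9, 8, 6, 5], [3, 7, 8, 3, 4, 5, 9, 7, 6, 5], [2, 3, 7, 8, 4, 5, 9, 7, 6, 5],
    [4, 3, 7, 8, 4, 5, 9, 7, 6, 5], [9, 4, 3, 7, 8, 5, 9, 7, 6, 5], [5, 4, 3, 7, 8, 4, 5, 9, 6, 5],
    [4, 2, 3, 7, 8, 5, 9, 7, 6, 5], [5, 4, 3, 7, 8, 5, 9, 7, 6, 5], [4, 5, 6, 3, 4, 5, 9, 8, 6, 5],
    [4, 3, 7, 8, 5, 9, 8, 6, 5, 3], [7, 4, 5, 6, 3, 4, 5, 9, 8, 4], [6, 5, 9, 7, 8, 4, 5, 3],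
    [6, 5, 9, 3, 7, 8, 6, 4, 5, 3], [5, 9, 2, 3, 7, 8, 6, 4, 5, 3], [7, 8, 5, 9, 8, 6, 5, 3],
    [8, 9, 8, 6, 5, 3], [8, 5, 9, 3, 7, 8, 6, 4, 5, 3], [9, 7, 8, 4, 5, 3],
    [5, 9, 8, 4, 5, 3], [9, 3, 7, 8, 6, 4, 5, 3], [8, 9, 7, 8, 6, 4, 5, 3],
    [9, 8, 6, 4, 5, 9, 8, 6, 5, 3], [9, 5, 6, 4, 5, 9, 8, 5, 6, 4, 5, 3], [9, 8, 3, 4, 5, 9, 8, 6, 5, 3],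
    [7, 8, 4, 5, 9, 8, 6, 5], [9, 8, 4, 5, 9, 8, 6, 5], [8, 5, 9, 8, 6, 5],
    [9, 8, 5, 9, 8, 6, 5, 2], [8, 4, 5, 9, 8, 6, 5, 2], [9, 8, 5, 9, 7, 6, 5],
    [9, 8, 4, 5, 9, 7, 6, 5, 2], [8, 9, 7, 8, 5, 9, 7, 6, 5], [9, 3, 7, 8, 5, 9, 6, 5, 2],
    [9, 7, 8, 4, 5, 9, 7, 6, 5], [6, 3, 4, 5, 9, 8, 6, 5, 2], [9, 8, 4, 5, 9, 6, 5],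
    [9, 8, 5, 9, 6, 5, 2], [9, 7, 8, 5, 9, 6, 5], [8, 6, 4, 5, 9, 8, 6, 5, 2],
    [5, 6, 3, 4, 5, 9, 8, 6, 5], [6, 4, 5, 9, 8, 6, 5], [4, 5, 9, 8, 6, 5, 2],
    [8, 6, 5, 9, 8, 5, 3], [8, 6, 5, 9, 8, 6, 5], [6, 5, 9, 8, 6, 5, 3],
    [8, 9, 8, 6, 4, 5, 3], [5, 9, 8, 6, 5], [9, 8, 4, 5, 3],
    [9, 8, 6, 5, 3], [9, 7, 8, 5, 3], [2, 3, 7, 8, 3, 4, 5, 9, 7, 6, 5],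
    [4, 3, 7, 8, 3, 4, 5, 9, 7, 6, 5], [4, 2, 3, 7, 8, 4, 5, 9, 7, 6, 5], [5, 4, 3, 7, 8, 4, 5, 9, 7, 6, 5],
    [9, 4, 3, 7, 8, 4, 5, 9, 7, 6, 5], [5, 9, 4, 3, 7, 8, 5, 9, 7, 6, 5], [3, 7, 4, 5, 6, 3, 4, 5, 9, 8, 4],
    [9, 4, 3, 7, 8, 5, 9, 6, 5], [6, 4, 5, 9, 3, 7, 8, 6, 4, 5, 3], [4, 5, 9, 2, 3, 7, 8, 6, 4, 5, 3],
    [4, 5, 6, 3, 4, 5, 9, 8, 6, 5, 3], [7, 4, 5, 6, 3, 4, 5, 9, 8, 6, 5], [8, 4, 5, 9, 3, 7, 8, 6, 4, 5, 3],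
    [6, 5, 9, 7, 8, 6, 4, 5, 3], [6, 5, 9, 8, 4, 5, 3], [5, 9, 3, 7, 8, 6, 4, 5, 3],
    [5, 6, 4, 5, 9, 8, 6, 5, 3], [8, 5, 9, 7, 8, 6, 4, 5, 3], [8, 5, 9, 8, 6, 5, 3],
    [9, 7, 8, 6, 4, 5, 3], [9, 8, 6, 5, 9, 8, 6, 5, 3], [9, 8, 4, 5, 9, 8, 6, 5, 3],
    [9, 8, 4, 5, 9, 7, 8, 6, 4, 5, 3], [5, 9, 8, 4, 5, 9, 7, 8, 5, 6, 4, 5, 3], [9, 8, 5, 9, 8, 6, 5],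
    [8, 4, 5, 9, 8, 6, 5], [9, 5, 6, 4, 5, 9, 8, 4, 2]]

def ptW5 : List (List Nat) :=
  [[9, 8, 4, 5, 9, 7, 6, 5], [5, 9, 8, 4, 5, 9, 7, 6, 5, 2], [9, 5, 6, 4, 5, 9, 8, 5],
    [9, 5, 6, 4, 5, 9, 8, 2], [9, 3, 7, 8, 4, 5, 9, 7, 6, 5], [8, 9, 5, 6, 4, 5, 9, 8],
    [3, 4, 5, 9, 8, 6, 5, 2], [9, 8, 5, 9, 6, 5], [9, 3, 7, 8, 5, 9, 6, 5],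
    [8, 6, 4, 5, 9, 8, 6, 5], [6, 3, 4, 5, 9, 8, 6, 5], [7, 5, 6, 3, 4, 5, 9, 8, 6, 5],
    [4, 5, 9, 8, 6, 5], [8, 6, 5, 9, 8, 6, 5, 3], [6, 4, 5, 9, 8, 6, 5, 3],
    [5, 9, 8, 6, 5, 3], [8, 5, 9, 8, 6, 4, 5, 3], [9, 8, 6, 4, 5, 3],
    [9, 7, 8, 6, 5, 3], [5, 6, 3, 4, 5, 9, 8, 5, 6, 4, 5, 3], [6, 2, 3, 4, 5, 9, 8, 5, 6, 4, 5, 3],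
    [9, 4, 2, 3, 7, 8, 5, 9, 6, 5], [7, 6, 3, 4, 5, 9, 8, 5, 6, 4, 5, 3], [7, 2, 3, 4, 5, 9, 8, 5, 6, 4, 5, 3],
    [4, 5, 6, 2, 3, 4, 5, 9, 8, 6, 5, 3], [9, 4, 3, 7, 8, 3, 4, 5, 9, 7, 6, 5], [8, 7, 3, 4, 5, 9, 8, 5, 6, 4, 5, 3],
    [5, 9, 4, 3, 7, 8, 5, 9, 6, 5], [9, 4, 3, 7, 8, 5, 9, 6, 5, 3], [4, 5, 9, 3, 7, 8, 6, 4, 5, 3],
    [5, 6, 3, 4, 5, 9, 8, 6, 5, 3], [8, 3, 4, 5, 9, 3, 7, 8, 6, 4, 5, 3], [9, 8, 3, 4, 5, 9, 7, 8, 6, 4, 5, 3],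
    [7, 8, 9, 4, 3, 7, 8, 5, 9, 6, 5, 3], [6, 4, 5, 9, 7, 8, 6, 4, 5, 3], [5, 9, 7, 8, 6, 4, 5, 3],
    [6, 5, 9, 8, 6, 4, 5, 3], [8, 4, 5, 9, 7, 8, 6, 4, 5, 3], [8, 4, 5, 9, 8, 6, 5, 3],
    [9, 8, 5, 9, 8, 6, 5, 3], [9, 8, 5, 9, 7, 8, 6, 4, 5, 3], [9, 5, 6, 4, 5, 9, 8, 6, 5, 3],
    [9, 8, 4, 5, 9, 7, 8, 5, 6, 4, 5, 3], [8, 3, 4, 5, 9, 8, 6, 5], [9, 5, 6, 4, 5, 9, 8, 4],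
    [9, 8, 3, 4, 5, 9, 7, 6, 5], [5, 9, 8, 4, 5, 9, 7, 6, 5], [7, 3, 4, 5, 9, 8, 6, 5, 2],
    [9, 2, 3, 7, 8, 5, 9, 6, 5], [9, 5, 6, 4, 5, 9, 8], [6, 2, 3, 4, 5, 9, 8, 6, 5],
    [9, 3, 7, 8, 3, 4, 5, 9, 7, 6, 5], [2, 3, 4, 5, 9, 8, 6, 5, 2], [9, 8, 5, 9, 6, 5, 3],
    [8, 6, 3, 4, 5, 9, 8, 6, 5], [9, 3, 7, 8, 5, 9, 6, 5, 3], [6, 3, 4, 5, 9, 8, 6, 5, 3],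
    [3, 4, 5, 9, 8, 6, 5], [7, 6, 3, 4, 5, 9, 8, 6, 5], [7, 8, 9, 3, 7, 8, 5, 9, 6, 5, 3],
    [8, 6, 4, 5, 9, 8, 6, 5, 3], [4, 5, 9, 8, 6, 5, 3], [8, 4, 5, 9, 8, 6, 4, 5, 3],
    [5, 9, 7, 8, 6, 5, 3], [5, 9, 8, 6, 4, 5, 3], [5, 6, 4, 5, 9, 8, 5, 6, 4, 5, 3],
    [6, 3, 4, 5, 9, 8, 5, 6, 4, 5, 3], [2, 3, 4, 5, 9, 8, 5, 6, 4, 5, 3], [5, 9, 4, 2, 3, 7, 8, 5, 9, 6, 5],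
    [9, 4, 2, 3, 7, 8, 5, 9, 6, 5, 3], [7, 3, 4, 5, 9, 8, 5, 6, 4, 5, 3], [5, 6, 2, 3, 4, 5, 9, 8, 6, 5, 3],
    [8, 7, 3, 4, 5, 9, 7, 8, 5, 6, 4, 5, 3], [9, 8, 2, 3, 4, 5, 9, 7, 8, 6, 4, 5, 3], [7, 8, 9, 4, 2, 3, 7, 8, 5, 9, 6, 5, 3],
    [6, 3, 4, 5, 9, 7, 8, 6, 4, 5, 3], [3, 4, 5, 9, 3, 7, 8, 6, 4, 5, 3]]

def ptW6 : List (List Nat) :=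
  [[5, 9, 4, 3, 7, 8, 5, 9, 6, 5, 3], [8, 9, 4, 3, 7, 8, 5, 9, 6, 5, 3], [8, 3, 4, 5, 9, 7, 8, 6, 4, 5, 3],
    [7, 5, 6, 3, 4, 5, 9, 8, 6, 5, 3], [9, 5, 6, 3, 4, 5, 9, 8, 6, 5, 3], [9, 8, 3, 4, 5, 9, 7, 8, 5, 6, 4, 5, 3],
    [4, 5, 9, 7, 8, 6, 4, 5, 3], [6, 4, 5, 9, 8, 6, 4, 5, 3], [8, 3, 4, 5, 9, 8, 6, 5, 3],
    [9, 7, 8, 5, 9, 8, 6, 5, 3], [7, 8, 3, 4, 5, 9, 8, 6, 5], [9, 8, 5, 9, 7, 8, 5, 6, 4, 5, 3],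
    [8, 9, 5, 6, 4, 5, 9, 8, 6, 5, 3], [9, 5, 6, 3, 4, 5, 9, 8, 4], [5, 9, 8, 3, 4, 5, 9, 7, 6, 5],
    [9, 7, 8, 3, 4, 5, 9, 7, 6, 5], [7, 2, 3, 4, 5, 9, 8, 6, 5, 2], [9, 5, 6, 3, 4, 5, 9, 8],
    [9, 2, 3, 7, 8, 5, 9, 6, 5, 3], [6, 2, 3, 4, 5, 9, 8, 6, 5, 3], [2, 3, 4, 5, 9, 8, 6, 5],
    [7, 6, 2, 3, 4, 5, 9, 8, 6, 5], [7, 8, 9, 2, 3, 7, 8, 5, 9, 6, 5, 3], [9, 7, 8, 5, 9, 6, 5, 3],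
    [8, 6, 3, 4, 5, 9, 8, 6, 5, 3], [9, 3, 7, 8, 5, 9, 8, 6, 5, 3], [8, 9, 3, 7, 8, 5, 9, 6, 5, 3],
    [3, 4, 5, 9, 8, 6, 5, 3], [7, 6, 3, 4, 5, 9, 8, 6, 5, 3], [7, 3, 4, 5, 9, 8, 6, 5],
    [8, 7, 6, 3, 4, 5, 9, 8, 6, 5], [4, 5, 9, 8, 6, 4, 5, 3], [4, 5, 9, 7, 8, 6, 5, 3],
    [8, 3, 4, 5, 9, 8, 6, 4, 5, 3], [6, 4, 5, 9, 8, 5, 6, 4, 5, 3], [5, 6, 4, 5, 9, 7, 8, 5, 6, 4, 5, 3],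
    [3, 4, 5, 9, 8, 5, 6, 4, 5, 3], [5, 9, 4, 5, 6, 3, 4, 5, 9, 8], [7, 3, 4, 5, 9, 7, 8, 5, 6, 4, 5, 3],
    [6, 3, 4, 5, 9, 7, 8, 5, 6, 4, 5, 3], [8, 9, 4, 2, 3, 7, 8, 5, 9, 6, 5, 3], [8, 2, 3, 4, 5, 9, 7, 8, 6, 4, 5, 3],
    [7, 5, 6, 2, 3, 4, 5, 9, 8, 6, 5, 3], [9, 5, 6, 2, 3, 4, 5, 9, 8, 6, 5, 3], [9, 8, 2, 3, 4, 5, 9, 7, 8, 5, 6, 4, 5, 3],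
    [3, 4, 5, 9, 7, 8, 6, 4, 5, 3], [7, 6, 3, 4, 5, 9, 7, 8, 6, 4, 5, 3], [2, 3, 4, 5, 9, 7, 8, 5, 6, 4, 5, 3],
    [8, 5, 9, 4, 3, 7, 8, 5, 9, 6, 5, 3], [6, 3, 4, 5, 9, 8, 6, 4, 5, 3], [7, 8, 3, 4, 5, 9, 7, 8, 6, 4, 5, 3],
    [7, 8, 3, 4, 5, 9, 8, 6, 5, 3], [8, 7, 5, 6, 3, 4, 5, 9, 8, 6, 5, 3], [8, 9, 5, 6, 3, 4, 5, 9, 8, 6, 5, 3],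
    [8, 2, 3, 4, 5, 9, 8, 6, 5, 3], [8, 9, 7, 8, 5, 9, 8, 6, 5, 3], [9, 7, 5, 6, 3, 4, 5, 9, 8, 4],
    [7, 8, 7, 3, 4, 5, 9, 8, 6, 5], [4, 5, 9, 8, 3, 4, 5, 9, 7, 6, 5], [3, 7, 2, 3, 4, 5, 9, 8, 6, 5, 2],
    [5, 9, 7, 8, 3, 4, 5, 9, 7, 6, 5], [8, 9, 7, 8, 3, 4, 5, 9, 7, 6, 5], [9, 4, 5, 6, 3, 4, 5, 9, 8],
    [9, 5, 4, 3, 7, 8, 9, 6, 5], [8, 9, 2, 3, 7, 8, 5, 9, 6, 5, 3], [2, 3, 4, 5, 9, 8, 6, 5, 3],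
    [7, 6, 2, 3, 4, 5, 9, 8, 6, 5, 3], [7, 2, 3, 4, 5, 9, 8, 6, 5], [8, 7, 6, 2, 3, 4, 5, 9, 8, 6, 5],
    [8, 9, 7, 8, 5, 9, 6, 5, 3], [7, 8, 6, 3, 4, 5, 9, 8, 6, 5, 3], [8, 9, 3, 7, 8, 5, 9, 8, 6, 5, 3],
    [3, 4, 5, 9, 8, 6, 4, 5, 3], [7, 3, 4, 5, 9, 8, 6, 5, 3], [7, 8, 3, 4, 5, 9, 8, 6, 4, 5, 3],
    [8, 7, 6, 3, 4, 5, 9, 8, 6, 5, 3], [8, 7, 3, 4, 5, 9, 8, 6, 5]]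

def ptW7 : List (List Nat) :=
  [[3, 4, 5, 9, 7, 8, 6, 5, 3], [8, 2, 3, 4, 5, 9, 8, 6, 4, 5, 3], [6, 5, 9, 8, 5, 6, 4, 5, 3],
    [4, 5, 9, 8, 5, 6, 4, 5, 3], [6, 4, 5, 9, 7, 8, 5, 6, 4, 5, 3], [8, 5, 6, 4, 5, 9, 7, 8, 5, 6, 4, 5, 3],
    [2, 3, 4, 5, 9, 7, 8, 6, 4, 5, 3], [5, 9, 5, 4, 3, 7, 8, 5, 9, 6, 5], [3, 4, 5, 9, 7, 8, 5, 6, 4, 5, 3],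
    [8, 6, 3, 4, 5, 9, 7, 8, 5, 6, 4, 5, 3], [6, 2, 3, 4, 5, 9, 8, 6, 4, 5, 3], [7, 8, 2, 3, 4, 5, 9, 7, 8, 6, 4, 5, 3],
    [9, 8, 7, 3, 4, 5, 9, 8, 5, 6, 4, 5, 3], [9, 8, 7, 3, 4, 5, 9, 7, 8, 6, 4, 5, 3], [7, 8, 3, 4, 5, 9, 7, 8, 5, 6, 4, 5, 3],
    [7, 3, 4, 5, 9, 7, 8, 6, 4, 5, 3], [7, 6, 3, 4, 5, 9, 8, 6, 4, 5, 3], [8, 7, 6, 3, 4, 5, 9, 7, 8, 6, 4, 5, 3],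
    [8, 2, 3, 4, 5, 9, 7, 8, 5, 6, 4, 5, 3], [7, 8, 7, 3, 4, 5, 9, 7, 8, 6, 4, 5, 3], [7, 8, 2, 3, 4, 5, 9, 8, 6, 5, 3],
    [7, 8, 7, 3, 4, 5, 9, 8, 6, 5, 3], [8, 9, 7, 5, 6, 3, 4, 5, 9, 8, 4], [4, 3, 7, 2, 3, 4, 5, 9, 8, 6, 5, 2],
    [4, 5, 9, 7, 8, 3, 4, 5, 9, 7, 6, 5], [3, 7, 2, 3, 4, 5, 9, 8, 6, 5], [8, 5, 9, 7, 8, 3, 4, 5, 9, 7, 6, 5],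
    [9, 5, 4, 3, 7, 8, 5, 9, 6, 5], [8, 9, 5, 4, 3, 7, 8, 9, 6, 5], [2, 3, 4, 5, 9, 8, 6, 4, 5, 3],
    [7, 2, 3, 4, 5, 9, 8, 6, 5, 3], [3, 7, 6, 2, 3, 4, 5, 9, 8, 6, 5, 3], [8, 7, 6, 2, 3, 4, 5, 9, 8, 6, 5, 3],
    [8, 7, 2, 3, 4, 5, 9, 8, 6, 5], [7, 8, 7, 6, 3, 4, 5, 9, 8, 6, 5, 3], [7, 3, 4, 5, 9, 8, 6, 4, 5, 3],
    [7, 3, 4, 5, 9, 7, 8, 6, 5, 3], [8, 7, 3, 4, 5, 9, 8, 6, 5, 3], [7, 8, 2, 3, 4, 5, 9, 8, 6, 4, 5, 3],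
    [7, 8, 7, 3, 4, 5, 9, 8, 6, 4, 5, 3], [2, 3, 4, 5, 9, 7, 8, 6, 5, 3], [5, 9, 8, 5, 6, 4, 5, 3],
    [6, 5, 9, 7, 8, 5, 6, 4, 5, 3], [4, 5, 9, 7, 8, 5, 6, 4, 5, 3], [8, 6, 4, 5, 9, 7, 8, 5, 6, 4, 5, 3],
    [3, 4, 5, 9, 3, 7, 8, 5, 6, 4, 5, 3], [6, 4, 5, 9, 3, 7, 8, 5, 6, 4, 5, 3], [8, 5, 9, 5, 4, 3, 7, 8, 5, 9, 6, 5],
    [8, 3, 4, 5, 9, 7, 8, 5, 6, 4, 5, 3], [7, 6, 2, 3, 4, 5, 9, 8, 6, 4, 5, 3], [5, 9, 5, 4, 3, 7, 8, 5, 9, 7, 6, 5],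
    [7, 8, 3, 4, 5, 9, 3, 7, 8, 5, 6, 4, 5, 3], [3, 7, 8, 2, 3, 4, 5, 9, 8, 6, 5, 3], [9, 8, 7, 3, 4, 5, 9, 8, 6, 4, 5, 3],
    [8, 7, 3, 4, 5, 9, 7, 8, 6, 4, 5, 3], [8, 7, 6, 3, 4, 5, 9, 8, 6, 4, 5, 3], [7, 8, 7, 2, 3, 4, 5, 9, 8, 6, 5, 3],
    [5, 4, 3, 7, 2, 3, 4, 5, 9, 8, 6, 5, 2], [4, 3, 7, 2, 3, 4, 5, 9, 8, 6, 5], [6, 5, 9, 4, 2, 3, 7, 8, 5, 6, 4, 5, 3],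
    [8, 4, 5, 9, 7, 8, 3, 4, 5, 9, 7, 6, 5], [8, 3, 7, 2, 3, 4, 5, 9, 8, 6, 5], [9, 5, 4, 3, 7, 8, 4, 5, 9, 6, 5],
    [8, 9, 5, 4, 3, 7, 8, 5, 9, 6, 5], [7, 2, 3, 4, 5, 9, 8, 6, 4, 5, 3], [3, 7, 2, 3, 4, 5, 9, 8, 6, 5, 3],
    [8, 7, 2, 3, 4, 5, 9, 8, 6, 5, 3], [6, 4, 5, 9, 4, 3, 7, 8, 5, 6, 4, 5, 3], [5, 9, 8, 7, 3, 4, 5, 9, 8, 6, 4, 5, 3],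
    [9, 8, 5, 6, 4, 5, 3], [8, 7, 3, 4, 5, 9, 8, 6, 4, 5, 3], [7, 2, 3, 4, 5, 9, 7, 8, 6, 5, 3],
    [8, 7, 3, 4, 5, 9, 7, 8, 6, 5, 3], [7, 8, 7, 2, 3, 4, 5, 9, 8, 6, 4, 5, 3], [5, 9, 7, 8, 5, 6, 4, 5, 3],
    [6, 5, 9, 3, 7, 8, 5, 6, 4, 5, 3], [8, 6, 5, 9, 7, 8, 5, 6, 4, 5, 3]]

def ptW8 : List (List Nat) :=
  [[8, 4, 5, 9, 7, 8, 5, 6, 4, 5, 3], [4, 5, 9, 3, 7, 8, 5, 6, 4, 5, 3], [8, 3, 4, 5, 9, 3, 7, 8, 5, 6, 4, 5, 3],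
    [9, 5, 4, 3, 7, 8, 5, 9, 7, 6, 5], [8, 6, 4, 5, 9, 3, 7, 8, 5, 6, 4, 5, 3], [8, 7, 6, 2, 3, 4, 5, 9, 8, 6, 4, 5, 3],
    [9, 8, 7, 6, 3, 4, 5, 9, 8, 6, 4, 5, 3], [9, 8, 7, 2, 3, 4, 5, 9, 8, 6, 4, 5, 3], [9, 7, 8, 7, 3, 4, 5, 9, 8, 6, 4, 5, 3],
    [9, 3, 4, 2, 3, 7, 8, 5, 6, 4, 5, 3], [5, 9, 4, 2, 3, 7, 8, 5, 6, 4, 5, 3], [8, 4, 3, 7, 2, 3, 4, 5, 9, 8, 6, 5],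
    [6, 5, 9, 4, 3, 7, 8, 5, 6, 4, 5, 3], [8, 6, 5, 9, 4, 2, 3, 7, 8, 5, 6, 4, 5, 3], [8, 9, 5, 4, 3, 7, 8, 4, 5, 9, 6, 5],
    [4, 5, 9, 2, 3, 7, 8, 5, 6, 4, 5, 3], [8, 7, 2, 3, 4, 5, 9, 8, 6, 4, 5, 3], [4, 5, 9, 4, 3, 7, 8, 5, 6, 4, 5, 3],
    [8, 3, 7, 2, 3, 4, 5, 9, 8, 6, 5, 3], [8, 6, 4, 5, 9, 4, 3, 7, 8, 5, 6, 4, 5, 3], [9, 8, 4, 5, 9, 4, 3, 7, 8, 5, 6, 4, 5, 3],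
    [9, 7, 8, 5, 6, 4, 5, 3], [8, 7, 2, 3, 4, 5, 9, 7, 8, 6, 5, 3], [5, 9, 3, 7, 8, 5, 6, 4, 5, 3],
    [8, 5, 9, 7, 8, 5, 6, 4, 5, 3], [9, 5, 4, 3, 7, 8, 9, 7, 6, 5], [8, 6, 5, 9, 3, 7, 8, 5, 6, 4, 5, 3],
    [8, 4, 5, 9, 3, 7, 8, 5, 6, 4, 5, 3], [8, 9, 5, 4, 3, 7, 8, 5, 9, 7, 6, 5], [9, 8, 7, 6, 3, 4, 5, 9, 8, 6, 5, 3],
    [9, 8, 7, 3, 4, 5, 9, 7, 8, 6, 5, 3], [9, 7, 8, 7, 2, 3, 4, 5, 9, 8, 6, 4, 5, 3], [9, 4, 2, 3, 7, 8, 5, 6, 4, 5, 3],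
    [8, 9, 3, 4, 2, 3, 7, 8, 5, 6, 4, 5, 3], [5, 9, 4, 3, 7, 8, 5, 6, 4, 5, 3], [8, 5, 9, 4, 2, 3, 7, 8, 5, 6, 4, 5, 3],
    [8, 6, 5, 9, 4, 3, 7, 8, 5, 6, 4, 5, 3], [9, 8, 5, 9, 4, 3, 7, 8, 5, 6, 4, 5, 3], [9, 8, 7, 2, 3, 4, 5, 9, 7, 8, 6, 5, 3],
    [5, 9, 2, 3, 7, 8, 5, 6, 4, 5, 3], [8, 4, 5, 9, 2, 3, 7, 8, 5, 6, 4, 5, 3], [8, 4, 5, 9, 4, 3, 7, 8, 5, 6, 4, 5, 3],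
    [7, 8, 3, 7, 2, 3, 4, 5, 9, 8, 6, 5, 3], [9, 8, 3, 7, 2, 3, 4, 5, 9, 8, 6, 5, 3], [9, 3, 7, 8, 5, 6, 4, 5, 3],
    [8, 9, 7, 8, 5, 6, 4, 5, 3], [8, 5, 9, 3, 7, 8, 5, 6, 4, 5, 3], [8, 9, 5, 4, 3, 7, 8, 9, 7, 6, 5],
    [9, 8, 7, 6, 3, 4, 5, 9, 8, 6, 5], [9, 8, 7, 3, 4, 5, 9, 8, 6, 5, 3], [5, 9, 8, 7, 3, 4, 5, 9, 7, 8, 6, 5, 3],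
    [9, 4, 3, 7, 8, 5, 6, 4, 5, 3], [9, 2, 3, 7, 8, 5, 6, 4, 5, 3], [8, 9, 4, 2, 3, 7, 8, 5, 6, 4, 5, 3],
    [8, 5, 9, 4, 3, 7, 8, 5, 6, 4, 5, 3], [7, 8, 5, 9, 4, 2, 3, 7, 8, 5, 6, 4, 5, 3], [9, 8, 5, 9, 4, 2, 3, 7, 8, 5, 6, 4, 5, 3],
    [8, 5, 9, 2, 3, 7, 8, 5, 6, 4, 5, 3], [9, 8, 7, 2, 3, 4, 5, 9, 8, 6, 5, 3], [5, 9, 8, 7, 3, 4, 5, 9, 8, 6, 5, 3],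
    [8, 9, 3, 7, 8, 5, 6, 4, 5, 3], [9, 8, 7, 3, 4, 5, 9, 8, 6, 5], [7, 8, 9, 5, 4, 3, 7, 8, 9, 7, 6, 5],
    [8, 9, 4, 3, 7, 8, 5, 6, 4, 5, 3], [8, 9, 2, 3, 7, 8, 5, 6, 4, 5, 3], [7, 8, 9, 4, 2, 3, 7, 8, 5, 6, 4, 5, 3],
    [7, 8, 5, 9, 4, 3, 7, 8, 5, 6, 4, 5, 3], [9, 8, 4, 3, 7, 2, 3, 4, 5, 9, 8, 6, 5], [9, 8, 7, 2, 3, 4, 5, 9, 8, 6, 5],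
    [7, 8, 9, 3, 7, 8, 5, 6, 4, 5, 3], [9, 8, 5, 9, 7, 8, 3, 4, 5, 9, 7, 6, 5], [7, 8, 9, 4, 3, 7, 8, 5, 6, 4, 5, 3],
    [7, 8, 9, 2, 3, 7, 8, 5, 6, 4, 5, 3], [3, 7, 8, 5, 9, 4, 3, 7, 8, 5, 6, 4, 5, 3], [9, 8, 3, 7, 2, 3, 4, 5, 9, 8, 6, 5],
    [3, 7, 8, 9, 4, 3, 7, 8, 5, 6, 4, 5, 3], [3, 7, 8, 9, 2, 3, 7, 8, 5, 6, 4, 5, 3]]

/-- A word carrying the first point to a point. -/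
def ptWords : List (List Nat) := ptW0 ++ ptW1 ++ ptW2 ++ ptW3 ++ ptW4 ++ ptW5 ++ ptW6 ++ ptW7 ++ ptW8

/-- A transvection with centre at the first point. -/
def zWord : List Nat := [4, 7, 3, 2, 3, 7, 4]

def grp0 : List (List Nat × Nat) :=
  [([], 0),
    ([2, 3, 7, 5, 2, 3, 2, 4, 3, 7, 8, 5, 4, 3, 7, 3, 4, 5, 2, 3, 4], 0),
    ([2, 3, 7, 6, 5, 2, 3, 2, 4, 3, 7, 8, 5, 4, 3, 7, 3, 4, 5, 2, 3, 4], 0),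
    ([2, 3, 7, 8, 5, 2, 3, 2, 4, 3, 7, 8, 3, 4, 5, 9, 4, 3, 7, 2, 3, 4], 0),
    ([2, 3, 7, 8, 5, 2, 3, 2, 4, 3, 7, 8, 5, 4, 3, 7, 4, 5, 6, 2, 3, 4], 0),
    ([2, 3, 7, 8, 5, 2, 3, 4, 2, 3, 7, 8, 3, 4, 5, 9, 4, 3, 7, 6, 2, 3, 4], 0),
    ([2, 3, 7, 8, 6, 5, 2, 3, 2, 4, 3, 7, 8, 3, 4, 5, 9, 4, 3, 7, 2, 3, 4], 0),
    ([2, 3, 7, 8, 6, 5, 2, 3, 2, 4, 3, 7, 8, 5, 4, 3, 7, 4, 5, 6, 2, 3, 4], 0),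
    ([2, 3, 7, 8, 6, 5, 2, 3, 4, 2, 3, 7, 8, 3, 4, 5, 9, 4, 3, 7, 6, 2, 3, 4], 0),
    ([4, 3, 2, 5, 4, 3, 7, 8, 7, 3, 4, 5, 9, 6, 2, 3, 4], 0),
    ([4, 3, 2, 6, 5, 4, 3, 7, 8, 7, 3, 4, 5, 6, 2, 3, 4], 51),
    ([4, 3, 2, 6, 5, 4, 3, 7, 8, 7, 3, 4, 5, 9, 2, 3, 4], 0),
    ([4, 3, 2, 9, 5, 4, 3, 7, 8, 7, 3, 4, 5, 6, 2, 3, 4], 0),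
    ([4, 3, 2, 9, 5, 4, 3, 7, 8, 7, 3, 4, 5, 9, 2, 3, 4], 355),
    ([4, 3, 2, 9, 6, 5, 4, 3, 7, 8, 7, 3, 4, 5, 2, 3, 4], 0),
    ([4, 3, 5, 4, 2, 3, 7, 8, 7, 3, 4, 5, 6, 2, 3, 4], 0),
    ([4, 3, 5, 4, 2, 3, 7, 8, 7, 3, 4, 5, 9, 2, 3, 4], 0),
    ([4, 3, 6, 5, 4, 2, 3, 7, 8, 7, 3, 4, 5, 2, 3, 4], 0),
    ([4, 3, 9, 5, 4, 2, 3, 7, 8, 7, 3, 4, 5, 2, 3, 4], 0),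
    ([4, 5, 3, 4, 2, 3, 7, 6, 5, 4, 2, 8, 3, 7, 2, 3, 4, 5, 6, 3, 4, 5, 2, 3, 4], 0),
    ([4, 5, 3, 4, 2, 3, 7, 6, 5, 4, 2, 8, 3, 7, 4, 5, 6, 2, 3, 4, 5, 9, 2, 3, 4], 0),
    ([4, 5, 3, 4, 2, 3, 7, 6, 5, 4, 3, 2, 7, 8, 3, 7, 3, 4, 5, 6, 3, 4, 5, 2, 3, 4], 0),
    ([4, 5, 3, 4, 2, 3, 7, 6, 5, 4, 3, 2, 7, 8, 3, 7, 4, 5, 6, 3, 4, 5, 9, 2, 3, 4], 0),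
    ([4, 5, 3, 4, 2, 3, 7, 6, 5, 4, 3, 2, 8, 3, 7, 4, 5, 6, 3, 4, 5, 9, 6, 2, 3, 4], 0)]

def grp1 : List (List Nat × Nat) :=
  [([4, 5, 3, 4, 2, 3, 7, 8, 7, 3, 4, 5, 2, 3, 4], 41),
    ([4, 5, 6, 3, 4, 5, 2, 3, 4, 2, 7, 8, 3, 7, 4, 5, 6, 2, 3, 4, 5, 2, 3, 4], 0),
    ([4, 5, 6, 3, 4, 5, 2, 3, 4, 3, 2, 7, 8, 3, 7, 4, 5, 6, 2, 3, 4, 5, 2, 3, 4], 0),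
    ([5, 4, 3, 2, 6, 5, 4, 3, 7, 2, 3, 4, 5, 6, 2, 3, 4, 5], 0),
    ([5, 4, 3, 2, 6, 5, 4, 3, 7, 3, 4, 5, 6, 2, 3, 4, 5, 9], 0),
    ([5, 4, 3, 2, 7, 3, 4, 5, 9, 6, 5, 4, 3, 7, 2, 3, 4, 5], 0),
    ([5, 4, 3, 6, 5, 4, 2, 3, 7, 3, 4, 5, 6, 2, 3, 4, 5], 50),
    ([5, 4, 3, 7, 2, 3, 4, 5, 6, 4, 3, 9, 7, 8, 5, 4, 3, 7, 2, 3, 4, 5, 2, 3, 4], 0),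
    ([5, 4, 3, 7, 2, 3, 4, 5, 9, 6, 2, 3, 7, 8, 7, 5, 3, 4, 2, 3, 7, 2, 3, 4, 5], 0),
    ([5, 4, 3, 7, 2, 3, 4, 5, 9, 6, 4, 3, 7, 8, 5, 4, 3, 7, 2, 3, 4, 5, 6, 2, 3, 4], 0),
    ([5, 4, 3, 7, 2, 3, 4, 5, 9, 6, 5, 2, 3, 7, 8, 4, 3, 7, 2, 3, 4, 5, 9, 2, 3, 7], 0),
    ([5, 4, 3, 7, 2, 3, 4, 5, 9, 6, 5, 2, 3, 7, 8, 7, 3, 4, 2, 3, 7, 2, 3, 4, 5, 6], 0),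
    ([5, 4, 3, 7, 2, 3, 4, 5, 9, 8, 7, 3, 2, 3, 7, 8, 6, 5, 4, 3, 7, 2, 3, 4, 5, 9, 6], 0),
    ([5, 4, 3, 7, 8, 2, 3, 4, 5, 4, 3, 7, 8, 9, 6, 5, 4, 3, 7, 2, 3, 4, 5, 3, 4], 0),
    ([5, 4, 3, 7, 8, 2, 3, 7, 3, 4, 3, 2, 5, 4, 3, 7, 8, 4, 3, 7, 2, 3, 4, 5, 9, 6], 0),
    ([5, 4, 3, 7, 8, 2, 3, 7, 4, 2, 3, 2, 7, 8, 5, 9, 6, 5, 4, 3, 7, 2, 3, 4, 5, 6], 0),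
    ([5, 4, 3, 7, 8, 2, 3, 7, 4, 2, 3, 2, 7, 8, 5, 9, 6, 5, 4, 3, 7, 2, 3, 4, 5, 9], 0),
    ([5, 4, 3, 7, 8, 2, 3, 7, 4, 2, 3, 2, 7, 8, 6, 5, 4, 3, 7, 6, 2, 3, 4, 5, 9, 6], 0),
    ([5, 4, 3, 7, 8, 2, 3, 7, 4, 3, 2, 3, 7, 8, 5, 9, 6, 5, 4, 3, 7, 2, 3, 4, 5], 0),
    ([5, 4, 3, 7, 8, 2, 3, 7, 4, 3, 2, 3, 7, 8, 6, 5, 4, 3, 7, 2, 3, 4, 5, 6, 5], 0),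
    ([5, 4, 3, 7, 8, 2, 3, 7, 4, 3, 2, 3, 7, 8, 6, 5, 4, 3, 7, 6, 2, 3, 4, 5, 9], 0),
    ([5, 4, 3, 7, 8, 2, 3, 7, 4, 3, 2, 5, 4, 3, 7, 8, 6, 5, 4, 3, 7, 2, 3, 4, 5], 0),
    ([5, 4, 3, 7, 8, 2, 3, 7, 4, 5, 2, 3, 2, 7, 8, 9, 6, 5, 4, 3, 7, 2, 3, 4, 5, 9, 6], 0),
    ([5, 4, 3, 7, 8, 2, 3, 7, 4, 5, 3, 2, 4, 3, 7, 8, 6, 5, 4, 3, 7, 2, 3, 4, 5, 6], 0)]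

def grp2 : List (List Nat × Nat) :=
  [([5, 4, 3, 7, 8, 2, 3, 7, 4, 5, 3, 2, 4, 3, 7, 8, 6, 5, 4, 3, 7, 2, 3, 4, 5, 9], 0),
    ([5, 4, 3, 7, 8, 2, 3, 7, 4, 5, 4, 3, 7, 8, 9, 6, 5, 4, 3, 7, 2, 3, 4, 5, 6, 4], 0),
    ([5, 7, 3, 4, 2, 3, 7, 8, 7, 3, 4, 2, 3, 7, 5], 43),
    ([6], 64),
    ([6, 4, 3, 2, 5, 4, 3, 7, 8, 7, 3, 4, 5, 9, 6, 2, 3, 4], 0),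
    ([6, 4, 3, 2, 9, 5, 4, 3, 7, 8, 7, 3, 4, 5, 6, 2, 3, 4], 0),
    ([6, 4, 3, 2, 9, 5, 4, 3, 7, 8, 7, 3, 4, 5, 9, 2, 3, 4], 0),
    ([6, 4, 5, 3, 4, 2, 3, 7, 6, 5, 4, 3, 2, 8, 3, 7, 4, 5, 6, 3, 4, 5, 9, 6, 2, 3, 4], 0),
    ([6, 5, 4, 3, 2, 6, 5, 4, 3, 7, 3, 4, 5, 6, 2, 3, 4, 5, 9], 0),
    ([6, 5, 4, 3, 2, 7, 3, 4, 5, 9, 6, 5, 4, 3, 7, 2, 3, 4, 5], 0),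
    ([6, 5, 4, 3, 7, 2, 3, 4, 5, 6, 4, 3, 9, 7, 8, 5, 4, 3, 7, 2, 3, 4, 5, 2, 3, 4], 0),
    ([6, 5, 4, 3, 7, 2, 3, 4, 5, 9, 6, 2, 3, 7, 8, 7, 5, 3, 4, 2, 3, 7, 2, 3, 4, 5], 0),
    ([6, 5, 4, 3, 7, 2, 3, 4, 5, 9, 6, 4, 3, 7, 8, 5, 4, 3, 7, 2, 3, 4, 5, 6, 2, 3, 4], 0),
    ([6, 5, 4, 3, 7, 2, 3, 4, 5, 9, 6, 5, 2, 3, 7, 8, 4, 3, 7, 2, 3, 4, 5, 9, 2, 3, 7], 0),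
    ([6, 5, 4, 3, 7, 2, 3, 4, 5, 9, 6, 5, 2, 3, 7, 8, 7, 3, 4, 2, 3, 7, 2, 3, 4, 5, 6], 0),
    ([6, 5, 4, 3, 7, 2, 3, 4, 5, 9, 8, 7, 3, 2, 3, 7, 8, 6, 5, 4, 3, 7, 2, 3, 4, 5, 9, 6], 0),
    ([6, 5, 4, 3, 7, 8, 2, 3, 4, 5, 4, 3, 7, 8, 9, 6, 5, 4, 3, 7, 2, 3, 4, 5, 3, 4], 0),
    ([6, 5, 4, 3, 7, 8, 2, 3, 7, 4, 2, 3, 2, 7, 8, 5, 9, 6, 5, 4, 3, 7, 2, 3, 4, 5, 6], 0),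
    ([6, 5, 4, 3, 7, 8, 2, 3, 7, 4, 2, 3, 2, 7, 8, 5, 9, 6, 5, 4, 3, 7, 2, 3, 4, 5, 9], 0),
    ([6, 5, 4, 3, 7, 8, 2, 3, 7, 4, 2, 3, 2, 7, 8, 6, 5, 4, 3, 7, 6, 2, 3, 4, 5, 9, 6], 0),
    ([6, 5, 4, 3, 7, 8, 2, 3, 7, 4, 3, 2, 3, 7, 8, 5, 9, 6, 5, 4, 3, 7, 2, 3, 4, 5], 0),
    ([6, 5, 4, 3, 7, 8, 2, 3, 7, 4, 3, 2, 5, 4, 3, 7, 8, 6, 5, 4, 3, 7, 2, 3, 4, 5], 0),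
    ([6, 5, 4, 3, 7, 8, 2, 3, 7, 4, 5, 2, 3, 2, 7, 8, 9, 6, 5, 4, 3, 7, 2, 3, 4, 5, 9, 6], 0),
    ([6, 5, 4, 3, 7, 8, 2, 3, 7, 4, 5, 4, 3, 7, 8, 9, 6, 5, 4, 3, 7, 2, 3, 4, 5, 6, 4], 0)]

def grp3 : List (List Nat × Nat) :=
  [([7, 3, 2, 5, 4, 3, 7, 8, 7, 3, 4, 5, 9, 2, 3, 7, 6], 0),
    ([7, 3, 2, 6, 5, 4, 3, 7, 8, 7, 3, 4, 2, 3, 7, 5, 6], 53),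
    ([7, 3, 2, 6, 5, 4, 3, 7, 8, 7, 3, 4, 5, 9, 2, 3, 7], 0),
    ([7, 3, 2, 9, 5, 4, 3, 7, 8, 7, 3, 4, 2, 3, 7, 5, 6], 0),
    ([7, 3, 2, 9, 5, 4, 3, 7, 8, 7, 3, 4, 5, 9, 2, 3, 7], 357),
    ([7, 3, 2, 9, 6, 5, 4, 3, 7, 8, 7, 3, 4, 2, 3, 7, 5], 0),
    ([7, 3, 4, 2, 3, 7, 2, 3, 4, 2, 3, 2], 0),
    ([7, 3, 4, 2, 3, 7, 6, 2, 3, 4, 2, 3, 2], 0),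
    ([7, 3, 5, 4, 2, 3, 7, 8, 7, 3, 4, 2, 3, 7, 5, 6], 0),
    ([7, 3, 5, 4, 2, 3, 7, 8, 7, 3, 4, 5, 9, 2, 3, 7], 0),
    ([7, 3, 6, 5, 4, 2, 3, 7, 8, 7, 3, 4, 2, 3, 7, 5], 0),
    ([7, 3, 9, 5, 4, 2, 3, 7, 8, 7, 3, 4, 2, 3, 7, 5], 0),
    ([7, 5, 3, 4, 2, 3, 7, 6, 5, 4, 3, 2, 7, 8, 3, 7, 4, 5, 3, 4, 2, 3, 7, 5, 6, 5], 0),
    ([7, 5, 3, 4, 2, 3, 7, 6, 5, 4, 3, 2, 7, 8, 3, 7, 4, 5, 6, 3, 4, 5, 9, 2, 3, 7], 0),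
    ([7, 5, 6, 3, 4, 5, 2, 3, 4, 2, 7, 8, 3, 7, 4, 5, 3, 4, 2, 3, 7, 6, 4, 5], 0),
    ([7, 5, 6, 3, 4, 5, 2, 3, 4, 3, 2, 7, 8, 3, 7, 4, 5, 3, 4, 2, 3, 7, 6, 4, 5], 0),
    ([7, 6, 3, 2, 5, 4, 3, 7, 8, 7, 3, 4, 5, 9, 2, 3, 7, 6], 0),
    ([7, 6, 3, 2, 9, 5, 4, 3, 7, 8, 7, 3, 4, 2, 3, 7, 5, 6], 0),
    ([7, 6, 3, 2, 9, 5, 4, 3, 7, 8, 7, 3, 4, 5, 9, 2, 3, 7], 0),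
    ([7, 8, 3, 7, 2, 3, 4, 5, 9, 6, 4, 3, 7, 8, 9, 5, 4, 3, 7, 8, 3, 4, 2, 3, 7, 5], 0),
    ([7, 8, 3, 7, 2, 3, 4, 5, 9, 8, 6, 2, 3, 7, 8, 9, 5, 3, 4, 2, 3, 7, 8, 2, 3, 7], 0),
    ([7, 8, 3, 7, 2, 3, 4, 5, 9, 8, 6, 4, 3, 7, 8, 9, 5, 4, 3, 7, 8, 4, 2, 3, 7, 5, 6], 0),
    ([7, 8, 3, 7, 2, 3, 4, 5, 9, 8, 6, 4, 3, 7, 8, 9, 5, 4, 3, 7, 8, 4, 5, 9, 2, 3, 7], 0),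
    ([7, 8, 3, 7, 2, 3, 4, 5, 9, 8, 7, 2, 3, 2, 7, 8, 9, 6, 5, 4, 3, 7, 8, 9, 2, 3, 7, 6], 0)]

def grp4 : List (List Nat × Nat) :=
  [([7, 8, 3, 7, 2, 3, 4, 5, 9, 8, 7, 3, 2, 3, 7, 8, 9, 6, 5, 4, 3, 7, 8, 2, 3, 7, 6], 0),
    ([7, 8, 3, 7, 2, 3, 4, 5, 9, 8, 7, 3, 2, 3, 7, 8, 9, 6, 5, 4, 3, 7, 8, 9, 2, 3, 7], 0),
    ([7, 8, 3, 7, 2, 3, 4, 5, 9, 8, 7, 3, 4, 3, 7, 8, 9, 6, 5, 4, 3, 7, 8, 9, 2, 3, 7, 6], 0),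
    ([7, 8, 3, 7, 6, 2, 3, 4, 5, 9, 8, 6, 2, 3, 7, 8, 9, 5, 3, 4, 2, 3, 7, 8, 2, 3, 7], 0),
    ([7, 8, 3, 7, 6, 2, 3, 4, 5, 9, 8, 7, 3, 2, 3, 7, 8, 9, 6, 5, 4, 3, 7, 8, 2, 3, 7, 6], 0),
    ([7, 8, 3, 7, 6, 2, 3, 4, 5, 9, 8, 7, 3, 2, 3, 7, 8, 9, 6, 5, 4, 3, 7, 8, 9, 2, 3, 7], 0),
    ([7, 8, 9, 3, 7, 8, 5, 9, 6, 5, 2, 3, 7, 8, 9, 4, 5, 6, 3, 4, 5, 9, 8, 2, 3, 4], 0),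
    ([7, 8, 9, 3, 7, 8, 5, 9, 7, 6, 5, 2, 3, 7, 8, 9, 4, 5, 6, 3, 4, 5, 9, 8, 2, 3, 4], 0),
    ([7, 8, 9, 5, 6, 3, 4, 5, 9, 8, 4, 2, 3, 4, 5, 9, 7, 8, 6, 5, 9, 3, 7, 8, 2, 3, 4], 0),
    ([7, 8, 9, 8, 5, 6, 3, 4, 5, 9, 8, 4, 2, 3, 4, 5, 9, 7, 8, 6, 5, 9, 3, 7, 8, 2, 3, 4], 0),
    ([8, 2, 3, 4, 2, 3, 2, 5, 4, 3, 7, 8, 3, 7, 4, 5, 3, 4, 2, 3, 7], 0),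
    ([8, 2, 3, 4, 5, 2, 3, 2, 4, 3, 7, 8, 3, 4, 5, 9, 7, 3, 4, 2, 3, 7], 0),
    ([8, 2, 3, 4, 5, 2, 3, 2, 4, 3, 7, 8, 3, 7, 4, 5, 3, 4, 2, 3, 7, 6], 0),
    ([8, 2, 3, 4, 5, 2, 3, 4, 2, 3, 7, 8, 3, 4, 5, 9, 7, 3, 4, 2, 3, 7, 6], 0),
    ([8, 4, 3, 7, 2, 3, 4, 5, 9, 6, 4, 3, 7, 8, 9, 5, 4, 3, 7, 8, 3, 4, 5, 2, 3, 4], 0),
    ([8, 4, 3, 7, 2, 3, 4, 5, 9, 8, 6, 2, 3, 7, 8, 9, 5, 3, 4, 2, 3, 7, 8, 2, 3, 4], 0),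
    ([8, 4, 3, 7, 2, 3, 4, 5, 9, 8, 6, 4, 3, 7, 8, 9, 5, 4, 3, 7, 8, 4, 5, 6, 2, 3, 4], 0),
    ([8, 4, 3, 7, 2, 3, 4, 5, 9, 8, 6, 4, 3, 7, 8, 9, 5, 4, 3, 7, 8, 4, 5, 9, 2, 3, 4], 0),
    ([8, 4, 3, 7, 2, 3, 4, 5, 9, 8, 7, 2, 3, 2, 7, 8, 9, 6, 5, 4, 3, 7, 8, 9, 6, 2, 3, 4], 0),
    ([8, 4, 3, 7, 2, 3, 4, 5, 9, 8, 7, 3, 2, 3, 7, 8, 9, 6, 5, 4, 3, 7, 8, 6, 2, 3, 4], 0),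
    ([8, 4, 3, 7, 2, 3, 4, 5, 9, 8, 7, 3, 2, 3, 7, 8, 9, 6, 5, 4, 3, 7, 8, 9, 2, 3, 4], 0),
    ([8, 4, 3, 7, 2, 3, 4, 5, 9, 8, 7, 3, 4, 3, 7, 8, 9, 6, 5, 4, 3, 7, 8, 9, 6, 2, 3, 4], 0),
    ([8, 4, 3, 7, 6, 2, 3, 4, 5, 9, 8, 6, 2, 3, 7, 8, 9, 5, 3, 4, 2, 3, 7, 8, 2, 3, 4], 0),
    ([8, 4, 3, 7, 6, 2, 3, 4, 5, 9, 8, 7, 3, 2, 3, 7, 8, 9, 6, 5, 4, 3, 7, 8, 6, 2, 3, 4], 0)]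

def grp5 : List (List Nat × Nat) :=
  [([8, 4, 3, 7, 6, 2, 3, 4, 5, 9, 8, 7, 3, 2, 3, 7, 8, 9, 6, 5, 4, 3, 7, 8, 9, 2, 3, 4], 0),
    ([8, 6, 2, 3, 4, 2, 3, 2, 5, 4, 3, 7, 8, 3, 7, 4, 5, 3, 4, 2, 3, 7], 0),
    ([8, 6, 2, 3, 4, 5, 2, 3, 2, 4, 3, 7, 8, 3, 4, 5, 9, 7, 3, 4, 2, 3, 7], 0),
    ([8, 6, 2, 3, 4, 5, 2, 3, 2, 4, 3, 7, 8, 3, 7, 4, 5, 3, 4, 2, 3, 7, 6], 0),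
    ([8, 6, 2, 3, 4, 5, 2, 3, 4, 2, 3, 7, 8, 3, 4, 5, 9, 7, 3, 4, 2, 3, 7, 6], 0),
    ([8, 7, 3, 4, 2, 3, 7, 5, 4, 3, 2, 7, 8, 3, 7, 4, 5, 3, 4, 2, 3, 7, 8, 5, 6], 0),
    ([8, 7, 3, 4, 2, 3, 7, 5, 4, 3, 2, 7, 8, 3, 7, 4, 5, 3, 4, 2, 3, 7, 8, 5, 9], 0),
    ([8, 7, 3, 4, 2, 3, 7, 6, 5, 4, 3, 2, 7, 8, 3, 7, 4, 5, 3, 4, 2, 3, 7, 8, 5, 6], 0),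
    ([8, 7, 3, 4, 2, 3, 7, 6, 5, 4, 3, 2, 7, 8, 3, 7, 4, 5, 3, 4, 2, 3, 7, 8, 5, 9], 0),
    ([8, 7, 3, 4, 5, 2, 3, 4, 3, 2, 7, 8, 3, 7, 4, 5, 3, 4, 2, 3, 7, 8, 4, 5], 0),
    ([8, 7, 6, 3, 4, 5, 2, 3, 4, 3, 2, 7, 8, 3, 7, 4, 5, 3, 4, 2, 3, 7, 8, 4, 5], 0),
    ([8, 9, 4, 3, 7, 8, 5, 9, 6, 5, 2, 3, 7, 8, 9, 4, 5, 6, 3, 4, 5, 9, 8, 2, 3, 7], 0),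
    ([8, 9, 4, 3, 7, 8, 5, 9, 7, 6, 5, 2, 3, 7, 8, 9, 4, 5, 6, 3, 4, 5, 9, 8, 2, 3, 7], 0),
    ([8, 9, 4, 5, 6, 3, 4, 5, 9, 8, 4, 2, 3, 4, 5, 9, 7, 8, 6, 5, 9, 3, 7, 8, 2, 3, 7], 0),
    ([8, 9, 8, 4, 5, 6, 3, 4, 5, 9, 8, 4, 2, 3, 4, 5, 9, 7, 8, 6, 5, 9, 3, 7, 8, 2, 3, 7], 0),
    ([9], 166),
    ([9, 2, 3, 7, 5, 2, 3, 2, 4, 3, 7, 8, 5, 4, 3, 7, 3, 4, 5, 2, 3, 4], 0),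
    ([9, 2, 3, 7, 6, 5, 2, 3, 2, 4, 3, 7, 8, 5, 4, 3, 7, 3, 4, 5, 2, 3, 4], 0),
    ([9, 2, 3, 7, 8, 5, 2, 3, 2, 4, 3, 7, 8, 3, 4, 5, 9, 4, 3, 7, 2, 3, 4], 0),
    ([9, 2, 3, 7, 8, 5, 2, 3, 2, 4, 3, 7, 8, 5, 4, 3, 7, 4, 5, 6, 2, 3, 4], 0),
    ([9, 2, 3, 7, 8, 5, 2, 3, 4, 2, 3, 7, 8, 3, 4, 5, 9, 4, 3, 7, 6, 2, 3, 4], 0),
    ([9, 2, 3, 7, 8, 6, 5, 2, 3, 2, 4, 3, 7, 8, 3, 4, 5, 9, 4, 3, 7, 2, 3, 4], 0),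
    ([9, 2, 3, 7, 8, 6, 5, 2, 3, 2, 4, 3, 7, 8, 5, 4, 3, 7, 4, 5, 6, 2, 3, 4], 0),
    ([9, 2, 3, 7, 8, 6, 5, 2, 3, 4, 2, 3, 7, 8, 3, 4, 5, 9, 4, 3, 7, 6, 2, 3, 4], 0)]

def grp6 : List (List Nat × Nat) :=
  [([9, 4, 3, 2, 5, 4, 3, 7, 8, 7, 3, 4, 5, 9, 6, 2, 3, 4], 0),
    ([9, 4, 5, 3, 4, 2, 3, 7, 6, 5, 4, 2, 8, 3, 7, 2, 3, 4, 5, 6, 3, 4, 5, 2, 3, 4], 0),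
    ([9, 4, 5, 3, 4, 2, 3, 7, 6, 5, 4, 2, 8, 3, 7, 4, 5, 6, 2, 3, 4, 5, 9, 2, 3, 4], 0),
    ([9, 4, 5, 3, 4, 2, 3, 7, 6, 5, 4, 3, 2, 7, 8, 3, 7, 3, 4, 5, 6, 3, 4, 5, 2, 3, 4], 0),
    ([9, 4, 5, 3, 4, 2, 3, 7, 6, 5, 4, 3, 2, 7, 8, 3, 7, 4, 5, 6, 3, 4, 5, 9, 2, 3, 4], 0),
    ([9, 4, 5, 3, 4, 2, 3, 7, 6, 5, 4, 3, 2, 8, 3, 7, 4, 5, 6, 3, 4, 5, 9, 6, 2, 3, 4], 0),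
    ([9, 4, 5, 6, 3, 4, 5, 2, 3, 4, 2, 7, 8, 3, 7, 4, 5, 6, 2, 3, 4, 5, 2, 3, 4], 0),
    ([9, 4, 5, 6, 3, 4, 5, 2, 3, 4, 3, 2, 7, 8, 3, 7, 4, 5, 6, 2, 3, 4, 5, 2, 3, 4], 0),
    ([9, 5, 4, 3, 2, 7, 3, 4, 5, 9, 6, 5, 4, 3, 7, 2, 3, 4, 5], 0),
    ([9, 5, 4, 3, 7, 2, 3, 4, 5, 9, 6, 2, 3, 7, 8, 7, 5, 3, 4, 2, 3, 7, 2, 3, 4, 5], 0),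
    ([9, 5, 4, 3, 7, 2, 3, 4, 5, 9, 6, 5, 2, 3, 7, 8, 7, 3, 4, 2, 3, 7, 2, 3, 4, 5, 6], 0),
    ([9, 5, 4, 3, 7, 8, 2, 3, 7, 4, 2, 3, 2, 7, 8, 5, 9, 6, 5, 4, 3, 7, 2, 3, 4, 5, 6], 0),
    ([9, 5, 4, 3, 7, 8, 2, 3, 7, 4, 2, 3, 2, 7, 8, 6, 5, 4, 3, 7, 6, 2, 3, 4, 5, 9, 6], 0),
    ([9, 5, 4, 3, 7, 8, 2, 3, 7, 4, 3, 2, 3, 7, 8, 5, 9, 6, 5, 4, 3, 7, 2, 3, 4, 5], 0),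
    ([9, 5, 4, 3, 7, 8, 2, 3, 7, 4, 3, 2, 3, 7, 8, 6, 5, 4, 3, 7, 2, 3, 4, 5, 6, 5], 0),
    ([9, 5, 4, 3, 7, 8, 2, 3, 7, 4, 3, 2, 3, 7, 8, 6, 5, 4, 3, 7, 6, 2, 3, 4, 5, 9], 0),
    ([9, 5, 4, 3, 7, 8, 2, 3, 7, 4, 3, 2, 5, 4, 3, 7, 8, 6, 5, 4, 3, 7, 2, 3, 4, 5], 0),
    ([9, 6], 0),
    ([9, 6, 4, 3, 2, 5, 4, 3, 7, 8, 7, 3, 4, 5, 9, 6, 2, 3, 4], 402),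
    ([9, 6, 4, 5, 3, 4, 2, 3, 7, 6, 5, 4, 3, 2, 8, 3, 7, 4, 5, 6, 3, 4, 5, 9, 6, 2, 3, 4], 0),
    ([9, 6, 5, 4, 3, 2, 7, 3, 4, 5, 9, 6, 5, 4, 3, 7, 2, 3, 4, 5], 242),
    ([9, 6, 5, 4, 3, 7, 2, 3, 4, 5, 9, 6, 2, 3, 7, 8, 7, 5, 3, 4, 2, 3, 7, 2, 3, 4, 5], 0),
    ([9, 6, 5, 4, 3, 7, 2, 3, 4, 5, 9, 6, 5, 2, 3, 7, 8, 7, 3, 4, 2, 3, 7, 2, 3, 4, 5, 6], 0),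
    ([9, 6, 5, 4, 3, 7, 8, 2, 3, 7, 4, 2, 3, 2, 7, 8, 5, 9, 6, 5, 4, 3, 7, 2, 3, 4, 5, 6], 0)]

def grp7 : List (List Nat × Nat) :=
  [([9, 6, 5, 4, 3, 7, 8, 2, 3, 7, 4, 2, 3, 2, 7, 8, 6, 5, 4, 3, 7, 6, 2, 3, 4, 5, 9, 6], 0),
    ([9, 6, 5, 4, 3, 7, 8, 2, 3, 7, 4, 3, 2, 3, 7, 8, 5, 9, 6, 5, 4, 3, 7, 2, 3, 4, 5], 0),
    ([9, 7, 3, 2, 5, 4, 3, 7, 8, 7, 3, 4, 5, 9, 2, 3, 7, 6], 0),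
    ([9, 7, 3, 4, 2, 3, 7, 2, 3, 4, 2, 3, 2], 27),
    ([9, 7, 3, 4, 2, 3, 7, 6, 2, 3, 4, 2, 3, 2], 0),
    ([9, 7, 5, 3, 4, 2, 3, 7, 6, 5, 4, 3, 2, 7, 8, 3, 7, 4, 5, 3, 4, 2, 3, 7, 5, 6, 5], 0),
    ([9, 7, 5, 3, 4, 2, 3, 7, 6, 5, 4, 3, 2, 7, 8, 3, 7, 4, 5, 6, 3, 4, 5, 9, 2, 3, 7], 0),
    ([9, 7, 5, 6, 3, 4, 5, 2, 3, 4, 2, 7, 8, 3, 7, 4, 5, 3, 4, 2, 3, 7, 6, 4, 5], 0),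
    ([9, 7, 5, 6, 3, 4, 5, 2, 3, 4, 3, 2, 7, 8, 3, 7, 4, 5, 3, 4, 2, 3, 7, 6, 4, 5], 0),
    ([9, 7, 6, 3, 2, 5, 4, 3, 7, 8, 7, 3, 4, 5, 9, 2, 3, 7, 6], 403),
    ([9, 7, 8, 3, 7, 2, 3, 4, 5, 9, 8, 6, 2, 3, 7, 8, 9, 5, 3, 4, 2, 3, 7, 8, 2, 3, 7], 0),
    ([9, 8, 2, 3, 4, 2, 3, 2, 5, 4, 3, 7, 8, 3, 7, 4, 5, 3, 4, 2, 3, 7], 0),
    ([9, 8, 2, 3, 4, 5, 2, 3, 2, 4, 3, 7, 8, 3, 4, 5, 9, 7, 3, 4, 2, 3, 7], 0),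
    ([9, 8, 2, 3, 4, 5, 2, 3, 2, 4, 3, 7, 8, 3, 7, 4, 5, 3, 4, 2, 3, 7, 6], 0),
    ([9, 8, 2, 3, 4, 5, 2, 3, 4, 2, 3, 7, 8, 3, 4, 5, 9, 7, 3, 4, 2, 3, 7, 6], 0),
    ([9, 8, 4, 3, 7, 2, 3, 4, 5, 9, 8, 6, 2, 3, 7, 8, 9, 5, 3, 4, 2, 3, 7, 8, 2, 3, 4], 0),
    ([9, 8, 6, 2, 3, 4, 2, 3, 2, 5, 4, 3, 7, 8, 3, 7, 4, 5, 3, 4, 2, 3, 7], 0),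
    ([9, 8, 6, 2, 3, 4, 5, 2, 3, 2, 4, 3, 7, 8, 3, 4, 5, 9, 7, 3, 4, 2, 3, 7], 0),
    ([9, 8, 6, 2, 3, 4, 5, 2, 3, 2, 4, 3, 7, 8, 3, 7, 4, 5, 3, 4, 2, 3, 7, 6], 0),
    ([9, 8, 6, 2, 3, 4, 5, 2, 3, 4, 2, 3, 7, 8, 3, 4, 5, 9, 7, 3, 4, 2, 3, 7, 6], 0),
    ([9, 8, 7, 3, 4, 2, 3, 7, 5, 4, 3, 2, 7, 8, 3, 7, 4, 5, 3, 4, 2, 3, 7, 8, 5, 6], 0),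
    ([9, 8, 7, 3, 4, 2, 3, 7, 5, 4, 3, 2, 7, 8, 3, 7, 4, 5, 3, 4, 2, 3, 7, 8, 5, 9], 0),
    ([9, 8, 7, 3, 4, 5, 2, 3, 4, 3, 2, 7, 8, 3, 7, 4, 5, 3, 4, 2, 3, 7, 8, 4, 5], 0),
    ([9, 8, 7, 6, 3, 4, 5, 2, 3, 4, 3, 2, 7, 8, 3, 7, 4, 5, 3, 4, 2, 3, 7, 8, 4, 5], 0)]

/-- The elements fixing the first three base points, each with the centre if it is a transvection. -/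
def grpWords : List (List Nat × Nat) := grp0 ++ grp1 ++ grp2 ++ grp3 ++ grp4 ++ grp5 ++ grp6 ++ grp7

end Cfsg.Lib.USixType.Model
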