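import Cfsg.Agent.USixType.Interface
import Cfsg.Agent.USixType.TvData
import Cfsg.Agent.CosetCert.Keys

/-!
The transvections of the unitary group on the isotropic points: one for each point, compatible with the action, and
the only involutions fixing 181 points.
-/

set_option autoImplicit false
set_option Elab.async false

namespace Cfsg.Lib.USixType.Model

open Cfsg.Lib.FiPres Cfsg.Lib.CosetCert Cfsg.Lib.PermCert
open Cfsg.Lib.PrimeGraph

/-- The image of a point under a word, read right to left. -/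
def ev (w : List ℕ) (x : ℕ) : ℕ := w.foldr (fun l y => ap (uniTabs.getD l (0, 0)).1 y) x

/-- The base points. -/
def basePts : List ℕ := [0, 1, 6, 113, 343]

/-- The images of the base points. -/
def key (w : List ℕ) : List ℕ := basePts.map (ev w)

/-- The letters of a word lie in the stabiliser. -/
def letOK (w : List ℕ) : Bool := w.all fun l => lamH.contains l

/-- A letter in the model. -/
noncomputable def imW (l : ℕ) : W := ⟨toSub (imH10 l), ⟨_, rfl⟩⟩

/-- A word in the model. -/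
noncomputable def wv (w : List ℕ) : W := wval imW w

theorem wv_append (u v : List ℕ) : wv (u ++ v) = wv u * wv v := wval_append imW u v

theorem imW_sq (l : ℕ) : imW l * imW l = 1 := by
  refine Subtype.ext ?_
  show toSub (imH10 l) * toSub (imH10 l) = 1
  rw [← map_mul]
  by_cases h : l ∈ lamH
  · rw [imH10_sq h, map_one]
  · rw [imH10, dif_neg h, one_mul, map_one]

theorem wv_reverse (w : List ℕ) : wv w.reverse = (wv w)⁻¹ := wval_reverse imW (w := w) fun l _ => imW_sq l

theorem tab_valid {l : ℕ} (hl : l ∈ lamH) : valid 693 (uniTabs.getD l (0, 0)) = true :=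
  List.all_eq_true.1 uni_valid l (List.mem_range.2 (lamH_lt l hl))

theorem wv_apply : ∀ {w : List ℕ}, letOK w = true → ∀ x : Fin 693,
    (((wv w : W) : Equiv.Perm (Fin 693)) x : ℕ) = ev w x
  | [], _, x => rfl
  | l :: w, h, x => by
    simp only [letOK, List.all_cons, Bool.and_eq_true] at h
    have hl : l ∈ lamH := List.contains_iff_mem.1 h.1
    have e := wv_apply (w := w) h.2 x
    show ((toSub (imH10 l) * ((wv w : W) : Equiv.Perm (Fin 693))) x : ℕ) = _
    rw [Equiv.Perm.mul_apply, toSub_imH10 hl, subAct, perm_apply (tab_valid hl), e]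
    rfl

theorem wv_coe {w : List ℕ} (h : letOK w = true) : ((wv w : W) : Equiv.Perm (Fin 693)) = wval subAct w := by
  show (W.subtype : W →* _) (wval imW w) = _
  rw [map_wval]
  refine congrArg List.prod (List.map_congr_left fun l hl => ?_)
  exact toSub_imH10 (List.contains_iff_mem.1 (List.all_eq_true.1 h l hl))

theorem card_W_le : Nat.card W ≤ 9196830720 := by
  have : Finite (Cfsg.PSU 6 KQuad 2) := Nat.finite_of_card_ne_zero (by rw [card_psu6]; norm_num)
  have h1 : Nat.card toSub.range ≤ Nat.card toPSU.range := by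
    rw [← Subgroup.index_ker, ← Subgroup.index_ker]
    exact Nat.le_of_dvd (Nat.pos_of_ne_zero Subgroup.index_ne_zero_of_finite)
      (Subgroup.index_dvd_of_le fun g hg => toSub_eq_one hg)
  exact h1.trans ((Subgroup.card_le_card_group toPSU.range).trans card_psu6.le)

set_option maxRecDepth 8000 in
theorem tabsW : ∀ l < uniTabs.length, valid 693 (uniTabs.getD l (0, 0)) = true ∧
    MonoidHom.id (Equiv.Perm (Fin 693)) (subAct l) = perm 693 (uniTabs.getD l (0, 0)) :=
  fun l hl => ⟨List.all_eq_true.1 uni_valid l (List.mem_range.2 hl), rfl⟩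

theorem chain_mem : ∀ K ∈ chainU, ∀ w ∈ K.gens, wval subAct w ∈ W := fun K hK w hw => by
  have hl : letOK w = true := List.all_eq_true.1 (List.all_eq_true.1 chainU_ok.2.2 K hK) w hw
  rw [← wv_coe hl]
  exact (wv w).2

/-- The points of a level of the chain. -/
def levelPts (M : Lev) : Finset (Fin 693) := Finset.univ.filter fun j => j.val ∈ M.b :: M.orb.map Prod.fst

theorem level_facts (M : Lev) (r : List Lev) (L : Subgroup (Equiv.Perm (Fin 693)))
    (hc : chainOK uniTabs 693 uniTabs.length (M :: r) = true) (hmem : ∀ K ∈ M :: r, ∀ w ∈ K.gens, wval subAct w ∈ L)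
    (hcard : Nat.card L ≤ chainSize (M :: r)) (p : Fin 693) (hp : p.val = M.b) :
    (∀ x ∈ L, ∀ j ∈ levelPts M, x j ∈ levelPts M) ∧ (∀ j ∈ levelPts M, ∃ x ∈ L, x p = j) := by
  obtain ⟨k1, -, -, -⟩ := stab_keys subAct uniTabs tabsW M r L hc hmem hcard p hp
  have hlet := chain_bound.chain_letters.{0} uniTabs (M :: r) hc
  simp only [chainOK, Bool.and_eq_true] at hc
  obtain ⟨⟨⟨hok, -⟩, -⟩, -⟩ := hc
  simp only [Lev.ok, Bool.and_eq_true, decide_eq_true_eq] at hok
  obtain ⟨T, -, hT2, hT3⟩ := scan_orbit subAct uniTabs tabsW M.gens L (hlet M List.mem_cons_self)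
    (hmem M List.mem_cons_self) p M.orb (1 <<< M.b) {M.b}
    (fun j => by rw [Nat.one_shiftLeft, Nat.testBit_two_pow, decide_eq_true_eq, Finset.mem_singleton]; exact eq_comm)
    (fun j hj => by
      obtain rfl := Finset.mem_singleton.1 hj
      exact ⟨hok.1, ⟨1, Fin.ext hp⟩⟩) hok.2
  have horb : ∀ j ∈ levelPts M, ∃ x ∈ L, x p = j := fun j hj => by
    simp only [levelPts, Finset.mem_filter, Finset.mem_univ, true_and, List.mem_cons] at hj
    obtain ⟨h, ⟨x, hx⟩⟩ := hT3 j.val ((hT2 _).2 (hj.imp Finset.mem_singleton.2 id))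
    exact ⟨x, x.2, hx.trans (Fin.ext rfl)⟩
  refine ⟨fun x hx j hj => ?_, horb⟩
  obtain ⟨y, hy, rfl⟩ := horb j hj
  have := k1 _ (L.inv_mem (L.mul_mem hx hy))
  rw [inv_inv, Equiv.Perm.mul_apply] at this
  exact Finset.mem_filter.2 ⟨Finset.mem_univ _, this⟩

/-- The stabiliser of the first point. -/
noncomputable def L1 : Subgroup (Equiv.Perm (Fin 693)) := stabIn W (0 : Fin 693)

/-- The stabiliser of the first two base points. -/
noncomputable def L2 : Subgroup (Equiv.Perm (Fin 693)) := stabIn L1 (1 : Fin 693)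

/-- The stabiliser of the first three base points. -/
noncomputable def L3 : Subgroup (Equiv.Perm (Fin 693)) := stabIn L2 (6 : Fin 693)

theorem chain_levels :
    (chainOK uniTabs 693 uniTabs.length [chainU1, chainU2, chainU3, chainU4] = true ∧
      (∀ K ∈ [chainU1, chainU2, chainU3, chainU4], ∀ w ∈ K.gens, wval subAct w ∈ L1) ∧
      Nat.card L1 ≤ chainSize [chainU1, chainU2, chainU3, chainU4]) ∧
    (chainOK uniTabs 693 uniTabs.length [chainU2, chainU3, chainU4] = true ∧
      (∀ K ∈ [chainU2, chainU3, chainU4], ∀ w ∈ K.gens, wval subAct w ∈ L2) ∧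
      Nat.card L2 ≤ chainSize [chainU2, chainU3, chainU4]) ∧
    (chainOK uniTabs 693 uniTabs.length [chainU3, chainU4] = true ∧
      (∀ K ∈ [chainU3, chainU4], ∀ w ∈ K.gens, wval subAct w ∈ L3) ∧
      Nat.card L3 ≤ chainSize [chainU3, chainU4]) := by
  obtain ⟨-, c1, m1, n1⟩ := stab_keys subAct uniTabs tabsW chainU0 [chainU1, chainU2, chainU3, chainU4] W
    chainU_ok.1 chain_mem (chainU_ok.2.1.symm ▸ card_W_le) 0 rfl
  obtain ⟨-, c2, m2, n2⟩ := stab_keys subAct uniTabs tabsW chainU1 [chainU2, chainU3, chainU4] L1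
    c1 m1 n1 1 rfl
  obtain ⟨-, c3, m3, n3⟩ := stab_keys subAct uniTabs tabsW chainU2 [chainU3, chainU4] L2
    c2 m2 n2 6 rfl
  exact ⟨⟨c1, m1, n1⟩, ⟨c2, m2, n2⟩, ⟨c3, m3, n3⟩⟩

theorem fix_all : ∀ (c : List Lev) (L : Subgroup (Equiv.Perm (Fin 693))),
    chainOK uniTabs 693 uniTabs.length c = true → (∀ K ∈ c, ∀ w ∈ K.gens, wval subAct w ∈ L) →
    Nat.card L ≤ chainSize c → ∀ x ∈ L, (∀ K ∈ c, ∀ p : Fin 693, p.val = K.b → x p = p) → x = 1
  | [], L, _, _, hn, x, hx, _ => by
    rw [Subgroup.eq_bot_of_card_le L (by simpa [chainSize] using hn)] at hx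
    exact Subgroup.mem_bot.1 hx
  | M :: r, L, hc, hm, hn, x, hx, hf => by
    have hb : M.b < 693 := by
      have h := hc
      simp only [chainOK, Bool.and_eq_true] at h
      have := h.1.1.1
      simp only [Lev.ok, Bool.and_eq_true, decide_eq_true_eq] at this
      exact this.1
    obtain ⟨-, c, m, n⟩ := stab_keys subAct uniTabs tabsW M r L hc hm hn ⟨M.b, hb⟩ rfl
    exact fix_all r _ c m n x ⟨hx, MulAction.mem_stabilizer_iff.2 (hf M List.mem_cons_self ⟨M.b, hb⟩ rfl)⟩
      fun K hK => hf K (List.mem_cons_of_mem M hK)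

/-- An element is determined by the images of the base points. -/
theorem ext_base {g h : W} (H : ∀ p : Fin 693, p.val ∈ basePts →
    (g : Equiv.Perm (Fin 693)) p = (h : Equiv.Perm (Fin 693)) p) : g = h := by
  have hb : chainU.map Lev.b = basePts := rfl
  refine (inv_mul_eq_one.1 (Subtype.ext (fix_all chainU W chainU_ok.1 chain_mem
    (chainU_ok.2.1.symm ▸ card_W_le) _ ((g⁻¹ * h : W)).2 fun K hK p hp => ?_) : g⁻¹ * h = 1))
  have := H p (hp ▸ hb ▸ List.mem_map_of_mem hK)
  show ((g : Equiv.Perm (Fin 693))⁻¹ * (h : Equiv.Perm (Fin 693))) p = p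
  rw [Equiv.Perm.mul_apply, ← this]
  exact Equiv.symm_apply_apply _ p

theorem wv_eq {u v : List ℕ} (hu : letOK u = true) (hv : letOK v = true) (h : key u = key v) : wv u = wv v := by
  refine ext_base fun p hp => Fin.ext ?_
  rw [wv_apply hu, wv_apply hv]
  exact List.map_inj_left.1 h _ hp

theorem key_of_eq {u v : List ℕ} (hu : letOK u = true) (hv : letOK v = true) (h : wv u = wv v) : key u = key v := by
  refine List.map_inj_left.2 fun p hp => ?_
  have hp' : p < 693 := (show ∀ p ∈ basePts, p < 693 by decide) p hp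
  rw [← wv_apply hu ⟨p, hp'⟩, ← wv_apply hv ⟨p, hp'⟩, h]

/-- A word carrying the first point to a point. -/
def ptW (j : Fin 693) : List ℕ := ptWords.getD j.val []

/-- A transvection as a word. -/
def tvW (j : Fin 693) : List ℕ := ptW j ++ zWord ++ (ptW j).reverse

/-- The transvection with a given centre. -/
noncomputable def tv (j : Fin 693) : W := wv (tvW j)

theorem pt_ok : ((List.range 693).all fun j => letOK (ptWords.getD j []) && (ev (ptWords.getD j []) 0 == j)) = true ∧
    letOK zWord = true := by decide +kernel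

theorem z_commutes : (([chainU1, chainU2, chainU3, chainU4].flatMap Lev.gens).all fun w =>
    letOK w && (key (w ++ zWord) == key (zWord ++ w))) = true ∧ key (zWord ++ zWord) = basePts ∧
      key zWord ≠ basePts := by decide +kernel

theorem letOK_append (u v : List ℕ) : letOK (u ++ v) = (letOK u && letOK v) := List.all_append

theorem letOK_reverse (u : List ℕ) : letOK u.reverse = letOK u := List.all_reverse

theorem letOK_ptW (j : Fin 693) : letOK (ptW j) = true := by
  have := List.all_eq_true.1 pt_ok.1 j.val (List.mem_range.2 j.isLt)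
  rw [Bool.and_eq_true] at this
  exact this.1

theorem letOK_tvW (j : Fin 693) : letOK (tvW j) = true := by
  rw [tvW, letOK_append, letOK_append, letOK_reverse, letOK_ptW, pt_ok.2]
  rfl

theorem ptW_zero (j : Fin 693) : ((wv (ptW j) : W) : Equiv.Perm (Fin 693)) 0 = j := by
  have := List.all_eq_true.1 pt_ok.1 j.val (List.mem_range.2 j.isLt)
  rw [Bool.and_eq_true, beq_iff_eq] at this
  exact Fin.ext ((wv_apply (letOK_ptW j) 0).trans this.2)

theorem tv_eq (j : Fin 693) : tv j = wv (ptW j) * wv zWord * (wv (ptW j))⁻¹ := by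
  rw [tv, tvW, wv_append, wv_append, wv_reverse]

theorem stab_commutes {g : W} (h : (g : Equiv.Perm (Fin 693)) 0 = 0) : g * wv zWord = wv zWord * g := by
  obtain ⟨⟨c1, m1, n1⟩, -, -⟩ := chain_levels
  have hin : L1 ≤ (Subgroup.centralizer ({wv zWord} : Set W)).map W.subtype := by
    set S : Subgroup (Equiv.Perm (Fin 693)) := Subgroup.closure
      {x | ∃ w ∈ [chainU1, chainU2, chainU3, chainU4].flatMap Lev.gens, wval subAct w = x}
    have hS : S ≤ L1 := (Subgroup.closure_le _).2 fun x ⟨w, hw, e⟩ => by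
      obtain ⟨K, hK, hw⟩ := List.mem_flatMap.1 hw
      exact e ▸ m1 K hK w hw
    have hlow : chainSize [chainU1, chainU2, chainU3, chainU4] ≤ Nat.card S :=
      chain_bound subAct (MonoidHom.id _) uniTabs tabsW _ S c1 inferInstance fun K hK w hw =>
        Subgroup.subset_closure ⟨w, List.mem_flatMap.2 ⟨K, hK, hw⟩, rfl⟩
    rw [← Subgroup.eq_of_le_of_card_ge hS (n1.trans hlow)]
    refine (Subgroup.closure_le _).2 fun x ⟨w, hw, e⟩ => ?_
    have hz := List.all_eq_true.1 z_commutes.1 w hw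
    rw [Bool.and_eq_true, beq_iff_eq] at hz
    refine ⟨wv w, Subgroup.mem_centralizer_singleton_iff.2 ?_, (wv_coe hz.1).trans e⟩
    have := wv_eq (by rw [letOK_append, hz.1, pt_ok.2]; rfl) (by rw [letOK_append, hz.1, pt_ok.2]; rfl) hz.2
    rwa [wv_append, wv_append] at this
  obtain ⟨y, hy, e⟩ := hin ⟨g.2, MulAction.mem_stabilizer_iff.2 h⟩
  obtain rfl : y = g := Subtype.ext e
  exact Subgroup.mem_centralizer_singleton_iff.1 hy

/-- Conjugation moves the centre. -/
theorem tv_conj (g : W) (j : Fin 693) : g * tv j * g⁻¹ = tv ((g : Equiv.Perm (Fin 693)) j) := by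
  set k := (g : Equiv.Perm (Fin 693)) j with hk
  have h0 : (((wv (ptW k))⁻¹ * g * wv (ptW j) : W) : Equiv.Perm (Fin 693)) 0 = 0 := by
    show ((wv (ptW k) : W) : Equiv.Perm (Fin 693))⁻¹
      ((g : Equiv.Perm (Fin 693)) (((wv (ptW j) : W) : Equiv.Perm (Fin 693)) 0)) = 0
    rw [ptW_zero, ← hk]
    exact Equiv.Perm.inv_eq_iff_eq.2 (ptW_zero k).symm
  have hc := stab_commutes h0
  rw [tv_eq, tv_eq]
  calc g * (wv (ptW j) * wv zWord * (wv (ptW j))⁻¹) * g⁻¹
      = wv (ptW k) * ((wv (ptW k))⁻¹ * g * wv (ptW j) * wv zWord) * ((wv (ptW j))⁻¹ * g⁻¹) := by group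
    _ = wv (ptW k) * (wv zWord * ((wv (ptW k))⁻¹ * g * wv (ptW j))) * ((wv (ptW j))⁻¹ * g⁻¹) := by rw [hc]
    _ = wv (ptW k) * wv zWord * (wv (ptW k))⁻¹ := by group

theorem zero_checks : ((List.range 693).all fun j => (j == 0) ||
    !(key (ptWords.getD j [] ++ zWord ++ (ptWords.getD j []).reverse) == key (tvW 0))) = true ∧
    ev (tvW 0) 0 = 0 ∧ ((List.range 693).filter fun j => ev (tvW 0) j == j).length = 181 := by decide +kernel

/-- The centre determines and is determined by the transvection. -/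
theorem tv_inj : Function.Injective tv := by
  intro i j h
  set g : W := (wv (ptW i))⁻¹
  have hi : (g : Equiv.Perm (Fin 693)) i = 0 := Equiv.Perm.inv_eq_iff_eq.2 (ptW_zero i).symm
  set k := (g : Equiv.Perm (Fin 693)) j with hk
  have hj : tv k = tv 0 := by rw [hk, ← hi, ← tv_conj, ← tv_conj, h]
  by_contra hne
  have hk0 : k.val ≠ 0 := fun e => hne ((g : Equiv.Perm (Fin 693)).injective (hi.trans (Fin.ext e).symm))
  have hz := List.all_eq_true.1 zero_checks.1 k.val (List.mem_range.2 k.isLt)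
  rw [Bool.or_eq_true, beq_iff_eq, Bool.not_eq_true', beq_eq_false_iff_ne] at hz
  exact hz.resolve_left hk0 (key_of_eq (letOK_tvW k) (letOK_tvW 0) hj)

theorem tv_sq (j : Fin 693) : tv j * tv j = 1 := by
  have h : wv zWord * wv zWord = 1 := by
    rw [← wv_append]
    exact wv_eq (v := []) (by rw [letOK_append, pt_ok.2]; rfl) rfl z_commutes.2.1
  rw [tv_eq, show wv (ptW j) * wv zWord * (wv (ptW j))⁻¹ * (wv (ptW j) * wv zWord * (wv (ptW j))⁻¹)
    = wv (ptW j) * (wv zWord * wv zWord) * (wv (ptW j))⁻¹ by group, h]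
  group

theorem tv_inv (j : Fin 693) : (tv j)⁻¹ = tv j := inv_eq_of_mul_eq_one_left (tv_sq j)

theorem tv_ne_one (j : Fin 693) : tv j ≠ 1 := by
  intro h
  rw [tv_eq, conj_eq_one_iff] at h
  exact z_commutes.2.2 (key_of_eq (u := zWord) (v := []) pt_ok.2 rfl h)

/-- A transvection commutes with exactly those whose centre it fixes. -/
theorem commute_iff (i j : Fin 693) : Commute (tv i) (tv j) ↔ ((tv i : W) : Equiv.Perm (Fin 693)) j = j := by
  constructor
  · intro h
    refine tv_inj ?_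
    rw [← tv_conj, h.eq, mul_inv_cancel_right]
  · intro h
    have := tv_conj (tv i) j
    rw [h, mul_inv_eq_iff_eq_mul] at this
    exact this

theorem tv_fix (j : Fin 693) : ((tv j : W) : Equiv.Perm (Fin 693)) j = j := (commute_iff j j).1 (Commute.refl _)

theorem isTv_tv (j : Fin 693) : IsTv (tv j) := by
  refine ⟨tv_ne_one j, tv_sq j, ?_⟩
  set g : Equiv.Perm (Fin 693) := ((wv (ptW j) : W) : Equiv.Perm (Fin 693))
  have h0 : (Finset.univ.filter fun i => ((tv 0 : W) : Equiv.Perm (Fin 693)) i = i).card = 181 := by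
    rw [← zero_checks.2.2, ← List.toFinset_card_of_nodup (List.nodup_range.filter _)]
    refine Finset.card_bij (fun i _ => i.val) (fun i hi => ?_) (fun a _ b _ e => Fin.ext e) fun n hn => ?_
    · rw [Finset.mem_filter] at hi
      rw [List.mem_toFinset, List.mem_filter, List.mem_range, beq_iff_eq]
      exact ⟨i.isLt, (wv_apply (letOK_tvW 0) i).symm.trans (congrArg Fin.val hi.2)⟩
    · rw [List.mem_toFinset, List.mem_filter, List.mem_range, beq_iff_eq] at hn
      exact ⟨⟨n, hn.1⟩, Finset.mem_filter.2 ⟨Finset.mem_univ _, Fin.ext ((wv_apply (letOK_tvW 0) _).trans hn.2)⟩, rfl⟩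
  rw [← h0]
  have e : (tv j : W) = wv (ptW j) * tv 0 * (wv (ptW j))⁻¹ := by rw [tv_conj, ptW_zero]
  refine Finset.card_equiv g.symm fun i => ?_
  simp only [Finset.mem_filter, Finset.mem_univ, true_and]
  rw [e]
  show g (((tv 0 : W) : Equiv.Perm (Fin 693)) (g.symm i)) = i ↔ _
  exact ⟨fun h => g.injective (h.trans (g.apply_symm_apply i).symm), fun h => by rw [h, g.apply_symm_apply]⟩

theorem far_check : ((List.range 693).all fun j =>
    (ev (tvW 0) j != j) == (chainU1.b :: chainU1.orb.map Prod.fst).contains j) = true ∧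
    ev (tvW 0) 2 = 2 ∧ (List.range 693).any (fun j => (ev (tvW 0) j == j) && (ev (tvW 2) j != j)) = true ∧
    (levelPts chainU2).card = 135 := by decide +kernel

theorem grp_check : (grpWords.all fun c => letOK c.1 && (ev c.1 0 == 0) && (ev c.1 1 == 1) && (ev c.1 6 == 6)) = true ∧
    (grpWords.map fun c => key c.1).Nodup ∧ grpWords.length = 192 ∧
    chainSize [chainU3, chainU4] = 192 := by decide +kernel

theorem grp_class : (grpWords.all fun c => (key c.1 == basePts) || !(key (c.1 ++ c.1) == basePts) ||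
    (key c.1 == key (tvW (Fin.ofNat 693 c.2))) ||
    !(((List.range 693).filter fun j => ev c.1 j == j).length == 181)) = true := by decide +kernel

theorem mem_L3 {g : W} (h : (g : Equiv.Perm (Fin 693)) ∈ L3) : ∃ c ∈ grpWords, wv c.1 = g := by
  obtain ⟨-, -, ⟨-, -, n3⟩⟩ := chain_levels
  have hm : ∀ c ∈ grpWords, ((wv c.1 : W) : Equiv.Perm (Fin 693)) ∈ L3 := fun c hc => by
    have := List.all_eq_true.1 grp_check.1 c hc
    simp only [Bool.and_eq_true, beq_iff_eq] at this
    obtain ⟨⟨⟨hl, a⟩, b⟩, d⟩ := this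
    exact ⟨⟨⟨(wv c.1).2, MulAction.mem_stabilizer_iff.2 (Fin.ext ((wv_apply hl 0).trans a))⟩,
      MulAction.mem_stabilizer_iff.2 (Fin.ext ((wv_apply hl 1).trans b))⟩,
      MulAction.mem_stabilizer_iff.2 (Fin.ext ((wv_apply hl 6).trans d))⟩
  classical
  set T : Finset (Equiv.Perm (Fin 693)) :=
    (grpWords.map fun c => ((wv c.1 : W) : Equiv.Perm (Fin 693))).toFinset
  have hnd : (grpWords.map fun c => ((wv c.1 : W) : Equiv.Perm (Fin 693))).Nodup := by
    refine List.Nodup.map_on (fun a ha b hb e => ?_) (List.Nodup.of_map _ grp_check.2.1)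
    have hla := List.all_eq_true.1 grp_check.1 a ha
    have hlb := List.all_eq_true.1 grp_check.1 b hb
    simp only [Bool.and_eq_true] at hla hlb
    exact List.inj_on_of_nodup_map grp_check.2.1 ha hb (key_of_eq hla.1.1.1 hlb.1.1.1 (Subtype.ext e))
  have hT : T.card = 192 := by rw [List.toFinset_card_of_nodup hnd, List.length_map, grp_check.2.2.1]
  have hsub : (T : Set (Equiv.Perm (Fin 693))) ⊆ L3 := fun x hx => by
    obtain ⟨c, hc, rfl⟩ := List.mem_map.1 (List.mem_toFinset.1 (Finset.mem_coe.1 hx))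
    exact hm c hc
  have heq : (T : Set (Equiv.Perm (Fin 693))) = L3 := Set.eq_of_subset_of_ncard_le hsub (by
    rw [Set.ncard_coe_finset, hT, ← Nat.card_coe_set_eq]
    exact n3.trans grp_check.2.2.2.le) (Set.toFinite _)
  obtain ⟨c, hc, e⟩ := List.mem_map.1 (List.mem_toFinset.1 (Finset.mem_coe.1 (heq.ge h)))
  exact ⟨c, hc, Subtype.ext e⟩

/-- Being a transvection is invariant under conjugation. -/
theorem isTv_conj {w : W} (g : W) (h : IsTv w) : IsTv (g * w * g⁻¹) := by
  refine ⟨fun e => h.1 (conj_eq_one_iff.1 e), ?_, ?_⟩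
  · rw [show g * w * g⁻¹ * (g * w * g⁻¹) = g * (w * w) * g⁻¹ by group, h.2.1]; group
  · rw [← h.2.2]
    refine Finset.card_equiv (g : Equiv.Perm (Fin 693)).symm fun i => ?_
    simp only [Finset.mem_filter, Finset.mem_univ, true_and]
    show (g : Equiv.Perm (Fin 693)) ((w : Equiv.Perm (Fin 693)) ((g : Equiv.Perm (Fin 693)).symm i)) = i ↔ _
    exact ⟨fun h => (g : Equiv.Perm (Fin 693)).injective (h.trans (Equiv.apply_symm_apply _ i).symm),
      fun h => by rw [h, Equiv.apply_symm_apply]⟩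

theorem far_iff (j : Fin 693) : ((tv 0 : W) : Equiv.Perm (Fin 693)) j ≠ j ↔ j ∈ levelPts chainU1 := by
  have h := List.all_eq_true.1 far_check.1 j.val (List.mem_range.2 j.isLt)
  rw [beq_iff_eq] at h
  rw [levelPts, Finset.mem_filter, ← List.contains_iff_mem, ← h, bne_iff_ne, ne_eq, ne_eq, Fin.ext_iff,
    tv, wv_apply (letOK_tvW 0)]
  simp only [Finset.mem_univ, true_and]

/-- The transvections are the involutions fixing 181 points. -/
theorem isTv_iff {w : W} : IsTv w ↔ ∃ j, w = tv j := by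
  refine ⟨fun hw => ?_, fun ⟨j, e⟩ => e ▸ isTv_tv j⟩
  suffices key' : ∃ i k : Fin 693, (w : Equiv.Perm (Fin 693)) i = i ∧ (w : Equiv.Perm (Fin 693)) k = k ∧
      ((tv i : W) : Equiv.Perm (Fin 693)) k ≠ k by
    obtain ⟨i, k, hi, hk, hik⟩ := key'
    obtain ⟨⟨c1, m1, n1⟩, ⟨c2, m2, n2⟩, -⟩ := chain_levels
    set g : W := (wv (ptW i))⁻¹
    have hgi : (g : Equiv.Perm (Fin 693)) i = 0 := Equiv.Perm.inv_eq_iff_eq.2 (ptW_zero i).symm
    set k' := (g : Equiv.Perm (Fin 693)) k with hk'
    have hk1 : k' ∈ levelPts chainU1 := by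
      refine (far_iff k').1 fun e => hik ?_
      rw [← hgi, ← tv_conj, hk'] at e
      exact (g : Equiv.Perm (Fin 693)).injective (by simpa using e)
    obtain ⟨x, hx, hx1⟩ := (level_facts chainU1 _ L1 c1 m1 n1 1 rfl).2 k' hk1
    set h : W := ⟨x, hx.1⟩⁻¹ * g with hh
    have hhi : (h : Equiv.Perm (Fin 693)) i = 0 := by
      show x⁻¹ ((g : Equiv.Perm (Fin 693)) i) = 0
      rw [hgi]
      exact Equiv.Perm.inv_eq_iff_eq.2 (MulAction.mem_stabilizer_iff.1 hx.2).symm
    have hhk : (h : Equiv.Perm (Fin 693)) k = 1 := by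
      show x⁻¹ k' = 1
      exact Equiv.Perm.inv_eq_iff_eq.2 hx1.symm
    set v : W := h * w * h⁻¹ with hv
    have hv0 : ∀ a b, (w : Equiv.Perm (Fin 693)) a = a → (h : Equiv.Perm (Fin 693)) a = b →
        (v : Equiv.Perm (Fin 693)) b = b := fun a b ha hb => by
      show (h : Equiv.Perm (Fin 693)) ((w : Equiv.Perm (Fin 693)) ((h : Equiv.Perm (Fin 693))⁻¹ b)) = b
      rw [show (h : Equiv.Perm (Fin 693))⁻¹ b = a from Equiv.Perm.inv_eq_iff_eq.2 hb.symm, ha, hb]
    have hvL : (v : Equiv.Perm (Fin 693)) ∈ L2 :=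
      ⟨⟨v.2, MulAction.mem_stabilizer_iff.2 (hv0 i 0 hi hhi)⟩, MulAction.mem_stabilizer_iff.2 (hv0 k 1 hk hhk)⟩
    have hvtv : IsTv v := isTv_conj h hw
    obtain ⟨hinv, horb⟩ := level_facts chainU2 _ L2 c2 m2 n2 6 rfl
    set σ : Equiv.Perm {j // j ∈ levelPts chainU2} := (v : Equiv.Perm (Fin 693)).subtypePerm fun j =>
      ⟨fun hj => by
        have := hinv _ hvL _ hj
        rwa [← Equiv.Perm.mul_apply, show ((v : Equiv.Perm (Fin 693)) * (v : Equiv.Perm (Fin 693))) = 1 from
          congrArg Subtype.val hvtv.2.1, Equiv.Perm.one_apply] at this,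
        fun hj => hinv _ hvL _ hj⟩
    have : Fact (Nat.Prime 2) := ⟨Nat.prime_two⟩
    obtain ⟨⟨q, hq⟩, hfix⟩ := Equiv.Perm.exists_fixed_point_of_prime (p := 2) (n := 1) (σ := σ)
      (by rw [Fintype.card_coe, far_check.2.2.2]; decide) (by
        refine Equiv.ext fun j => Subtype.ext ?_
        show (v : Equiv.Perm (Fin 693)) ((v : Equiv.Perm (Fin 693)) j.1) = j.1
        rw [← Equiv.Perm.mul_apply, show ((v : Equiv.Perm (Fin 693)) * (v : Equiv.Perm (Fin 693))) = 1 from
          congrArg Subtype.val hvtv.2.1, Equiv.Perm.one_apply])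
    obtain ⟨y, hy, hy6⟩ := horb q hq
    set z : W := (⟨y, hy.1.1⟩ : W)⁻¹ * v * ⟨y, hy.1.1⟩ with hz
    have hzL : (z : Equiv.Perm (Fin 693)) ∈ L3 := by
      refine ⟨L2.mul_mem (L2.mul_mem (L2.inv_mem hy) hvL) hy, MulAction.mem_stabilizer_iff.2 ?_⟩
      show y⁻¹ ((v : Equiv.Perm (Fin 693)) (y 6)) = 6
      rw [hy6, show (v : Equiv.Perm (Fin 693)) q = q from congrArg Subtype.val hfix]
      exact Equiv.Perm.inv_eq_iff_eq.2 hy6.symm
    have hztv : IsTv z := by
      rw [hz, show ((⟨y, hy.1.1⟩ : W)⁻¹ * v * ⟨y, hy.1.1⟩) = (⟨y, hy.1.1⟩ : W)⁻¹ * v * ((⟨y, hy.1.1⟩ : W)⁻¹)⁻¹ by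
        rw [inv_inv]]
      exact isTv_conj _ hvtv
    obtain ⟨c, hc, hcz⟩ := mem_L3 hzL
    have hl : letOK c.1 = true := by
      have := List.all_eq_true.1 grp_check.1 c hc
      simp only [Bool.and_eq_true] at this
      exact this.1.1.1
    have hcl := List.all_eq_true.1 grp_class c hc
    simp only [Bool.or_eq_true, beq_iff_eq, Bool.not_eq_true', beq_eq_false_iff_ne] at hcl
    rw [← hcz] at hztv
    rcases hcl with ((e | e) | e) | e
    · exact absurd (wv_eq (v := []) hl rfl e) hztv.1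
    · refine absurd ?_ e
      have := key_of_eq (u := c.1 ++ c.1) (v := []) (by rw [letOK_append, hl]; rfl) rfl
        (by rw [wv_append]; exact hztv.2.1)
      exact this
    · have hzc := wv_eq hl (letOK_tvW _) e
      refine ⟨((((⟨y, hy.1.1⟩ : W)⁻¹ * h)⁻¹ : W) : Equiv.Perm (Fin 693)) (Fin.ofNat 693 c.2), ?_⟩
      rw [← tv_conj, show tv (Fin.ofNat 693 c.2) = z from hzc.symm.trans hcz, hz, hv]
      group
    · refine absurd ?_ e
      rw [← List.toFinset_card_of_nodup (List.nodup_range.filter _), ← hztv.2.2]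
      symm
      refine Finset.card_bij (fun i _ => i.val) (fun i hi => ?_) (fun a _ b _ e => Fin.ext e) fun n hn => ?_
      · rw [Finset.mem_filter] at hi
        rw [List.mem_toFinset, List.mem_filter, List.mem_range, beq_iff_eq]
        exact ⟨i.isLt, (wv_apply hl i).symm.trans (congrArg Fin.val hi.2)⟩
      · rw [List.mem_toFinset, List.mem_filter, List.mem_range, beq_iff_eq] at hn
        exact ⟨⟨n, hn.1⟩, Finset.mem_filter.2 ⟨Finset.mem_univ _, Fin.ext ((wv_apply hl _).trans hn.2)⟩, rfl⟩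
  set F := Finset.univ.filter fun j => (w : Equiv.Perm (Fin 693)) j = j with hF
  obtain ⟨i, hi⟩ : F.Nonempty := Finset.card_pos.1 (by rw [hF, hw.2.2]; norm_num)
  by_contra hno
  simp only [not_exists, not_and, not_not] at hno
  have hFeq : F = Finset.univ.filter fun j => ((tv i : W) : Equiv.Perm (Fin 693)) j = j := by
    refine Finset.eq_of_subset_of_card_le (fun j hj => ?_) (by rw [(isTv_tv i).2.2, hF, hw.2.2])
    exact Finset.mem_filter.2 ⟨Finset.mem_univ _, hno i j (Finset.mem_filter.1 hi).2 (Finset.mem_filter.1 hj).2⟩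
  obtain ⟨b, hb, hb'⟩ := List.any_eq_true.1 far_check.2.2.1
  rw [List.mem_range] at hb
  rw [Bool.and_eq_true, beq_iff_eq, bne_iff_ne] at hb'
  set g := wv (ptW i)
  have hmemF : ∀ a : Fin 693, ev (tvW 0) a.val = a.val →
      (w : Equiv.Perm (Fin 693)) ((g : Equiv.Perm (Fin 693)) a) = (g : Equiv.Perm (Fin 693)) a := fun a ha => by
    have hc : Commute (tv 0) (tv a) := (commute_iff 0 a).2 (Fin.ext ((wv_apply (letOK_tvW 0) a).trans ha))
    have h2 : Commute (tv i) (tv ((g : Equiv.Perm (Fin 693)) a)) := by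
      rw [show tv i = g * tv 0 * g⁻¹ by rw [tv_conj, ptW_zero], ← tv_conj]
      exact hc.map (MulAut.conj g).toMonoidHom
    have : (g : Equiv.Perm (Fin 693)) a ∈ F := by
      rw [hFeq]
      exact Finset.mem_filter.2 ⟨Finset.mem_univ _, (commute_iff _ _).1 h2⟩
    exact (Finset.mem_filter.1 this).2
  have h2b := (commute_iff _ _).2 (hno ((g : Equiv.Perm (Fin 693)) 2) ((g : Equiv.Perm (Fin 693)) ⟨b, hb⟩)
    (hmemF 2 far_check.2.1) (hmemF ⟨b, hb⟩ hb'.1))
  refine hb'.2 ((wv_apply (letOK_tvW 2) ⟨b, hb⟩).symm.trans (congrArg Fin.val ((commute_iff 2 ⟨b, hb⟩).1 ?_)))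
  have := h2b.map (MulAut.conj g⁻¹).toMonoidHom
  simpa [← tv_conj, MulAut.conj_apply, mul_assoc] using this

end Cfsg.Lib.USixType.Model
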