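import Cfsg.Agent.USixType.Steps
import Cfsg.Agent.USixType.EmbedModel
import Cfsg.Agent.USixType.Tv

/-!
# The model inside the group

A frame determines 693 conjugates of the transvection whose conjugation action is that of the model.
-/

set_option autoImplicit false
set_option Elab.async false
set_option maxRecDepth 100000

namespace Cfsg.Lib.USixType

open Cfsg.Lib.PermCert

universe u

variable {G : Type u} [Group G] {z : G} {J : Subgroup G}

theorem tv_fix_of_hF {i : Fin 45} {u : Vt} (e : hF u (ctr i) = 0) : tv (ctr i) u = u := by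
  have e' : h u (ctr i) = 0 := congrArg Fin.val e
  have z0 : sm 0 (ctr i) = 0 := (show ∀ i : Fin 45, sm 0 (ctr i) = 0 by decide +kernel) i
  rw [tv, e', z0, add_zero]

theorem hF_add (u v c : Vt) : hF (u + v) c = xF (hF u c) (hF v c) := Fin.ext (h_add_left u v c)

theorem hF_zero : ∀ i : Fin 45, hF 0 (ctr i) = 0 := by decide +kernel

theorem xF_self (a : Fin 4) : xF a a = 0 := Fin.ext (Nat.xor_self a.val)

namespace Frame

variable {c : Coord z J} (F : Frame c)

/-- The element of a point. -/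
def pnt : Pnt → G
  | .Z => z
  | .X i a => (F.s (repV i a))⁻¹ * F.x i * F.s (repV i a)
  | .Y v e => (F.s v * zp z e)⁻¹ * F.y * (F.s v * zp z e)

include F

theorem sq_of_conj {d : G} (h : IsConj z d) : d * d = 1 := by
  obtain ⟨g, rfl⟩ := isConj_iff.1 h
  rw [show g * z * g⁻¹ * (g * z * g⁻¹) = g * (z * z) * g⁻¹ by group, c.z_sq]
  group

theorem x_sq (i : Fin 45) : F.x i * F.x i = 1 := F.sq_of_conj (F.x_conj i)

theorem y_sq : F.y * F.y = 1 := F.sq_of_conj F.y_conj

theorem s_zero : F.s 0 = 1 := by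
  have h := F.s_mul 0 0
  rw [add_zero, show phi 0 0 = false by decide +kernel] at h
  simpa [zp] using h

theorem s_z (v : Vt) (b : Bool) : Commute (F.s v) (zp z b) := Coord.zp_comm (c.le _ (F.s_mem v)) b

theorem s_inv (u : Vt) : (F.s u)⁻¹ = F.s u * zp z (Q u) := by
  have h := F.s_mul u u
  rw [Vt.add_self, F.s_zero, one_mul, ← Q_eq_phi] at h
  refine inv_eq_of_mul_eq_one_right ?_
  rw [← mul_assoc, h, c.zp_mul, Bool.xor_self]
  rfl

theorem x_comm {i : Fin 45} {u : Vt} (e : hF u (ctr i) = 0) : Commute (F.x i) (F.s u) := by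
  have h := F.x_act i u
  rw [tv_fix_of_hF e] at h
  show F.x i * F.s u = F.s u * F.x i
  calc F.x i * F.s u = F.x i * F.s u * (F.x i * F.x i) := by rw [F.x_sq, mul_one]
    _ = F.x i * F.s u * F.x i * F.x i := by group
    _ = _ := by rw [h]

theorem X_eq {i : Fin 45} {a : Fin 4} {w : Vt} (e : hF w (ctr i) = a) :
    (F.s w)⁻¹ * F.x i * F.s w = F.pnt (.X i a) := by
  set r := repV i a
  have hu : hF (w + r) (ctr i) = 0 := by rw [hF_add, e, rep_ok, xF_self]
  have hw : F.s w = F.s (w + r) * F.s r * zp z (phi (w + r) r) := by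
    rw [F.s_mul, mul_assoc, c.zp_mul, Bool.xor_self, show zp z false = 1 from rfl, mul_one, add_assoc, Vt.add_self,
      add_zero]
  have hx : (F.s (w + r))⁻¹ * F.x i * F.s (w + r) = F.x i := by
    rw [mul_assoc, (F.x_comm hu).eq, inv_mul_cancel_left]
  have hz : Commute (F.pnt (.X i a)) (zp z (phi (w + r) r)) := by
    show Commute ((F.s r)⁻¹ * F.x i * F.s r) _
    exact ((F.s_z r _).inv_left.mul_left (Coord.zp_comm (F.x_z i) _)).mul_left (F.s_z r _)
  rw [hw]
  calc (F.s (w + r) * F.s r * zp z (phi (w + r) r))⁻¹ * F.x i * (F.s (w + r) * F.s r * zp z (phi (w + r) r))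
      = (zp z (phi (w + r) r))⁻¹ * ((F.s r)⁻¹ * ((F.s (w + r))⁻¹ * F.x i * F.s (w + r)) * F.s r) *
          zp z (phi (w + r) r) := by group
    _ = (zp z (phi (w + r) r))⁻¹ * F.pnt (.X i a) * zp z (phi (w + r) r) := by rw [hx]; rfl
    _ = F.pnt (.X i a) := by rw [mul_assoc, hz.eq, inv_mul_cancel_left]

theorem conj_z (p : Pnt) : z * F.pnt p * z = F.pnt (tzP p) := by
  have key : ∀ d : G, Commute d z → z * d * z = d := fun d h => by
    rw [← h.eq, mul_assoc, c.z_sq, mul_one]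
  cases p with
  | Z => exact key z (Commute.refl z)
  | X i a =>
    exact key _ (((c.le _ (F.s_mem _)).inv_left.mul_left (F.x_z i)).mul_left (c.le _ (F.s_mem _)))
  | Y v e =>
    show z * ((F.s v * zp z e)⁻¹ * F.y * (F.s v * zp z e)) * z = (F.s v * zp z (!e))⁻¹ * F.y * (F.s v * zp z (!e))
    have h : F.s v * zp z (!e) = F.s v * zp z e * z := by
      rw [mul_assoc]
      congr 1
      cases e <;> simp [zp, c.z_sq]
    rw [h, mul_inv_rev _ z, c.z_inv]
    group

theorem conj_zp (b : Bool) (p : Pnt) : zp z b * F.pnt p * zp z b = F.pnt (tzB b p) := by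
  cases b
  · simp [zp, tzB]
  · simpa [zp, tzB] using F.conj_z p

theorem conj_s (u : Vt) (p : Pnt) : (F.s u)⁻¹ * F.pnt p * F.s u = F.pnt (tjP u p) := by
  cases p with
  | Z =>
    show (F.s u)⁻¹ * z * F.s u = z
    rw [mul_assoc, ← (c.le _ (F.s_mem u)).eq, inv_mul_cancel_left]
  | X i a =>
    set r := repV i a
    have e : hF (r + u) (ctr i) = xF a (hF u (ctr i)) := by rw [hF_add, rep_ok]
    show (F.s u)⁻¹ * ((F.s r)⁻¹ * F.x i * F.s r) * F.s u = F.pnt (.X i (xF a (hF u (ctr i))))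
    rw [show (F.s u)⁻¹ * ((F.s r)⁻¹ * F.x i * F.s r) * F.s u = (F.s r * F.s u)⁻¹ * F.x i * (F.s r * F.s u) by group,
      F.s_mul, ← F.X_eq e]
    set b := phi r u
    have hz : Commute ((F.s (r + u))⁻¹ * F.x i * F.s (r + u)) (zp z b) :=
      ((F.s_z _ b).inv_left.mul_left (Coord.zp_comm (F.x_z i) b)).mul_left (F.s_z _ b)
    calc (F.s (r + u) * zp z b)⁻¹ * F.x i * (F.s (r + u) * zp z b)
        = (zp z b)⁻¹ * ((F.s (r + u))⁻¹ * F.x i * F.s (r + u)) * zp z b := by group
      _ = _ := by rw [mul_assoc, hz.eq, inv_mul_cancel_left]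
  | Y v e =>
    have h : F.s v * zp z e * F.s u = F.s (v + u) * zp z (xor e (phi v u)) := by
      rw [mul_assoc, ← (F.s_z u e).eq, ← mul_assoc, F.s_mul, mul_assoc, c.zp_mul, Bool.xor_comm]
    show (F.s u)⁻¹ * ((F.s v * zp z e)⁻¹ * F.y * (F.s v * zp z e)) * F.s u =
      (F.s (v + u) * zp z (xor e (phi v u)))⁻¹ * F.y * (F.s (v + u) * zp z (xor e (phi v u)))
    rw [← h]
    group

theorem conj_x (k : Fin 45) (p : Pnt) : F.x k * F.pnt p * F.x k = F.pnt (txP k p) := by
  have hi : (F.x k)⁻¹ = F.x k := inv_eq_of_mul_eq_one_left (F.x_sq k)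
  cases p with
  | Z =>
    show F.x k * z * F.x k = z
    rw [(F.x_z k).eq, mul_assoc, F.x_sq, mul_one]
  | X i a =>
    set w := repV i a
    show F.x k * ((F.s w)⁻¹ * F.x i * F.s w) * F.x k = _
    rw [show F.x k * ((F.s w)⁻¹ * F.x i * F.s w) * F.x k =
        ((F.x k)⁻¹ * F.s w * (F.x k)⁻¹⁻¹)⁻¹ * (F.x k * F.x i * (F.x k)) * ((F.x k)⁻¹ * F.s w * (F.x k)⁻¹⁻¹) by
      conv_rhs => rw [inv_inv]
      rw [show ((F.x k)⁻¹ * F.s w * F.x k)⁻¹ * (F.x k * F.x i * F.x k) * ((F.x k)⁻¹ * F.s w * F.x k) =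
        (F.x k)⁻¹ * (F.s w)⁻¹ * (F.x k * F.x k) * F.x i * F.s w * F.x k by group, F.x_sq, hi]
      group, inv_inv, hi, F.x_x, F.x_act]
    exact F.X_eq rfl
  | Y v e =>
    show F.x k * ((F.s v * zp z e)⁻¹ * F.y * (F.s v * zp z e)) * F.x k =
      (F.s (tv (ctr k) v) * zp z e)⁻¹ * F.y * (F.s (tv (ctr k) v) * zp z e)
    rw [← F.x_act k v]
    have hy : (F.x k)⁻¹ * F.y * F.x k = F.y := by rw [mul_assoc, ← (F.x_y k).eq, inv_mul_cancel_left]
    have hz : zp z e * F.x k = F.x k * zp z e := (Coord.zp_comm (F.x_z k) e).eq.symm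
    calc F.x k * ((F.s v * zp z e)⁻¹ * F.y * (F.s v * zp z e)) * F.x k
        = (F.x k)⁻¹ * ((F.s v * zp z e)⁻¹ * ((F.x k)⁻¹ * F.y * F.x k) * (F.s v * zp z e)) * F.x k := by rw [hy, hi]
      _ = (F.x k * (F.s v * (zp z e * F.x k)))⁻¹ * F.y * (F.x k * (F.s v * (zp z e * F.x k))) := by group
      _ = _ := by rw [hz, show F.x k * (F.s v * (F.x k * zp z e)) = F.x k * F.s v * F.x k * zp z e by group]

/-- The image under `y` is the tabulated one. -/
def YKnown (p : Pnt) : Prop := F.y * F.pnt p * F.y = F.pnt (yP p)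

theorem conj_point (b p : Pnt) (hk : ∀ v e, b = .Y v e → F.YKnown (needP b p)) :
    F.pnt b * F.pnt p * F.pnt b = F.pnt (conjP b p) := by
  cases b with
  | Z => exact F.conj_z p
  | X i a =>
    set w := repV i a
    have h1 : F.s w * F.pnt p * (F.s w)⁻¹ = F.pnt (tzB (Q w) (tjP w p)) := by
      rw [← F.conj_zp, ← F.conj_s]
      have hsw : F.s w = zp z (Q w) * (F.s w)⁻¹ := by
        rw [F.s_inv, ← mul_assoc, ← (F.s_z w (Q w)).eq, mul_assoc, c.zp_mul, Bool.xor_self]
        exact (mul_one _).symm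
      calc F.s w * F.pnt p * (F.s w)⁻¹
          = zp z (Q w) * (F.s w)⁻¹ * F.pnt p * (F.s w * zp z (Q w)) := by rw [← hsw, ← F.s_inv]
        _ = _ := by simp only [mul_assoc]
    show (F.s w)⁻¹ * F.x i * F.s w * F.pnt p * ((F.s w)⁻¹ * F.x i * F.s w) = _
    rw [show (F.s w)⁻¹ * F.x i * F.s w * F.pnt p * ((F.s w)⁻¹ * F.x i * F.s w) =
      (F.s w)⁻¹ * (F.x i * (F.s w * F.pnt p * (F.s w)⁻¹) * F.x i) * F.s w by group, h1, F.conj_x, F.conj_s]
    rfl
  | Y v e =>
    have hq : (F.s v * zp z e)⁻¹ = F.s v * zp z (xor e (Q v)) := by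
      rw [mul_inv_rev, F.s_inv, ← mul_assoc, ← ((F.s_z v e).inv_right).eq, mul_assoc,
        show (zp z e)⁻¹ = zp z e from inv_eq_of_mul_eq_one_left (by rw [c.zp_mul, Bool.xor_self]; rfl), c.zp_mul]
    have h1 : (F.s v * zp z e) * F.pnt p * (F.s v * zp z e)⁻¹ = F.pnt (needP (.Y v e) p) := by
      show _ = F.pnt (tzB (xor e (Q v)) (tjP v p))
      rw [← F.conj_zp, ← F.conj_s]
      set b := xor e (Q v)
      have hbi : (zp z b)⁻¹ = zp z b := inv_eq_of_mul_eq_one_left (by rw [c.zp_mul, Bool.xor_self]; rfl)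
      conv_lhs => arg 1; arg 1; rw [← inv_inv (F.s v * zp z e), hq]
      rw [hq, mul_inv_rev, hbi]
      simp only [mul_assoc]
    show (F.s v * zp z e)⁻¹ * F.y * (F.s v * zp z e) * F.pnt p * ((F.s v * zp z e)⁻¹ * F.y * (F.s v * zp z e)) =
      F.pnt (tzB e (tjP v (yP (needP (.Y v e) p))))
    rw [show (F.s v * zp z e)⁻¹ * F.y * (F.s v * zp z e) * F.pnt p * ((F.s v * zp z e)⁻¹ * F.y * (F.s v * zp z e)) =
      (F.s v * zp z e)⁻¹ * (F.y * ((F.s v * zp z e) * F.pnt p * (F.s v * zp z e)⁻¹) * F.y) * (F.s v * zp z e) by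
        group, h1, hk v e rfl, ← F.conj_zp, ← F.conj_s]
    have hzi : (zp z e)⁻¹ = zp z e := inv_eq_of_mul_eq_one_left (by rw [c.zp_mul, Bool.xor_self]; rfl)
    rw [mul_inv_rev, hzi]
    simp only [mul_assoc]

theorem known_base {p : Pnt} (hp : p ∈ baseList) : F.YKnown p := by
  obtain ⟨b1, b2, b3, b4, b5⟩ := base_y
  have hy := F.y_sq
  have hyi : F.y⁻¹ = F.y := inv_eq_of_mul_eq_one_left hy
  have hz : z * F.y * z = F.pnt (.Y 0 true) := by
    show _ = (F.s 0 * zp z true)⁻¹ * F.y * (F.s 0 * zp z true)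
    rw [F.s_zero, one_mul, show zp z true = z from rfl, c.z_inv]
  have back : ∀ p q : Pnt, F.y * F.pnt p * F.y = F.pnt q → yP q = p → F.YKnown q := fun p q h e => by
    show F.y * F.pnt q * F.y = F.pnt (yP q)
    rw [e, ← h, show F.y * (F.y * F.pnt p * F.y) * F.y = (F.y * F.y) * F.pnt p * (F.y * F.y) by group, hy,
      one_mul, mul_one]
  have hZ : F.y * F.pnt .Z * F.y = F.pnt (.Y 0 true) := F.y_z.trans hz
  have hX : ∀ i : Fin 45, ∀ a : Fin 4, a ≠ 0 →
      F.y * F.pnt (.X i a) * F.y = F.pnt (.Y (sm a.val (ctr i)) true) := by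
    intro i a ha
    set w := repV i a
    have hw : h w (ctr i) ≠ 0 := fun e => ha (Fin.ext ((congrArg Fin.val (rep_ok i a)).symm.trans e))
    show F.y * ((F.s w)⁻¹ * F.x i * F.s w) * F.y = _
    rw [F.y_x i w hw]
    -- conjugate the outside transvection by the inside one
    have hb : ∀ b, (zp z b)⁻¹ = zp z b := fun b => inv_eq_of_mul_eq_one_left (by rw [c.zp_mul, Bool.xor_self]; rfl)
    have h1 : F.s w * F.y * (F.s w)⁻¹ = F.pnt (.Y w (Q w)) := by
      show _ = (F.s w * zp z (Q w))⁻¹ * F.y * (F.s w * zp z (Q w))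
      rw [← F.s_inv, inv_inv]
    rw [show (F.s w)⁻¹ * F.x i * F.s w * F.y * ((F.s w)⁻¹ * F.x i * F.s w) =
      (F.s w)⁻¹ * (F.x i * (F.s w * F.y * (F.s w)⁻¹) * F.x i) * F.s w by group, h1, F.conj_x, F.conj_s]
    congr 1
    have ht : tv (ctr i) w + w = sm a.val (ctr i) := by
      rw [tv, show h w (ctr i) = a.val from congrArg Fin.val (rep_ok i a), add_right_comm, Vt.add_self, zero_add]
    simp only [txP, tjP, Pnt.Y.injEq]
    refine ⟨ht, ?_⟩
    rw [Q_eq_phi, show phi (tv (ctr i) w) w = (phi (sm a.val (ctr i)) w).xor (phi w w) by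
      rw [← phi_add_left, ← ht, add_assoc, Vt.add_self, add_zero], phi_scalar i a ha w (rep_ok i a)]
    cases phi w w <;> rfl
  simp only [baseList, List.mem_cons, List.mem_append, List.mem_flatMap, List.mem_finRange, true_and,
    List.mem_map, List.mem_filter, List.mem_nil_iff, or_false, Bool.not_eq_true'] at hp
  rcases hp with ((rfl | rfl | ⟨i, rfl | ⟨a, ha, rfl | rfl⟩⟩) | ⟨v, hv, rfl⟩)
  · exact hZ.trans (congrArg F.pnt b1.symm)
  · exact back .Z _ hZ b2
  · show F.y * F.pnt (.X i 0) * F.y = _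
    rw [b3, ← F.X_eq (w := 0) (i := i) (a := 0) (hF_zero i), F.s_zero, inv_one, one_mul, mul_one,
      ← (F.x_y i).eq, mul_assoc, hy, mul_one]
  · have ha0 : a ≠ 0 := by rcases ha with rfl | rfl | rfl <;> decide
    exact (hX i a ha0).trans (congrArg F.pnt (b4 i a ha0).1.symm)
  · have ha0 : a ≠ 0 := by rcases ha with rfl | rfl | rfl <;> decide
    exact back _ _ (hX i a ha0) (b4 i a ha0).2
  · show F.y * F.pnt (.Y ⟨v⟩ false) * F.y = _
    rw [b5 v hv]
    have h0 : h (⟨v⟩ : Vt) ⟨v⟩ = 0 := by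
      have := (h_self_small v).1
      rw [Q, beq_eq_false_iff_ne] at hv
      omega
    have hc := F.y_s ⟨v⟩ h0
    simp only [pnt, zp, mul_one, Bool.false_eq_true, if_false]
    rw [hc.eq, mul_assoc, hy, mul_one]

theorem known_deduce : ∀ (L : List (ℕ × ℕ × ℕ)) (m : ℕ), deduceOK m L = true →
    (∀ p : Pnt, m.testBit p.num = true → F.YKnown p) → ∀ p, F.YKnown p
  | [], m, h, hk, p => by
    simp only [deduceOK, beq_iff_eq] at h
    refine hk p ?_
    rw [Nat.eq_sub_of_add_eq h, Nat.testBit_two_pow_sub_one]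
    exact decide_eq_true (pnt_num_lt p)
  | (d, a, b) :: r, m, h, hk, p => by
    simp only [deduceOK, Bool.and_eq_true, decide_eq_true_eq, beq_iff_eq] at h
    obtain ⟨⟨⟨⟨⟨⟨⟨⟨⟨ha, hb⟩, ha'⟩, hb'⟩, hd'⟩, hX⟩, hn⟩, hconj⟩, hy⟩, hr⟩ := h
    have num : ∀ n < 693, (Pnt.of n).num = n := fun n hn =>
      beq_iff_eq.1 (List.all_eq_true.1 num_of n (List.mem_range.2 hn))
    refine known_deduce r _ hr (fun q hq => ?_) p
    rw [Nat.testBit_or, Nat.one_shiftLeft, Nat.testBit_two_pow, Bool.or_eq_true, decide_eq_true_eq] at hq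
    rcases hq with hq | hq
    · exact hk q hq
    obtain rfl : q = Pnt.of d := by rw [hq, pnt_of_num]
    have kA : F.YKnown (Pnt.of a) := hk _ (by rw [num a ha']; exact ha)
    have kB : F.YKnown (Pnt.of b) := hk _ (by rw [num b hb']; exact hb)
    show F.y * F.pnt (Pnt.of d) * F.y = F.pnt (yP (Pnt.of d))
    rw [hy, ← hconj, ← F.conj_point (Pnt.of b) (Pnt.of a) (fun v e hbe => by rw [hbe] at hX; exact absurd hX (by simp)),
      ← F.conj_point (yP (Pnt.of b)) (yP (Pnt.of a)) (fun _ _ _ => hk _ hn), ← kA, ← kB,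
      show F.y * F.pnt (Pnt.of b) * F.y * (F.y * F.pnt (Pnt.of a) * F.y) * (F.y * F.pnt (Pnt.of b) * F.y) =
        F.y * F.pnt (Pnt.of b) * (F.y * F.y) * F.pnt (Pnt.of a) * (F.y * F.y) * F.pnt (Pnt.of b) * F.y by group,
      F.y_sq]
    simp only [mul_one, mul_assoc]

theorem known (p : Pnt) : F.YKnown p := by
  refine F.known_deduce yCert _ deduce_ok (fun q hq => ?_) p
  have key : ∀ (L : List Pnt) (m : ℕ), (L.foldl (fun m p => m ||| 1 <<< p.num) m).testBit q.num = true →
      m.testBit q.num = true ∨ q ∈ L := by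
    intro L
    induction L with
    | nil => exact fun m h => Or.inl h
    | cons a r ih =>
      intro m h
      rcases ih _ h with h1 | h1
      · rw [Nat.testBit_or, Nat.one_shiftLeft, Nat.testBit_two_pow, Bool.or_eq_true, decide_eq_true_eq] at h1
        exact h1.imp id fun e => List.mem_cons.2 (Or.inl (by rw [← pnt_of_num q, ← e, pnt_of_num]))
      · exact Or.inr (List.mem_cons_of_mem a h1)
  exact F.known_base ((key _ 0 hq).resolve_left (by simp))

theorem conj_pnt (b p : Pnt) : F.pnt b * F.pnt p * F.pnt b = F.pnt (conjP b p) :=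
  F.conj_point b p fun _ _ _ => F.known _

theorem pnt_conj (p : Pnt) : IsConj z (F.pnt p) := by
  cases p with
  | Z => exact IsConj.refl z
  | X i a => exact (F.x_conj i).trans (isConj_iff.2 ⟨(F.s (repV i a))⁻¹, by rw [inv_inv]; rfl⟩)
  | Y v e => exact F.y_conj.trans (isConj_iff.2 ⟨(F.s v * zp z e)⁻¹, by rw [inv_inv]; rfl⟩)

theorem pnt_sq (p : Pnt) : F.pnt p * F.pnt p = 1 := F.sq_of_conj (F.pnt_conj p)

theorem y_not_comm : ¬ Commute F.y z := fun h => by
  have e := F.y_z
  rw [h.eq, mul_assoc, F.y_sq, mul_one] at e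
  rw [mul_assoc, h.eq, ← mul_assoc, c.z_sq, one_mul] at e
  exact c.z_ne_one (F.free z c.mem (e ▸ Commute.refl z))

theorem Y_not_comm (v : Vt) (e : Bool) : ¬ Commute (F.pnt (.Y v e)) z := fun h => F.y_not_comm (by
  have hq : Commute (F.s v * zp z e) z := (c.le _ (F.s_mem v)).mul_left (Coord.zp_comm (Commute.refl z) e).symm
  have := (hq.mul_left h).mul_left hq.inv_left
  rwa [show F.s v * zp z e * F.pnt (.Y v e) * (F.s v * zp z e)⁻¹ = F.y by
    show F.s v * zp z e * ((F.s v * zp z e)⁻¹ * F.y * (F.s v * zp z e)) * (F.s v * zp z e)⁻¹ = F.y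
    group] at this)

theorem π_X (i : Fin 45) (a : Fin 4) : c.π (F.pnt (.X i a)) = tvP i := by
  have hs := c.le _ (F.s_mem (repV i a))
  show c.π ((F.s (repV i a))⁻¹ * F.x i * F.s (repV i a)) = _
  rw [c.π_mul _ _ (hs.inv_left.mul_left (F.x_z i)) hs, c.π_mul _ _ hs.inv_left (F.x_z i), c.π_inv hs,
    c.π_of_mem (F.s_mem _), F.π_x]
  simp

theorem X_comm (i : Fin 45) (a : Fin 4) : Commute (F.pnt (.X i a)) z :=
  ((c.le _ (F.s_mem _)).inv_left.mul_left (F.x_z i)).mul_left (c.le _ (F.s_mem _))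

theorem z_ne_X (i : Fin 45) (a : Fin 4) : F.pnt (.X i a) ≠ z := fun e => by
  have h := F.π_X i a
  rw [e, c.π_of_mem c.mem] at h
  obtain ⟨v, hv⟩ := (show ∀ i : Fin 45, ∃ v : Fin 256, tv (ctr i) ⟨v⟩ ≠ ⟨v⟩ by decide +kernel) i
  exact hv (show tvP i ⟨v⟩ = ⟨v⟩ by rw [← h]; rfl)

theorem pnt_inj : Function.Injective F.pnt := by
  intro p q e
  cases p with
  | Z =>
    cases q with
    | Z => rfl
    | X i a => exact absurd e.symm (F.z_ne_X i a)
    | Y v b => exact absurd (e ▸ Commute.refl z : Commute (F.pnt (.Y v b)) z) (F.Y_not_comm v b)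
  | X i a =>
    cases q with
    | Z => exact absurd e (F.z_ne_X i a)
    | X j b =>
      obtain rfl : i = j := tvP_inj (by rw [← F.π_X i a, ← F.π_X j b, e])
      by_contra hne
      have hab : a ≠ b := fun h => hne (by rw [h])
      set u := repV i a + repV i b
      have e0 : F.pnt (.X i 0) = F.x i := by
        rw [← F.X_eq (w := 0) (hF_zero i), F.s_zero]
        group
      have hz0 : xF a a = 0 := xF_self a
      have h1 := congrArg (fun d => F.s (repV i a) * d * (F.s (repV i a))⁻¹) e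
      simp only [pnt] at h1
      rw [show F.s (repV i a) * ((F.s (repV i a))⁻¹ * F.x i * F.s (repV i a)) * (F.s (repV i a))⁻¹ = F.x i by group]
        at h1
      set r := F.s (repV i b) * (F.s (repV i a))⁻¹
      have hr : r ∈ J := J.mul_mem (F.s_mem _) (J.inv_mem (F.s_mem _))
      have hc : Commute (F.x i) r := by
        show F.x i * r = r * F.x i
        conv_rhs => arg 2; rw [h1]
        simp only [r]
        group
      have hβ : c.β r = repV i b + repV i a := by
        rw [c.β_mul _ (F.s_mem _) _ (J.inv_mem (F.s_mem _)), c.β_inv (F.s_mem _), F.s_β, F.s_β]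
      have := c.equiv _ (F.x_z i) r hr
      rw [hc.eq, mul_inv_cancel_right, hβ, F.π_x, tvP_apply] at this
      have h0 : hF (repV i b + repV i a) (ctr i) = 0 := by
        have h2 : sm (h (repV i b + repV i a) (ctr i)) (ctr i) = 0 := by
          have h3 := this
          rw [tv] at h3
          exact left_eq_add.1 h3
        exact Fin.ext ((show ∀ i : Fin 45, ∀ a : Fin 4, sm a.val (ctr i) = 0 → a.val = 0 by decide +kernel) i
          (hF (repV i b + repV i a) (ctr i)) h2)
      rw [hF_add, rep_ok, rep_ok] at h0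
      exact hab ((show ∀ a b : Fin 4, xF b a = 0 → a = b by decide +kernel) a b h0)
    | Y v b => exact absurd (e ▸ F.X_comm i a : Commute (F.pnt (.Y v b)) z) (F.Y_not_comm v b)
  | Y v a =>
    cases q with
    | Z => exact absurd (e.symm ▸ Commute.refl z : Commute (F.pnt (.Y v a)) z) (F.Y_not_comm v a)
    | X j b => exact absurd (e.symm ▸ F.X_comm j b : Commute (F.pnt (.Y v a)) z) (F.Y_not_comm v a)
    | Y w b =>
      set q1 := F.s v * zp z a
      set q2 := F.s w * zp z b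
      have hm1 : q1 ∈ J := J.mul_mem (F.s_mem v) (c.zp_mem a)
      have hm2 : q2 ∈ J := J.mul_mem (F.s_mem w) (c.zp_mem b)
      change q1⁻¹ * F.y * q1 = q2⁻¹ * F.y * q2 at e
      have hc : Commute (q2 * q1⁻¹) F.y := by
        show q2 * q1⁻¹ * F.y = F.y * (q2 * q1⁻¹)
        calc q2 * q1⁻¹ * F.y = q2 * (q1⁻¹ * F.y * q1) * q1⁻¹ := by group
          _ = _ := by rw [e]; group
      have h := F.free _ (J.mul_mem hm2 (J.inv_mem hm1)) hc
      have h12 : q2 = q1 := mul_inv_eq_one.1 h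
      have hv : v = w := by
        have := congrArg c.β h12
        rwa [c.β_mul_zp (F.s_mem w), c.β_mul_zp (F.s_mem v), F.s_β, F.s_β, eq_comm] at this
      subst hv
      rw [c.zp_inj (mul_left_cancel h12)]

/-- The element of a point of the model. -/
def lift (j : Fin 693) : G := F.pnt (labP j)

theorem lift_inj : Function.Injective F.lift := F.pnt_inj.comp labP_inj

end Frame

/-- The centres of eight transvections generating the model, with their letters. -/
def genPts : List (ℕ × Fin 693) := [(2, 5), (3, 3), (4, 25), (5, 45), (6, 64), (7, 14), (8, 37), (9, 166)]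

theorem act_check : (genPts.all fun t => (List.range 693).all fun j =>
    conjP (labP t.2) (labP (Fin.ofNat 693 j)) == labP (Fin.ofNat 693 (ap (FiPres.uniTabs.getD t.1 (0, 0)).1 j))) = true ∧
    (genPts.all fun t => Model.letOK [t.1] && (Model.key [t.1] == Model.key (Model.tvW t.2))) = true ∧
    Model.key [0] = Model.basePts ∧ labP 5 = Pnt.Z ∧
    (FiPres.lamH.all fun l => l == 0 || genPts.any fun t => t.1 == l) = true := by decide +kernel

theorem gen_tv {t : ℕ × Fin 693} (ht : t ∈ genPts) : Model.wv [t.1] = Model.tv t.2 := by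
  have h := List.all_eq_true.1 act_check.2.1 t ht
  rw [Bool.and_eq_true, beq_iff_eq] at h
  exact Model.wv_eq h.1 (Model.letOK_tvW _) h.2

theorem W_induct {P : W → Prop} (one : P 1) (mul : ∀ t ∈ genPts, ∀ w, P w → P (Model.tv t.2 * w)) (w : W) : P w := by
  obtain ⟨g, hg⟩ := w.2
  have hw : ∃ l : List ℕ, (∀ a ∈ l, a ∈ FiPres.lamH) ∧ w = Model.wv l := by
    have hmem : g ∈ Subgroup.closure {g : FiPres.HFi | ∃ l ∈ FiPres.lamH, FiPres.imH10 l = g} :=
      FiPres.gen_imH10 ▸ Subgroup.mem_top g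
    suffices h : ∀ x ∈ Subgroup.closure {g : FiPres.HFi | ∃ l ∈ FiPres.lamH, FiPres.imH10 l = g},
        ∃ l : List ℕ, (∀ a ∈ l, a ∈ FiPres.lamH) ∧ (⟨FiPres.toSub x, ⟨x, rfl⟩⟩ : W) = Model.wv l by
      obtain ⟨l, hl, e⟩ := h g hmem
      exact ⟨l, hl, by rw [← e]; exact Subtype.ext hg.symm⟩
    intro x hx
    induction hx using Subgroup.closure_induction with
    | mem x hx =>
      obtain ⟨l, hl, rfl⟩ := hx
      exact ⟨[l], by simpa using hl, (mul_one (Model.imW l)).symm⟩
    | one => exact ⟨[], by simp, Subtype.ext (map_one _)⟩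
    | mul x y _ _ hx hy =>
      obtain ⟨l, hl, e⟩ := hx
      obtain ⟨m, hm, e'⟩ := hy
      refine ⟨l ++ m, fun a ha => (List.mem_append.1 ha).elim (hl a) (hm a), ?_⟩
      rw [Model.wv_append, ← e, ← e']
      exact Subtype.ext (map_mul _ x y)
    | inv x _ hx =>
      obtain ⟨l, hl, e⟩ := hx
      refine ⟨l.reverse, fun a ha => hl a (List.mem_reverse.1 ha), ?_⟩
      rw [Model.wv_reverse, ← e]
      exact Subtype.ext (map_inv _ x)
  obtain ⟨l, hl, rfl⟩ := hw
  clear hg
  induction l with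
  | nil => exact one
  | cons a r ih =>
    have hr := ih (fun b hb => hl b (List.mem_cons_of_mem a hb))
    rw [show a :: r = [a] ++ r from rfl, Model.wv_append]
    rcases Decidable.eq_or_ne a 0 with rfl | ha
    · rw [show Model.wv [0] = 1 from Model.wv_eq (v := []) rfl rfl act_check.2.2.1, one_mul]
      exact hr
    · have h := List.all_eq_true.1 act_check.2.2.2.2 a (hl a List.mem_cons_self)
      rw [Bool.or_eq_true, beq_iff_eq, List.any_eq_true] at h
      obtain ⟨t, ht, e⟩ := h.resolve_left ha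
      rw [← beq_iff_eq.1 e, gen_tv ht]
      exact mul t ht _ hr

theorem tv_orbit (i j : Fin 693) : ∃ w : W, (w : Equiv.Perm (Fin 693)) i = j := by
  refine ⟨Model.wv (Model.ptW j) * (Model.wv (Model.ptW i))⁻¹, ?_⟩
  show ((Model.wv (Model.ptW j) : W) : Equiv.Perm (Fin 693))
    (((Model.wv (Model.ptW i) : W) : Equiv.Perm (Fin 693))⁻¹ i) = j
  rw [show ((Model.wv (Model.ptW i) : W) : Equiv.Perm (Fin 693))⁻¹ i = 0 from
    Equiv.Perm.inv_eq_iff_eq.2 (Model.ptW_zero i).symm, Model.ptW_zero]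

namespace Frame

variable {c : Coord z J} (F : Frame c)
include F

/-- The subgroup generated by the points. -/
def modelGrp : Subgroup G := Subgroup.closure (Set.range F.lift)

theorem lift_mem (j : Fin 693) : F.lift j ∈ F.modelGrp := Subgroup.subset_closure ⟨j, rfl⟩

theorem pnt_mem (p : Pnt) : F.pnt p ∈ F.modelGrp := by
  obtain ⟨j, rfl⟩ := labP_surj p
  exact F.lift_mem j

theorem lift_gen {t : ℕ × Fin 693} (ht : t ∈ genPts) (j : Fin 693) :
    F.lift t.2 * F.lift j * (F.lift t.2)⁻¹ = F.lift (((Model.tv t.2 : W) : Equiv.Perm (Fin 693)) j) := by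
  have h := List.all_eq_true.1 (List.all_eq_true.1 act_check.1 t ht) j.val (List.mem_range.2 j.isLt)
  rw [beq_iff_eq, Fin.ofNat_eq_cast, Fin.cast_val_eq_self] at h
  rw [show (F.lift t.2)⁻¹ = F.lift t.2 from inv_eq_of_mul_eq_one_left (F.pnt_sq _), lift, lift, F.conj_pnt, h, lift]
  congr 2
  have hl := (Bool.and_eq_true_iff.1 (List.all_eq_true.1 act_check.2.1 t ht)).1
  refine Fin.ext ?_
  rw [← gen_tv ht, Model.wv_apply hl, Fin.ofNat_eq_cast, Fin.val_natCast, Nat.mod_eq_of_lt]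
  · rfl
  · exact valid_lt (Model.tab_valid (List.contains_iff_mem.1 (List.all_eq_true.1 hl t.1 List.mem_cons_self))) j.isLt

theorem exists_lifts (w : W) : ∃ g ∈ F.modelGrp, ∀ j, g * F.lift j * g⁻¹ = F.lift ((w : Equiv.Perm (Fin 693)) j) := by
  induction w using W_induct with
  | one => exact ⟨1, one_mem _, fun j => by simp⟩
  | mul t ht w ih =>
    obtain ⟨g, hg, e⟩ := ih
    refine ⟨F.lift t.2 * g, mul_mem (F.lift_mem _) hg, fun j => ?_⟩
    rw [show F.lift t.2 * g * F.lift j * (F.lift t.2 * g)⁻¹ = F.lift t.2 * (g * F.lift j * g⁻¹) * (F.lift t.2)⁻¹ by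
      group, e, F.lift_gen ht]
    rfl

theorem lift_act (i j : Fin 693) :
    F.lift i * F.lift j * (F.lift i)⁻¹ = F.lift (((Model.tv i : W) : Equiv.Perm (Fin 693)) j) := by
  obtain ⟨w, hw⟩ := tv_orbit 5 i
  obtain ⟨g, -, e⟩ := F.exists_lifts w
  have e5 : F.lift i = g * F.lift 5 * g⁻¹ := by rw [e, hw]
  obtain ⟨j', rfl⟩ := (w : Equiv.Perm (Fin 693)).surjective j
  rw [e5, ← e j', show g * F.lift 5 * g⁻¹ * (g * F.lift j' * g⁻¹) * (g * F.lift 5 * g⁻¹)⁻¹ =
    g * (F.lift 5 * F.lift j' * (F.lift 5)⁻¹) * g⁻¹ by group,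
    F.lift_gen (t := (2, 5)) (by decide), e]
  congr 1
  rw [← hw, ← Model.tv_conj]
  simp

theorem act_exists {g : G} (hg : g ∈ F.modelGrp) :
    ∃ σ : Equiv.Perm (Fin 693), σ ∈ W ∧ ∀ j, g * F.lift j * g⁻¹ = F.lift (σ j) := by
  induction hg using Subgroup.closure_induction with
  | mem x hx =>
    obtain ⟨i, rfl⟩ := hx
    exact ⟨_, (Model.tv i).2, F.lift_act i⟩
  | one => exact ⟨1, one_mem _, fun j => by simp⟩
  | mul x y _ _ hx hy =>
    obtain ⟨σ, hσ, e⟩ := hx
    obtain ⟨τ, hτ, e'⟩ := hy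
    refine ⟨σ * τ, mul_mem hσ hτ, fun j => ?_⟩
    rw [show x * y * F.lift j * (x * y)⁻¹ = x * (y * F.lift j * y⁻¹) * x⁻¹ by group, e', e, Equiv.Perm.mul_apply]
  | inv x _ hx =>
    obtain ⟨σ, hσ, e⟩ := hx
    refine ⟨σ⁻¹, inv_mem hσ, fun j => ?_⟩
    have := e (σ⁻¹ j)
    rw [show σ (σ⁻¹ j) = j from Equiv.apply_symm_apply σ j] at this
    rw [← this]
    group

theorem eq_one_of_centralises [Finite G] {g : G} (hp : ∀ p, Commute g (F.pnt p)) : g = 1 := by
  have hz : Commute g z := hp .Z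
  have hs : ∀ i : Fin 45, ∀ a : Fin 4, Commute g (F.s (sm a.val (ctr i))) := by
    intro i a
    by_cases ha : a = 0
    · rw [ha, show sm ((0 : Fin 4) : ℕ) (ctr i) = 0 from (show ∀ i : Fin 45, sm 0 (ctr i) = 0 by decide +kernel) i,
        F.s_zero]
      exact Commute.one_right g
    set w := repV i a
    have hx0 : Commute g (F.x i) := by
      have := hp (.X i 0)
      rwa [← F.X_eq (w := 0) (i := i) (a := 0) (hF_zero i), F.s_zero, inv_one, one_mul, mul_one]
        at this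
    have key : (F.s w)⁻¹ * F.x i * F.s w * F.x i = F.s (sm a.val (ctr i)) * zp z (xor (Q w) (phi w (tv (ctr i) w))) := by
      rw [show (F.s w)⁻¹ * F.x i * F.s w * F.x i = (F.s w)⁻¹ * (F.x i * F.s w * F.x i) by group, F.x_act, F.s_inv,
        mul_assoc, ← (F.s_z (tv (ctr i) w) (Q w)).eq, ← mul_assoc, F.s_mul, mul_assoc, c.zp_mul, Bool.xor_comm,
        show w + tv (ctr i) w = sm a.val (ctr i) by
          rw [tv, show h w (ctr i) = a.val from congrArg Fin.val (rep_ok i a), ← add_assoc, Vt.add_self, zero_add]]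
    have hk : Commute g ((F.s w)⁻¹ * F.x i * F.s w * F.x i) := (hp (.X i a)).mul_right hx0
    rw [key] at hk
    have hb := Coord.zp_comm hz (xor (Q w) (phi w (tv (ctr i) w)))
    have := hk.mul_right hb.inv_right
    rwa [mul_inv_cancel_right] at this
  have hπ : ∀ v, c.π g v = v := fun v => by
    have hl := c.π_lin hz
    refine eq_of_bas (f := fun v => c.π g v) (g := fun v => v) hl.map_add (fun _ _ => rfl) (fun k => ?_) v
    have hfix : ∀ i : Fin 45, ∀ a : Fin 4, c.π g (sm a.val (ctr i)) = sm a.val (ctr i) := fun i a => by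
      have := c.equiv g hz _ (F.s_mem (sm a.val (ctr i)))
      rw [(hs i a).eq, mul_inv_cancel_right, F.s_β] at this
      exact this.symm
    obtain ⟨i, a, j, b, e⟩ := (show ∀ k : Fin 8, ∃ i : Fin 45, ∃ a : Fin 4, ∃ j : Fin 45, ∃ b : Fin 4,
      bas k = sm a.val (ctr i) + sm b.val (ctr j) by decide +kernel) k
    show c.π g (bas k) = bas k
    rw [e, hl.map_add, hfix, hfix]
  refine F.free g ((c.π_ker g hz).1 (Equiv.ext hπ)) ?_
  have := hp (.Y 0 false)
  show Commute g F.y
  simpa [pnt, zp, F.s_zero] using this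

/-- The action of the generated subgroup on the points. -/
noncomputable def toModel : F.modelGrp →* Equiv.Perm (Fin 693) :=
  MonoidHom.mk' (fun g => (F.act_exists g.2).choose) fun g h => Equiv.ext fun j => F.lift_inj (by
    rw [← (F.act_exists (g * h).2).choose_spec.2 j, Equiv.Perm.mul_apply, ← (F.act_exists g.2).choose_spec.2,
      ← (F.act_exists h.2).choose_spec.2, Subgroup.coe_mul]
    group)

theorem toModel_spec (g : F.modelGrp) (j : Fin 693) : (g : G) * F.lift j * (g : G)⁻¹ = F.lift (F.toModel g j) :=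
  (F.act_exists g.2).choose_spec.2 j

theorem toModel_lift (i : Fin 693) : F.toModel ⟨F.lift i, F.lift_mem i⟩ = ((Model.tv i : W) : Equiv.Perm (Fin 693)) :=
  Equiv.ext fun j => F.lift_inj ((F.toModel_spec _ j).symm.trans (F.lift_act i j))

theorem main [Finite G] : ∃ φ : W →* G, Function.Injective φ ∧ ∃ t : W, IsTv t ∧ φ t = z ∧
    Subgroup.centralizer ({z} : Set G) ≤ φ.range ∧ ∀ w : W, IsConj z (φ w) → IsTv w := by
  let ψ : F.modelGrp →* W := F.toModel.codRestrict W fun g => (F.act_exists g.2).choose_spec.1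
  have hψ : ∀ i, ψ ⟨F.lift i, F.lift_mem i⟩ = Model.tv i := fun i => Subtype.ext (F.toModel_lift i)
  have hbij : Function.Bijective ψ := by
    refine ⟨(injective_iff_map_eq_one ψ).2 fun g hg => Subtype.ext (F.eq_one_of_centralises fun p => ?_), fun w => ?_⟩
    · obtain ⟨j, rfl⟩ := labP_surj p
      have := F.toModel_spec g j
      rw [show F.toModel g = 1 from congrArg Subtype.val hg] at this
      show (g : G) * F.lift j = F.lift j * (g : G)
      exact mul_inv_eq_iff_eq_mul.1 this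
    · induction w using W_induct with
      | one => exact ⟨1, map_one ψ⟩
      | mul t ht w ih =>
        obtain ⟨g, rfl⟩ := ih
        exact ⟨⟨F.lift t.2, F.lift_mem _⟩ * g, by rw [map_mul, hψ]⟩
  let e := MulEquiv.ofBijective ψ hbij
  let φ : W →* G := F.modelGrp.subtype.comp e.symm.toMonoidHom
  have hφ : ∀ i, φ (Model.tv i) = F.lift i := fun i => by
    show ((e.symm (Model.tv i) : F.modelGrp) : G) = _
    rw [← hψ i]
    exact congrArg Subtype.val (e.symm_apply_apply ⟨F.lift i, F.lift_mem i⟩)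
  have hrange : ∀ g ∈ F.modelGrp, g ∈ φ.range := fun g hg =>
    ⟨ψ ⟨g, hg⟩, congrArg Subtype.val (e.symm_apply_apply ⟨g, hg⟩)⟩
  have h5 : F.lift 5 = z := by rw [lift, act_check.2.2.2.1]; rfl
  have hφinj : Function.Injective φ := F.modelGrp.subtype_injective.comp e.symm.injective
  refine ⟨φ, hφinj, Model.tv 5, Model.isTv_tv 5, (hφ 5).trans h5, fun g0 hh => hrange g0 ?_, fun w hw => ?_⟩
  · -- the centraliser of the centre
    rw [Subgroup.mem_centralizer_singleton_iff] at hh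
    have hx : ∀ i, F.x i ∈ F.modelGrp := fun i => by
      have := F.pnt_mem (.X i 0)
      rwa [← F.X_eq (w := 0) (i := i) (a := 0) (hF_zero i), F.s_zero, inv_one, one_mul, mul_one]
        at this
    have hz : z ∈ F.modelGrp := F.pnt_mem .Z
    have hzp : ∀ b, zp z b ∈ F.modelGrp := fun b => by cases b <;> simp [zp, hz, one_mem]
    have hs : ∀ v, F.s v ∈ F.modelGrp := by
      have hsm : ∀ i : Fin 45, ∀ a : Fin 4, F.s (sm a.val (ctr i)) ∈ F.modelGrp := by
        intro i a
        by_cases ha : a = 0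
        · rw [ha, show sm ((0 : Fin 4) : ℕ) (ctr i) = 0 from (show ∀ i : Fin 45, sm 0 (ctr i) = 0 by decide +kernel) i,
            F.s_zero]
          exact one_mem _
        set w := repV i a
        have h1 : F.s (sm a.val (ctr i)) * zp z (xor (Q w) (phi w (tv (ctr i) w))) ∈ F.modelGrp := by
          rw [show F.s (sm a.val (ctr i)) * zp z (xor (Q w) (phi w (tv (ctr i) w))) = F.pnt (.X i a) * F.x i by
            show _ = (F.s w)⁻¹ * F.x i * F.s w * F.x i
            rw [show (F.s w)⁻¹ * F.x i * F.s w * F.x i = (F.s w)⁻¹ * (F.x i * F.s w * F.x i) by group, F.x_act,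
              F.s_inv, mul_assoc, ← (F.s_z (tv (ctr i) w) (Q w)).eq, ← mul_assoc (F.s w), F.s_mul, mul_assoc,
              c.zp_mul, Bool.xor_comm, show w + tv (ctr i) w = sm a.val (ctr i) by
                rw [tv, show h w (ctr i) = a.val from congrArg Fin.val (rep_ok i a), ← add_assoc, Vt.add_self,
                  zero_add]]]
          exact mul_mem (F.pnt_mem _) (hx i)
        have := mul_mem h1 (inv_mem (hzp (xor (Q w) (phi w (tv (ctr i) w)))))
        rwa [mul_inv_cancel_right] at this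
      have hadd : ∀ u v, F.s u ∈ F.modelGrp → F.s v ∈ F.modelGrp → F.s (u + v) ∈ F.modelGrp := fun u v hu hv => by
        have := mul_mem (mul_mem hu hv) (inv_mem (hzp (phi u v)))
        rwa [F.s_mul, mul_inv_cancel_right] at this
      intro v
      induction v using induct_bas with
      | h0 => rw [F.s_zero]; exact one_mem _
      | hadd u v hu hv => exact hadd u v hu hv
      | hb k =>
        obtain ⟨i, a, j, b, e⟩ := (show ∀ k : Fin 8, ∃ i : Fin 45, ∃ a : Fin 4, ∃ j : Fin 45, ∃ b : Fin 4,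
          bas k = sm a.val (ctr i) + sm b.val (ctr j) by decide +kernel) k
        rw [e]
        exact hadd _ _ (hsm i a) (hsm j b)
    have hJ : ∀ q ∈ J, q ∈ F.modelGrp := fun q hq => by
      obtain ⟨b, hb⟩ := c.eq_or_mul_z (F.s_mem (c.β q)) hq (F.s_β _)
      rw [hb]
      exact mul_mem (hs _) (hzp b)
    have hsurj : ∀ g ∈ U, ∃ k, k ∈ F.modelGrp ∧ Commute k z ∧ c.π k = g := by
      intro g hg
      induction hg using Subgroup.closure_induction with
      | mem x hx' => obtain ⟨i, rfl⟩ := hx'; exact ⟨F.x i, hx i, F.x_z i, F.π_x i⟩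
      | one => exact ⟨1, one_mem _, Commute.one_left z, c.π_one⟩
      | mul x y _ _ ihx ihy =>
        obtain ⟨k, hk, k1, k2⟩ := ihx
        obtain ⟨l, hl, l1, l2⟩ := ihy
        exact ⟨k * l, mul_mem hk hl, k1.mul_left l1, by rw [c.π_mul _ _ k1 l1, k2, l2]⟩
      | inv x _ ih =>
        obtain ⟨k, hk, k1, k2⟩ := ih
        exact ⟨k⁻¹, inv_mem hk, k1.inv_left, by rw [c.π_inv k1, k2]⟩
    have hh' : Commute g0 z := hh
    obtain ⟨k, hk, k1, k2⟩ := hsurj _ (c.π_mem g0 hh')
    have hq : k⁻¹ * g0 ∈ J := (c.π_ker _ (k1.inv_left.mul_left hh')).1 (by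
      rw [c.π_mul _ _ k1.inv_left hh', c.π_inv k1, k2, inv_mul_cancel])
    have := mul_mem hk (hJ _ hq)
    rwa [mul_inv_cancel_left] at this
  · -- no fusion
    have hw2 : w * w = 1 := hφinj (by rw [map_mul, map_one]; exact F.sq_of_conj hw)
    have hw1 : w ≠ 1 := fun e => by
      rw [e, map_one] at hw
      exact c.z_ne_one (isConj_one_left.1 hw)
    have : Fact (Nat.Prime 2) := ⟨Nat.prime_two⟩
    obtain ⟨j, hj⟩ := Equiv.Perm.exists_fixed_point_of_prime (p := 2) (n := 1)
      (σ := (w : Equiv.Perm (Fin 693))) (by rw [Fintype.card_fin]; decide) (by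
        rw [pow_one, sq]; exact congrArg Subtype.val hw2)
    obtain ⟨g, hg⟩ := tv_orbit j 5
    have hc : Commute (φ (g * w * g⁻¹)) z := by
      rw [← h5, ← hφ]
      have hf : ((g * w * g⁻¹ : W) : Equiv.Perm (Fin 693)) 5 = 5 := by
        show (g : Equiv.Perm (Fin 693)) ((w : Equiv.Perm (Fin 693)) ((g : Equiv.Perm (Fin 693))⁻¹ 5)) = 5
        rw [show (g : Equiv.Perm (Fin 693))⁻¹ 5 = j from Equiv.Perm.inv_eq_iff_eq.2 hg.symm, hj, hg]
      have ht := Model.tv_conj (g * w * g⁻¹) 5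
      rw [hf] at ht
      exact Commute.map (show Commute (g * w * g⁻¹) (Model.tv 5) from mul_inv_eq_iff_eq_mul.1 ht) φ
    have hconj : IsConj z (φ (g * w * g⁻¹)) := hw.trans (isConj_iff.2 ⟨φ g, by rw [map_mul, map_mul, map_inv]⟩)
    suffices h : ∃ k, φ (g * w * g⁻¹) = F.lift k by
      obtain ⟨k, hk⟩ := h
      have e : g * w * g⁻¹ = Model.tv k := hφinj (hk.trans (hφ k).symm)
      exact Model.isTv_iff.2 ⟨((g⁻¹ : W) : Equiv.Perm (Fin 693)) k, by rw [← Model.tv_conj, ← e]; group⟩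
    by_cases hzeq : φ (g * w * g⁻¹) = z
    · exact ⟨5, hzeq.trans h5.symm⟩
    obtain ⟨i, v, e⟩ := F.cover _ hconj hc hzeq
    obtain ⟨k, hk⟩ := labP_surj (.X i (hF v (ctr i)))
    exact ⟨k, e.trans ((F.X_eq rfl).trans (by rw [lift, hk]))⟩

end Frame

theorem embedGoal : EmbedGoal.{u} := fun {_} _ _ {_} {_} _ F => F.main

end Cfsg.Lib.USixType
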