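import Cfsg.Agent.USixType.FrameSec

/-!
# A frame exists
-/

set_option autoImplicit false
set_option Elab.async false
set_option linter.unusedSectionVars false

namespace Cfsg.Lib.USixType

open Subgroup

universe u

/-- Commuting pairs of transvections give a frame. -/
theorem frameGoal : FrameGoal.{u} := by
  intro hP G _ _ z J c ⟨g₀, hg₀, hg₀'⟩
  obtain ⟨a, x₀, y, Mx₀, hy, hyx₀, hyz, hyzy⟩ := exists_start hP hg₀ hg₀' c
  have U := fun i => uniq hP Mx₀ hy hyx₀ hyz i
  choose x hx hxu using U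
  have Mx : ∀ i, Mem c i (x i) := fun i => (hx i).1
  have hyx : ∀ i, Commute y (x i) := fun i => (hx i).2
  obtain ⟨s, sJ, sβ, sm', sK⟩ := exists_section hP Mx hy hyz hyx
  have hs0 : s 0 = 1 := by
    have h0 := sm' 0 0
    rwa [add_zero, show phi 0 0 = false from rfl, show zp z false = 1 from rfl, mul_one, mul_eq_left] at h0
  have sQ : ∀ v, s v * s v = zp z (Q v) := fun v => by rw [c.sq _ (sJ v), sβ]
  have hact : ∀ i v, x i * s v * x i = s (tv (ctr i) v) := by
    intro i v
    by_cases hv : h v (ctr i) = 0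
    · rw [show tv (ctr i) v = v from (tv_fix_iff i v.code).2 hv]
      exact Coord.flip_comm ((Mx i).fix_comm hP (sJ v) (by rw [sβ]; exact hv)) (Mx i).sq
    obtain ⟨hphi, hne⟩ := phi_shift i v.code hv
    rw [vt_code] at hphi hne
    set w := tv (ctr i) v + v with hw
    obtain ⟨hm, hb⟩ := (Mx i).shift (sJ v)
    rw [sβ, ← hw] at hb
    have e := inter_unique hP (Mx i) (mul_mem c.mem hm) ((Mx i).inter_mem hP (sJ v) fun k => hne (by
      rw [← hb, k, (Mx i).sq, c.β_one])) (sJ w) (sK i w (shift_line i v.code))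
      (by rw [c.β_mul z c.mem _ hm, c.β_z, zero_add, hb, sβ])
    have hQ : Q w = false := by
      have := (line_pidx i w.code (shift_line i v.code) hne).1
      rw [vt_code] at this
      simp [Q, this]
    have e1 : x i * (s v)⁻¹ * x i = z * s w * (s v)⁻¹ := by
      rw [← e, ← mul_assoc z z, c.z_sq, one_mul]; group
    have e2 := congrArg (·⁻¹) e1
    simp only [mul_inv_rev, inv_inv, (Mx i).inv, c.z_inv] at e2
    have hwi : (s w)⁻¹ = s w := inv_eq_of_mul_eq_one_left (by rw [sQ, hQ]; rfl)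
    rw [hwi, ← mul_assoc, ← mul_assoc] at e2
    rw [e2, sm', hphi, hw, show v + (tv (ctr i) v + v) = tv (ctr i) v by
      rw [add_comm, add_assoc, Vt.add_self, add_zero], show zp z true = z from rfl, mul_assoc, c.z_sq, mul_one]
  refine ⟨{
    y := y
    x := x
    s := s
    y_conj := hy
    x_conj := fun i => (Mx i).conj
    x_z := fun i => (Mx i).comm
    x_y := fun i => (hyx i).symm
    π_x := fun i => (Mx i).π
    x_x := fun i j => ?_
    s_mem := sJ
    s_β := sβ
    s_mul := sm'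
    x_act := hact
    cover := fun d hd hc hne => ?_
    free := fun q hq hqy => ?_
    y_z := hyzy
    y_x := fun i v hv => ?_
    y_s := fun v hv => ?_ }⟩
  · have hm := (Mx j).conj_act (Mx i).comm
    rw [(Mx i).π, (Mx i).inv] at hm
    exact hxu _ _ ⟨hm, ((hyx i).mul_right (hyx j)).mul_right (hyx i)⟩
  · obtain ⟨i, M⟩ := c.exists_mem hP hd hc hne
    obtain ⟨q, hq, rfl⟩ := (Mx i).coset hP M
    obtain ⟨b, hb⟩ := c.eq_or_mul_z (sJ (c.β q)) hq (sβ _)
    refine ⟨i, c.β q, ?_⟩
    have hcz : Commute ((s (c.β q))⁻¹ * x i * s (c.β q)) (zp z b) :=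
      Coord.zp_comm ((Mx i).conj_mem (sJ _)).comm b
    conv_lhs => rw [hb]
    calc (s (c.β q) * zp z b)⁻¹ * x i * (s (c.β q) * zp z b)
        = (zp z b)⁻¹ * ((s (c.β q))⁻¹ * x i * s (c.β q) * zp z b) := by group
      _ = _ := by rw [hcz.eq, inv_mul_cancel_left]
  · have hfix : ∀ i, h (c.β q) (ctr i) = 0 := fun i => by
      have e := hxu i (q⁻¹ * x i * q) ⟨(Mx i).conj_mem hq, (hqy.symm.inv_right.mul_right (hyx i)).mul_right hqy.symm⟩
      refine (tv_fix_iff i (c.β q).code).1 ?_
      rw [vt_code, ← tvP_apply, ← (Mx i).π, ← c.equiv (x i) (Mx i).comm q hq]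
      congr 1
      calc x i * q * (x i)⁻¹ = x i * q * x i := by rw [(Mx i).inv]
        _ = q * (q⁻¹ * x i * q) * x i := by group
        _ = q := by rw [e, mul_assoc, (Mx i).sq, mul_one]
    rcases (c.β_ker q hq).1 (no_common (c.β q).code hfix) with e | e
    · exact e
    · exact absurd (e ▸ hqy).symm hyz
  · obtain ⟨hphi, hne'⟩ := phi_shift i v.code hv
    set m := (s v)⁻¹ * x i * s v with hm
    have Mm : Mem c i m := (Mx i).conj_mem (sJ v)
    have hym : ¬ Commute y m := fun hc => hne' (by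
      obtain ⟨-, hb⟩ := (Mx i).shift (sJ v)
      rw [sβ, show (s v)⁻¹ * x i * s v = x i from hxu i m ⟨Mm, hc⟩, (Mx i).sq, c.β_one] at hb
      exact hb.symm)
    obtain ⟨b, hbi, -, hb, -⟩ := exists_between i i
    obtain ⟨g, hg⟩ := isConj_iff.1 (Mx b).conj
    have hne : m ≠ x b := fun e => hbi (Mm.index_unique (e ▸ Mx b)).symm
    obtain ⟨k, Mk⟩ := (c.map g).exists_mem hP (d := m) (by rw [hg]; exact (Mx b).conj.symm.trans Mm.conj)
      (by rw [hg]; exact ((Mx b).commute hP Mm hb).symm) (by rw [hg]; exact hne)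
    obtain ⟨p, My⟩ := (c.map g).exists_mem hP (d := y) (by rw [hg]; exact (Mx b).conj.symm.trans hy)
      (by rw [hg]; exact hyx b) fun e => hyz (by rw [e, hg]; exact (Mx b).comm)
    exact (Mk.braid hP My fun hc => hym hc.symm)
  · by_cases hv0 : v = 0
    · subst hv0
      rw [hs0, inv_one, one_mul, mul_one]
    obtain ⟨hl, ho⟩ := pidx_line v.code hv0 hv
    rw [vt_code] at hl ho
    set b := pidx v
    obtain ⟨g, hg⟩ := isConj_iff.1 (Mx b).conj
    have hK := (c.Kc_iff hg).1 (sK b v hl)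
    obtain ⟨p, My⟩ := (c.map g).exists_mem hP (d := y) (by rw [hg]; exact (Mx b).conj.symm.trans hy)
      (by rw [hg]; exact hyx b) fun e => hyz (by rw [e, hg]; exact (Mx b).comm)
    exact My.commute hP (My.conj_mem hK) (orth_self p)

end Cfsg.Lib.USixType
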