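import Cfsg.Agent.USixType.Recursion

/-!
An embedded unitary group containing the centraliser of a transvection, whose transvections fuse only among
themselves, is the whole group.
-/

set_option autoImplicit false
set_option Elab.async false

namespace Cfsg.Lib.USixType.Model

open Cfsg.Lib.FiPres Cfsg.Lib.CosetCert Cfsg.Lib.PermCert

universe u

variable {G : Type u} [Group G] {φ : W →* G}

theorem pAut_id : PAut id :=
  ⟨fun _ hu => hu, fun _ _ => rfl, fun _ _ _ _ h => h, ⟨id, Function.bijective_id, fun _ => rfl⟩,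
    fun l hl => ⟨l, hl, fun u hu => ⟨u, hu, rfl⟩⟩⟩

theorem iota_three : iota 3 = tv (pp 0) * tv (pp 1) := by
  rw [← iota_msk (by norm_num : 0 < 21), ← iota_msk (by norm_num : 1 < 21), ← iota_xor]
  rfl

theorem iota_five : iota 5 = tv (pp 0) * tv (pp 2) := by
  rw [← iota_msk (by norm_num : 0 < 21), ← iota_msk (by norm_num : 2 < 21), ← iota_xor]
  rfl

theorem mSub_le {P : Subgroup W} : ∀ {gs : List ℕ}, (∀ g ∈ gs, iota g ∈ P) → mSub gs ≤ P := by
  intro gs h
  have : ∀ bs : List ℕ, (∀ g ∈ bs, iota g ∈ P) → ∀ u ∈ spanL bs, iota u ∈ P := by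
    intro bs
    induction bs with
    | nil => intro _ u hu; rw [List.mem_singleton.1 hu, iota_zero]; exact P.one_mem
    | cons b r ih =>
      intro hb u hu
      rcases List.mem_append.1 hu with hu | hu
      · exact ih (fun x hx => hb x (List.mem_cons_of_mem b hx)) u hu
      · obtain ⟨v, hv, rfl⟩ := List.mem_map.1 hu
        rw [iota_xor]
        exact P.mul_mem (hb b List.mem_cons_self) (ih (fun x hx => hb x (List.mem_cons_of_mem b hx)) v hv)
  rintro _ ⟨u, hu, rfl⟩
  exact this gs h u hu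

theorem root_node : (planeNodes.getD rootNode.1 ([], [])).1 = [3, 5] ∧ rootNode.1 < planeNodes.length := by
  decide +kernel

theorem Emb.root_safe [Finite G] (E : Emb φ) : Safe φ (mSub [3, 5]) := by
  have h := E.node_safe rootNode.1 root_node.2 id pAut_id
  rwa [root_node.1, List.map_id] at h

theorem fixed_check : ((List.range 693).all fun j => (evM 3 j == j) == pairFixed.contains j) = true ∧
    ([6, 17, 18].all fun l => pairFixed.all fun j => evM (msk 0 ^^^ msk l) j == j) = true ∧
    pairFixed.length = 53 ∧ pairFixed.Nodup ∧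
    (pairFixed.all fun j => decide (j < 693) && (ev (tvW (Fin.ofNat 693 j)) (pp 0).val == (pp 0).val)) = true ∧
    ([0, 1, 6, 17, 18].all fun k => pairFixed.contains (pp k).val) = true := by decide +kernel

theorem fixed_iff (j : Fin 693) : ((iota 3 : W) : Equiv.Perm (Fin 693)) j = j ↔ j.val ∈ pairFixed := by
  have h := List.all_eq_true.1 fixed_check.1 j.val (List.mem_range.2 j.isLt)
  rw [beq_iff_eq] at h
  rw [← List.contains_iff_mem, ← h, beq_iff_eq, Fin.ext_iff, iota_apply]

theorem fix_of_span {gs : List ℕ} {j : Fin 693} (h : ∀ g ∈ gs, evM g j.val = j.val) :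
    ∀ p ∈ mSub gs, (p : Equiv.Perm (Fin 693)) j = j := fun _ hp =>
  MulAction.mem_stabilizer_iff.1 ((mSub_le (P := MulAction.stabilizer W j) fun g hg =>
    MulAction.mem_stabilizer_iff.2 (Fin.ext ((iota_apply g j).trans (h g hg)))) hp)

/-- No two of the pair's fixed transvections outside the listed ones are congruent. -/
def soloOK (gs pts : List ℕ) : Bool :=
  pairFixed.all fun e => pts.contains e ||
    (spanL gs).all fun v => (v == 0) ||
      !((pairFixed.map fun f => key (tvW (Fin.ofNat 693 f))).contains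
        (basePts.map fun p => ev (tvW (Fin.ofNat 693 e)) (evM v p)))

theorem solo_check : soloOK [3] [(pp 0).val, (pp 1).val] = true ∧
    ([6, 17, 18].all fun l => soloOK [3, msk 0 ^^^ msk l] [(pp 0).val, (pp 1).val, (pp l).val]) = true := by
  decide +kernel

theorem solo_eq {gs : List ℕ} {pts : List ℕ} (h3 : 3 ∈ gs) (h : soloOK gs pts = true) {e f : Fin 693}
    (he : e.val ∈ pairFixed) (hpts : e.val ∉ pts) (hf : ∀ p ∈ mSub gs, (p : Equiv.Perm (Fin 693)) f = f)
    (hm : tv e * tv f ∈ mSub gs) : f = e := by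
  obtain ⟨v, hv, e1⟩ := hm
  have hf3 : f.val ∈ pairFixed := (fixed_iff f).1 (hf _ (iota_mem (spanL_gen h3)))
  have hc := List.all_eq_true.1 h e.val he
  rw [Bool.or_eq_true, List.contains_iff_mem, List.all_eq_true] at hc
  have hv' := (hc.resolve_left hpts) v hv
  rw [Bool.or_eq_true, beq_iff_eq, Bool.not_eq_true', ← Bool.not_eq_true, List.contains_iff_mem] at hv'
  rcases hv' with rfl | hv'
  · rw [iota_zero] at e1
    exact (tv_inj ((eq_inv_of_mul_eq_one_right e1).trans (tv_inv e)))
  · refine absurd (List.mem_map.2 ⟨f.val, hf3, ?_⟩) hv'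
    simp only [Fin.ofNat_eq_cast, Fin.cast_val_eq_self]
    refine List.map_inj_left.2 fun p hp => ?_
    have hp' : p < 693 := (show ∀ p ∈ basePts, p < 693 by decide) p hp
    rw [← wv_apply (letOK_tvW f) ⟨p, hp'⟩, ← iota_apply v ⟨p, hp'⟩,
      ← wv_apply (letOK_tvW e) _, ← Equiv.Perm.mul_apply, ← Subgroup.coe_mul]
    congr 3
    show tv f = tv e * iota v
    rw [← e1, ← mul_assoc, tv_sq, one_mul]

theorem colourG_solo {gs : List ℕ} {pts : List ℕ} (h3 : 3 ∈ gs) (h : soloOK gs pts = true) {e : Fin 693}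
    (he : ∀ p ∈ mSub gs, (p : Equiv.Perm (Fin 693)) e = e) (hpts : e.val ∉ pts) : colourG (mSub gs) e = 1 := by
  rw [colourG, Set.ncard_eq_one]
  refine ⟨e, Set.ext fun f => ⟨fun hf => solo_eq h3 h ((fixed_iff e).1 (he _ (iota_mem (spanL_gen h3)))) hpts hf.1 hf.2,
    fun hf => ?_⟩⟩
  obtain rfl : f = e := hf
  exact ⟨he, by rw [tv_sq]; exact one_mem _⟩

theorem colourG_two {P : Subgroup W} {e f : Fin 693} (hne : f ≠ e)
    (he : ∀ p ∈ P, (p : Equiv.Perm (Fin 693)) e = e) (hf : ∀ p ∈ P, (p : Equiv.Perm (Fin 693)) f = f)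
    (hm : tv e * tv f ∈ P) : colourG P e ≠ 1 := by
  intro h
  rw [colourG, Set.ncard_eq_one] at h
  obtain ⟨a, ha⟩ := h
  exact hne ((Set.mem_singleton_iff.1 ((Set.ext_iff.1 ha f).1 ⟨hf, hm⟩)).trans
    (Set.mem_singleton_iff.1 ((Set.ext_iff.1 ha e).1 ⟨he, by rw [tv_sq]; exact P.one_mem⟩)).symm)

theorem triple_check : (pairFixed.all fun j => [0, 1, 6, 17, 18].any (fun k => (pp k).val == j) ||
    tripleWords.any fun w => (w.1 == j) && letOK w.2 && (ev w.2 (pp 0).val == (pp 0).val) &&
      (ev w.2 (pp 1).val == (pp 1).val) && (ev w.2 j == (pp 2).val)) = true := by decide +kernel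

theorem triple_word {j : Fin 693} (hj : j.val ∈ pairFixed) :
    (∃ k ∈ [0, 1, 6, 17, 18], j = pp k) ∨ ∃ g : W, (g : Equiv.Perm (Fin 693)) (pp 0) = pp 0 ∧
      (g : Equiv.Perm (Fin 693)) (pp 1) = pp 1 ∧ (g : Equiv.Perm (Fin 693)) j = pp 2 := by
  have h := List.all_eq_true.1 triple_check j.val hj
  rw [Bool.or_eq_true] at h
  rcases h with h | h
  · obtain ⟨k, hk, e⟩ := List.any_eq_true.1 h
    exact Or.inl ⟨k, hk, (Fin.ext (beq_iff_eq.1 e)).symm⟩
  · obtain ⟨w, -, e⟩ := List.any_eq_true.1 h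
    simp only [Bool.and_eq_true, beq_iff_eq] at e
    exact Or.inr ⟨wv w.2, Fin.ext ((wv_apply e.1.1.1.2 _).trans e.1.1.2),
      Fin.ext ((wv_apply e.1.1.1.2 _).trans e.1.2), Fin.ext ((wv_apply e.1.1.1.2 _).trans e.2)⟩

theorem commute_tv_of_fixed {j : Fin 693} (hj : j.val ∈ pairFixed) : Commute (tv j) (tv (pp 0)) := by
  have h := List.all_eq_true.1 fixed_check.2.2.2.2.1 j.val hj
  rw [Bool.and_eq_true, beq_iff_eq, Fin.ofNat_eq_cast, Fin.cast_val_eq_self] at h
  exact (commute_iff _ _).2 (Fin.ext ((wv_apply (letOK_tvW j) _).trans h.2))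

/-- A triple outside the line of the pair is carried to the root. -/
theorem Emb.triple_safe [Finite G] (E : Emb φ) {P : Subgroup W} {g : W} {j : Fin 693}
    (ha : (g : Equiv.Perm (Fin 693)) (pp 0) = pp 0) (hb : (g : Equiv.Perm (Fin 693)) (pp 1) = pp 1)
    (hj : (g : Equiv.Perm (Fin 693)) j = pp 2) (h3 : iota 3 ∈ P) (h5 : tv (pp 0) * tv j ∈ P) : Safe φ P := by
  refine (E.root_safe.of_conj g⁻¹ fun q hq => ?_)
  refine (mSub_le (P := P.comap (MulAut.conj g⁻¹).toMonoidHom) fun u hu => ?_) hq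
  rw [Subgroup.mem_comap, MulEquiv.coe_toMonoidHom, MulAut.conj_apply, inv_inv]
  rcases List.mem_cons.1 hu with rfl | hu
  · rwa [show g⁻¹ * iota 3 * g = iota 3 by
      rw [iota_three]
      conv_lhs => rw [← ha, ← hb, ← tv_conj, ← tv_conj]
      group]
  · rw [List.mem_singleton.1 hu, iota_five]
    rwa [show g⁻¹ * (tv (pp 0) * tv (pp 2)) * g = tv (pp 0) * tv j by
      conv_lhs => rw [← ha, ← hj, ← tv_conj, ← tv_conj]
      group]

theorem line_masks : ([6, 17, 18].all fun l => [6, 17, 18].any fun l' => (l' != l) &&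
    [0, 1, l].all fun k => !(spanL [3, msk 0 ^^^ msk l]).contains (msk l' ^^^ msk k) &&
      (List.range 21).any fun q => (spanL [3, msk 0 ^^^ msk l, msk l' ^^^ msk k]).contains (msk q)) = true ∧
    ([6, 17, 18].all fun l => [6, 17, 18].all fun l' => (l' == l) ||
      (List.range 21).any fun q => (spanL [3, msk 0 ^^^ msk l, msk 0 ^^^ msk l']).contains (msk q)) = true ∧
    ([6, 17, 18].all fun l => (List.range 21).any fun p => (List.range 21).any fun q =>
      (p != q) && (msk p ^^^ msk q == 3 ^^^ msk l)) = true ∧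
    ([6, 17, 18].all fun l => !(spanL [3]).contains (msk l ^^^ msk 0)) = true ∧
    (msk 0 ^^^ msk 1 = 3 ∧ msk 1 ^^^ msk 6 ∈ spanL [3, msk 0 ^^^ msk 6] ∧
      msk 0 ^^^ msk 6 ∈ spanL [3, msk 1 ^^^ msk 6]) := by
  decide +kernel

theorem pp_val_inj : ∀ j k : Fin 21, (pp j).val = (pp k).val → j = k := by decide +kernel

theorem pp_ne {j k : ℕ} (hj : j < 21) (hk : k < 21) (h : j ≠ k) : pp j ≠ pp k := fun e =>
  h (congrArg Fin.val (pp_val_inj ⟨j, hj⟩ ⟨k, hk⟩ (congrArg Fin.val e)))

theorem sup_tv (P : Subgroup W) {i k : ℕ} (hi : i < 21) (hk : k < 21) :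
    iota (msk i ^^^ msk k) ∈ P ⊔ Subgroup.zpowers (tv (pp i) * tv (pp k)) := by
  rw [iota_xor, iota_msk hi, iota_msk hk]
  exact Subgroup.mem_sup_right (Subgroup.mem_zpowers _)

/-- The subgroup of the pair and a third point of its line. -/
theorem Emb.line_safe [Finite G] (E : Emb φ) {l : ℕ} (hl : l ∈ [6, 17, 18]) :
    Safe φ (mSub [3, msk 0 ^^^ msk l]) := by
  intro d hd hdP
  by_contra hdM
  set gs := [3, msk 0 ^^^ msk l]
  set P := mSub gs
  have h3 : 3 ∈ gs := List.mem_cons_self
  have hl21 : l < 21 := (show ∀ l ∈ [6, 17, 18], l < 21 by decide) l hl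
  have hsolo : soloOK gs [(pp 0).val, (pp 1).val, (pp l).val] = true := List.all_eq_true.1 solo_check.2 l hl
  have hlt : ∀ g ∈ gs, g < 512 := fun g hg => by
    rcases List.mem_cons.1 hg with rfl | hg
    · norm_num
    · rw [List.mem_singleton.1 hg]
      exact Nat.xor_lt_two_pow (n := 9) (msk_lt (by norm_num)) (msk_lt hl21)
  have hfix : ∀ j : Fin 693, j.val ∈ pairFixed → ∀ p ∈ P, (p : Equiv.Perm (Fin 693)) j = j := fun j hj =>
    fix_of_span fun g hg => by
      rcases List.mem_cons.1 hg with rfl | hg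
      · exact ((iota_apply 3 j).symm.trans (congrArg Fin.val ((fixed_iff j).2 hj)))
      · rw [List.mem_singleton.1 hg]
        exact beq_iff_eq.1 (List.all_eq_true.1 (List.all_eq_true.1 fixed_check.2.1 l hl) _ hj)
  have hline : ∀ k ∈ [0, 1, 6, 17, 18], (pp k).val ∈ pairFixed := fun k hk =>
    List.contains_iff_mem.1 (List.all_eq_true.1 fixed_check.2.2.2.2.2 k hk)
  have hp := mSub_pGroup gs
  obtain ⟨e0, n0, hn0, he0, hf0, -⟩ := E.tv_step hp hd hdP hdM (i := pp 0) (hfix _ (hline 0 (by decide)))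
  have hmem3 : iota 3 ∈ P := iota_mem (spanL_gen h3)
  by_cases hcol : colourG P e0 = 1
  · -- the chosen point is the first of the pair
    obtain ⟨e, n, hn, he, hfe, hor⟩ := E.tv_step hp hd hdP hdM (i := pp 0) (hfix _ (hline 0 (by decide)))
    obtain ⟨m, hm, hme⟩ := E.carried hn0 hn he0 he
    have hce : colourG P e = 1 := (colourG_inv hm hme).trans hcol
    have ha2 : colourG P (pp 0) ≠ 1 := colourG_two (f := pp 1) (pp_ne (by norm_num) (by norm_num) (by norm_num))
      (hfix _ (hline 0 (by decide))) (hfix _ (hline 1 (by decide))) (iota_three ▸ hmem3)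
    rcases hor with h | ⟨-, -, hns⟩
    · exact colourG_two (f := pp 0) (fun h0 => ha2 (h0 ▸ hce)) hfe (hfix _ (hline 0 (by decide))) (by
        have h' := P.inv_mem h
        rwa [mul_inv_rev, tv_inv, tv_inv] at h') hce
    refine hns ?_
    have hef : e.val ∈ pairFixed := (fixed_iff e).1 (hfe _ hmem3)
    rcases triple_word hef with ⟨k, hk, rfl⟩ | ⟨g, ga, gb, gj⟩
    · have hne : k ≠ 0 ∧ k ≠ 1 ∧ k ≠ l := by
        refine ⟨?_, ?_, ?_⟩
        · rintro rfl; exact ha2 hce
        · rintro rfl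
          refine colourG_two (f := pp 0) (pp_ne (by norm_num) (by norm_num) (by norm_num)) hfe
            (hfix _ (hline 0 (by decide))) ?_ hce
          have h' := P.inv_mem hmem3
          rwa [iota_three, mul_inv_rev, tv_inv, tv_inv] at h'
        · rintro rfl
          refine colourG_two (f := pp 0) (pp_ne (by norm_num) hl21 (fun h => by rw [← h] at hl; simp at hl)) hfe
            (hfix _ (hline 0 (by decide))) ?_ hce
          have h' := P.inv_mem (iota_mem (gs := gs) (spanL_gen (List.mem_cons_of_mem _ List.mem_cons_self)))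
          rwa [iota_xor, iota_msk (by norm_num), iota_msk hl21, mul_inv_rev, tv_inv, tv_inv] at h'
      have hk' : k ∈ [6, 17, 18] := by
        simp only [List.mem_cons, List.mem_nil_iff, or_false] at hk ⊢
        omega
      have hk21 : k < 21 := (show ∀ l ∈ [6, 17, 18], l < 21 by decide) k hk'
      have hq := List.all_eq_true.1 (List.all_eq_true.1 line_masks.2.1 l hl) k hk'
      rw [Bool.or_eq_true, beq_iff_eq] at hq
      obtain ⟨q, hq1, hq2⟩ := List.any_eq_true.1 (hq.resolve_left hne.2.2)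
      rw [List.mem_range] at hq1
      rw [List.contains_iff_mem] at hq2
      refine E.safe_tv (j := pp q) (iota_msk hq1 ▸ (mSub_le (P := _) fun u hu => ?_) (iota_mem hq2))
      rcases List.mem_cons.1 hu with rfl | hu
      · exact Subgroup.mem_sup_left hmem3
      rcases List.mem_cons.1 hu with rfl | hu
      · exact Subgroup.mem_sup_left (iota_mem (spanL_gen (List.mem_cons_of_mem _ List.mem_cons_self)))
      · rw [List.mem_singleton.1 hu]
        exact sup_tv P (by norm_num) hk21
    · exact E.triple_safe ga gb gj (Subgroup.mem_sup_left hmem3)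
        (Subgroup.mem_sup_right (Subgroup.mem_zpowers _))
  · -- the chosen point is the other point of the line
    obtain ⟨l', hl', hc'⟩ := List.any_eq_true.1 (List.all_eq_true.1 line_masks.1 l hl)
    rw [Bool.and_eq_true, bne_iff_ne, List.all_eq_true] at hc'
    have hl'21 : l' < 21 := (show ∀ l ∈ [6, 17, 18], l < 21 by decide) l' hl'
    obtain ⟨e, n, hn, he, hfe, hor⟩ := E.tv_step hp hd hdP hdM (i := pp l')
      (hfix _ (hline l' (List.mem_cons_of_mem _ (List.mem_cons_of_mem _ hl'))))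
    obtain ⟨m, hm, hme⟩ := E.carried hn0 hn he0 he
    have hce : colourG P e ≠ 1 := (colourG_inv hm hme) ▸ hcol
    have hmem : e.val ∈ [(pp 0).val, (pp 1).val, (pp l).val] := by
      by_contra hno
      exact hce (colourG_solo h3 hsolo hfe hno)
    obtain ⟨k, hk, rfl⟩ : ∃ k ∈ [0, 1, l], e = pp k := by
      simp only [List.mem_cons, List.mem_nil_iff, or_false] at hmem
      rcases hmem with h | h | h
      exacts [⟨0, by simp, Fin.ext h⟩, ⟨1, by simp, Fin.ext h⟩, ⟨l, by simp, Fin.ext h⟩]
    have hk21 : k < 21 := by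
      simp only [List.mem_cons, List.mem_nil_iff, or_false] at hk
      omega
    have hq := hc'.2 k hk
    rw [Bool.and_eq_true, Bool.not_eq_true', ← Bool.not_eq_true, List.contains_iff_mem] at hq
    rcases hor with h | ⟨-, -, hns⟩
    · rw [← iota_msk hl'21, ← iota_msk hk21, ← iota_xor] at h
      exact hq.1 (mem_of_iota hlt (Nat.xor_lt_two_pow (n := 9) (msk_lt hl'21) (msk_lt hk21)) h)
    refine hns ?_
    obtain ⟨q, hq1, hq2⟩ := List.any_eq_true.1 hq.2
    rw [List.mem_range] at hq1
    rw [List.contains_iff_mem] at hq2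
    refine E.safe_tv (j := pp q) (iota_msk hq1 ▸ (mSub_le (P := _) fun u hu => ?_) (iota_mem hq2))
    rcases List.mem_cons.1 hu with rfl | hu
    · exact Subgroup.mem_sup_left hmem3
    rcases List.mem_cons.1 hu with rfl | hu
    · exact Subgroup.mem_sup_left (iota_mem (spanL_gen (List.mem_cons_of_mem _ List.mem_cons_self)))
    · rw [List.mem_singleton.1 hu]
      exact sup_tv P hl'21 hk21

/-- The product of two commuting transvections. -/
theorem Emb.pair_root_safe [Finite G] (E : Emb φ) : Safe φ (mSub [3]) := by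
  intro d hd hdP
  by_contra hdM
  set P := mSub [3]
  have hmem3 : iota 3 ∈ P := iota_mem (spanL_gen List.mem_cons_self)
  have hfix : ∀ j : Fin 693, j.val ∈ pairFixed → ∀ p ∈ P, (p : Equiv.Perm (Fin 693)) j = j := fun j hj =>
    fix_of_span fun g hg => by
      rw [List.mem_singleton.1 hg]
      exact ((iota_apply 3 j).symm.trans (congrArg Fin.val ((fixed_iff j).2 hj)))
  have hline : ∀ k ∈ [0, 1, 6, 17, 18], (pp k).val ∈ pairFixed := fun k hk =>
    List.contains_iff_mem.1 (List.all_eq_true.1 fixed_check.2.2.2.2.2 k hk)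
  have hp := mSub_pGroup [3]
  obtain ⟨e0, n0, hn0, he0, hf0, -⟩ := E.tv_step hp hd hdP hdM (i := pp 0) (hfix _ (hline 0 (by decide)))
  have htwo : colourG P (pp 0) ≠ 1 := colourG_two (f := pp 1) (pp_ne (by norm_num) (by norm_num) (by norm_num))
    (hfix _ (hline 0 (by decide))) (hfix _ (hline 1 (by decide))) (iota_three ▸ hmem3)
  by_cases hcol : colourG P e0 = 1
  · obtain ⟨e, n, hn, he, hfe, hor⟩ := E.tv_step hp hd hdP hdM (i := pp 0) (hfix _ (hline 0 (by decide)))
    obtain ⟨m, hm, hme⟩ := E.carried hn0 hn he0 he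
    have hce : colourG P e = 1 := (colourG_inv hm hme).trans hcol
    rcases hor with h | ⟨-, -, hns⟩
    · exact colourG_two (f := pp 0) (fun h0 => htwo (h0 ▸ hce)) hfe (hfix _ (hline 0 (by decide))) (by
        have h' := P.inv_mem h
        rwa [mul_inv_rev, tv_inv, tv_inv] at h') hce
    refine hns ?_
    rcases triple_word ((fixed_iff e).1 (hfe _ hmem3)) with ⟨k, hk, rfl⟩ | ⟨g, ga, gb, gj⟩
    · have hne : k ≠ 0 ∧ k ≠ 1 := by
        refine ⟨?_, ?_⟩
        · rintro rfl; exact htwo hce
        · rintro rfl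
          refine colourG_two (f := pp 0) (pp_ne (by norm_num) (by norm_num) (by norm_num)) hfe
            (hfix _ (hline 0 (by decide))) ?_ hce
          have h' := P.inv_mem hmem3
          rwa [iota_three, mul_inv_rev, tv_inv, tv_inv] at h'
      have hk' : k ∈ [6, 17, 18] := by
        simp only [List.mem_cons, List.mem_nil_iff, or_false] at hk ⊢
        omega
      refine (E.line_safe hk').mono (mSub_le fun u hu => ?_)
      rcases List.mem_cons.1 hu with rfl | hu
      · exact Subgroup.mem_sup_left hmem3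
      · rw [List.mem_singleton.1 hu]
        exact sup_tv P (by norm_num) ((show ∀ l ∈ [6, 17, 18], l < 21 by decide) k hk')
    · exact E.triple_safe ga gb gj (Subgroup.mem_sup_left hmem3)
        (Subgroup.mem_sup_right (Subgroup.mem_zpowers _))
  · obtain ⟨e, n, hn, he, hfe, hor⟩ := E.tv_step hp hd hdP hdM (i := pp 6) (hfix _ (hline 6 (by decide)))
    obtain ⟨m, hm, hme⟩ := E.carried hn0 hn he0 he
    have hce : colourG P e ≠ 1 := (colourG_inv hm hme) ▸ hcol
    have hmem : e.val ∈ [(pp 0).val, (pp 1).val] := by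
      by_contra hno
      exact hce (colourG_solo List.mem_cons_self solo_check.1 hfe hno)
    have h6 : colourG P (pp 6) = 1 := colourG_solo List.mem_cons_self solo_check.1 (hfix _ (hline 6 (by decide)))
      (by decide +kernel)
    rcases hor with h | ⟨-, -, hns⟩
    · exact colourG_two (fun h0 : e = pp 6 => hce (h0 ▸ h6)) (hfix _ (hline 6 (by decide))) hfe h h6
    refine hns ((E.line_safe (l := 6) (by decide)).mono (mSub_le fun u hu => ?_))
    rcases List.mem_cons.1 hu with rfl | hu
    · exact Subgroup.mem_sup_left hmem3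
    rw [List.mem_singleton.1 hu]
    simp only [List.mem_cons, List.mem_nil_iff, or_false] at hmem
    rcases hmem with h | h
    · rw [Fin.ext h, Nat.xor_comm]
      exact sup_tv P (by norm_num) (by norm_num)
    · rw [Fin.ext h, show msk 0 ^^^ msk 6 = 3 ^^^ (msk 6 ^^^ msk 1) by decide +kernel, iota_xor]
      exact mul_mem (Subgroup.mem_sup_left hmem3) (sup_tv P (by norm_num) (by norm_num))

theorem pair_check : ((List.range 693).all fun j => (ev (tvW (pp 0)) j != j) || (j == (pp 0).val) ||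
    pairWords.any fun w => (w.1 == j) && letOK w.2 && (ev w.2 (pp 0).val == (pp 0).val) &&
      (ev w.2 j == (pp 1).val)) = true := by decide +kernel

theorem Emb.pair_safe [Finite G] (E : Emb φ) {i j : Fin 693} (hc : Commute (tv i) (tv j)) (hne : i ≠ j)
    {P : Subgroup W} (h : tv i * tv j ∈ P) : Safe φ P := by
  set g : W := wv (ptW i) * (wv (ptW (pp 0)))⁻¹
  have hga : (g : Equiv.Perm (Fin 693)) (pp 0) = i := by
    show ((wv (ptW i) : W) : Equiv.Perm (Fin 693)) (((wv (ptW (pp 0)) : W) : Equiv.Perm (Fin 693))⁻¹ (pp 0)) = i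
    rw [show ((wv (ptW (pp 0)) : W) : Equiv.Perm (Fin 693))⁻¹ (pp 0) = 0 from
      Equiv.Perm.inv_eq_iff_eq.2 (ptW_zero _).symm, ptW_zero]
  obtain ⟨k, hk⟩ := (g : Equiv.Perm (Fin 693)).surjective j
  have hck : ((tv (pp 0) : W) : Equiv.Perm (Fin 693)) k = k := by
    refine (commute_iff _ _).1 ?_
    rw [← hga, ← hk, ← tv_conj, ← tv_conj] at hc
    have := hc.map (MulAut.conj g⁻¹).toMonoidHom
    simpa [MulAut.conj_apply, mul_assoc] using this
  have hk0 : k ≠ pp 0 := fun e => hne (by rw [← hga, ← hk, e])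
  have hw := List.all_eq_true.1 pair_check k.val (List.mem_range.2 k.isLt)
  rw [Bool.or_eq_true, Bool.or_eq_true, bne_iff_ne, beq_iff_eq] at hw
  obtain ⟨w, -, e⟩ := List.any_eq_true.1 ((hw.resolve_left (by
    rintro (e | e)
    · exact e ((wv_apply (letOK_tvW _) k).symm.trans (congrArg Fin.val hck))
    · exact hk0 (Fin.ext e))))
  simp only [Bool.and_eq_true, beq_iff_eq] at e
  set v : W := g * (wv w.2)⁻¹
  have hva : ((wv w.2 : W) : Equiv.Perm (Fin 693))⁻¹ (pp 0) = pp 0 :=
    Equiv.Perm.inv_eq_iff_eq.2 (Fin.ext ((wv_apply e.1.1.2 _).trans e.1.2)).symm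
  have hvb : ((wv w.2 : W) : Equiv.Perm (Fin 693))⁻¹ (pp 1) = k :=
    Equiv.Perm.inv_eq_iff_eq.2 (Fin.ext ((wv_apply e.1.1.2 _).trans e.2)).symm
  refine E.pair_root_safe.of_conj v fun q hq => ?_
  refine (mSub_le (P := P.comap (MulAut.conj v).toMonoidHom) fun u hu => ?_) hq
  rw [List.mem_singleton.1 hu, Subgroup.mem_comap, MulEquiv.coe_toMonoidHom, MulAut.conj_apply, iota_three,
    show v * (tv (pp 0) * tv (pp 1)) * v⁻¹ = (v * tv (pp 0) * v⁻¹) * (v * tv (pp 1) * v⁻¹) by group, tv_conj, tv_conj]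
  show tv ((g : Equiv.Perm (Fin 693)) (((wv w.2 : W) : Equiv.Perm (Fin 693))⁻¹ (pp 0))) *
    tv ((g : Equiv.Perm (Fin 693)) (((wv w.2 : W) : Equiv.Perm (Fin 693))⁻¹ (pp 1))) ∈ P
  rwa [hva, hvb, hga, hk]

theorem seven_check : full [7] = true ∧
    ((List.range 693).filter fun j => evM (7 ^^^ msk 0) j == j).length ≠
      ((List.range 693).filter fun j => evM (7 ^^^ msk 5) j == j).length ∧
    ((List.range 21).all fun k => [0, 5].all fun w => !(spanL [7]).contains (msk w ^^^ msk k) || (k == w)) = true := by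
  decide +kernel

theorem fix_card (u : ℕ) : {j : Fin 693 | ((iota u : W) : Equiv.Perm (Fin 693)) j = j}.ncard =
    ((List.range 693).filter fun j => evM u j == j).length := by
  rw [← List.toFinset_card_of_nodup (List.nodup_range.filter _), ← Set.ncard_coe_finset,
    ← Set.ncard_image_of_injective _ Fin.val_injective]
  congr 1
  ext n
  simp only [Set.mem_image, Set.mem_ofPred_eq, Finset.mem_coe, List.mem_toFinset, List.mem_filter, List.mem_range,
    beq_iff_eq]
  constructor
  · rintro ⟨j, hj, rfl⟩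
    exact ⟨j.isLt, (iota_apply u j).symm.trans (congrArg Fin.val hj)⟩
  · rintro ⟨hn, e⟩
    exact ⟨⟨n, hn⟩, Fin.ext ((iota_apply u _).trans e), rfl⟩

/-- The product of three transvections with centres spanning a plane. -/
theorem Emb.seven_safe [Finite G] (E : Emb φ) : Safe φ (mSub [7]) := by
  intro d hd hdP
  by_contra hdM
  set P := mSub [7]
  have hp := mSub_pGroup [7]
  have hlt : ∀ g ∈ [7], g < 512 := by decide
  have key : ∀ w ∈ [0, 5], ∃ n : G, n ∈ Subgroup.normalizer ((P.map φ : Subgroup G) : Set G) ∧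
      n * d * n⁻¹ = φ (tv (pp w)) := by
    intro w hw
    have hw21 : w < 21 := (show ∀ w ∈ [0, 5], w < 21 by decide) w hw
    obtain ⟨e, n, hn, he, hfe, hor⟩ := E.tv_step hp hd hdP hdM (i := pp w) (fun p hp' => by
      obtain ⟨u, -, rfl⟩ := hp'
      exact iota_fix_pp u hw21)
    obtain ⟨k, hk, rfl⟩ := fixed_full hlt seven_check.1 fun g hg => hfe _ (iota_mem (spanL_gen hg))
    rcases hor with h | ⟨hc, hn', hns⟩
    · rw [← iota_msk hw21, ← iota_msk hk, ← iota_xor] at h
      have := List.all_eq_true.1 (List.all_eq_true.1 seven_check.2.2 k (List.mem_range.2 hk)) w hw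
      rw [Bool.or_eq_true, Bool.not_eq_true', ← Bool.not_eq_true, List.contains_iff_mem, beq_iff_eq] at this
      rcases this with e1 | e1
      · exact absurd (mem_of_iota hlt (Nat.xor_lt_two_pow (n := 9) (msk_lt hw21) (msk_lt hk)) h) e1
      · exact ⟨n, hn, e1 ▸ he⟩
    · refine absurd (E.pair_safe hc (fun e1 => hn' ?_) (Subgroup.mem_sup_right (Subgroup.mem_zpowers _))) hns
      rw [e1, tv_sq]
      exact one_mem _
  obtain ⟨n, hn, he⟩ := key 0 (by decide)
  obtain ⟨n', hn', he'⟩ := key 5 (by decide)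
  obtain ⟨m, hm, hme⟩ := E.carried hn hn' he he'
  obtain ⟨hm1, -⟩ := hm
  have hm7 : m * ((iota 7 : W) : Equiv.Perm (Fin 693)) * m⁻¹ = ((iota 7 : W) : Equiv.Perm (Fin 693)) := by
    obtain ⟨x', hx', e⟩ := hm1.mem _ (iota_mem (spanL_gen List.mem_cons_self))
    obtain ⟨u, hu, rfl⟩ := hx'
    have hu' : u = 0 ∨ u = 7 := (show ∀ u ∈ spanL [7], u = 0 ∨ u = 7 by decide) u hu
    rcases hu' with rfl | rfl
    · rw [iota_zero, Subgroup.coe_one, eq_comm, conj_eq_one_iff] at e
      exact absurd (iota_inj (u := 7) (v := 0) (by norm_num) (by norm_num)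
        ((Subtype.ext e : iota 7 = 1).trans iota_zero.symm)) (by norm_num)
    · exact e.symm
  have hconj : m * ((iota (7 ^^^ msk 0) : W) : Equiv.Perm (Fin 693)) * m⁻¹ =
      ((iota (7 ^^^ msk 5) : W) : Equiv.Perm (Fin 693)) := by
    rw [iota_xor, iota_xor, iota_msk (by norm_num : 0 < 21), iota_msk (by norm_num : 5 < 21), Subgroup.coe_mul,
      Subgroup.coe_mul, ← hme, ← hm1.tv]
    conv_rhs => rw [← hm7]
    group
  refine seven_check.2.1 ?_
  rw [← fix_card, ← fix_card, ← hconj, ← Set.ncard_image_of_injective _ m.injective]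
  congr 1
  ext j
  simp only [Set.mem_image, Set.mem_ofPred_eq, Equiv.Perm.mul_apply]
  constructor
  · rintro ⟨i, hi, rfl⟩
    rw [show m⁻¹ (m i) = i from Equiv.symm_apply_apply _ _, hi]
  · intro hj
    exact ⟨m⁻¹ j, m.injective (hj.trans (Equiv.apply_symm_apply _ j).symm), Equiv.apply_symm_apply _ j⟩

theorem iota_seven : iota 7 = iota 3 * tv (pp 2) := by
  rw [← iota_msk (by norm_num : 2 < 21), ← iota_xor]
  rfl

theorem three_not_tv (j : Fin 693) : iota 3 ≠ tv j := by
  intro h
  have h1 := (isTv_tv j).2.2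
  rw [← h] at h1
  have h2 : (Finset.univ.filter fun i => ((iota 3 : W) : Equiv.Perm (Fin 693)) i = i).card ≤ pairFixed.length := by
    rw [← List.toFinset_card_of_nodup fixed_check.2.2.2.1]
    exact Finset.card_le_card_of_injOn Fin.val (fun i hi => by
      simp only [Finset.coe_filter, Finset.mem_univ, true_and, Set.mem_ofPred_eq] at hi
      simpa using (fixed_iff i).1 hi) Fin.val_injective.injOn
  rw [h1, fixed_check.2.2.1] at h2
  omega

/-- Every transvection of the group lies in the model. -/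
theorem Emb.class_mem [Finite G] (E : Emb φ) {d : G} (hd : TvClass φ d) : d ∈ φ.range := by
  by_contra hdM
  have hbot : IsPGroup 2 (⊥ : Subgroup W) := IsPGroup.of_bot
  obtain ⟨e, n, -, -, -, hor⟩ := E.step hbot hd (fun p hp => by
      rw [Subgroup.mem_bot.1 hp, map_one]; exact Commute.one_right d) hdM (w := iota 3)
    (Subgroup.mem_bot.2 (iota_sq 3)) (by rw [Subgroup.normalizer_eq_top]; exact Subgroup.mem_top _)
    (E.pair_root_safe.mono (mSub_le fun u hu => by
      rw [List.mem_singleton.1 hu]; exact Subgroup.mem_sup_right (Subgroup.mem_zpowers _)))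
  rcases hor with h | ⟨k, h1, h2, h3⟩
  · exact three_not_tv e ((mul_eq_one_iff_eq_inv.1 (Subgroup.mem_bot.1 h)).trans (tv_inv e))
  rw [Subgroup.mem_bot] at h1 h2
  set z := iota 3 * tv e with hzdef
  by_cases hfe : ((iota 3 : W) : Equiv.Perm (Fin 693)) e = e
  · have hz2 : z ^ 2 = 1 := by
      rw [sq, show z * z = iota 3 * (tv e * iota 3) * tv e by rw [hzdef]; group, ← (commute_of_fix hfe).eq,
        show iota 3 * (iota 3 * tv e) * tv e = (iota 3 * iota 3) * (tv e * tv e) by group, iota_sq, tv_sq, one_mul]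
    have hk : k = 0 := by
      by_contra hk
      obtain ⟨l, rfl⟩ := Nat.exists_eq_succ_of_ne_zero hk
      exact h1 (by rw [pow_succ', pow_mul, hz2, one_pow])
    subst hk
    rw [pow_zero, pow_one] at h3
    refine h3 ?_
    set K : Subgroup W := ⊥ ⊔ Subgroup.zpowers z
    have hzK : z ∈ K := Subgroup.mem_sup_right (Subgroup.mem_zpowers z)
    rcases triple_word ((fixed_iff e).1 hfe) with ⟨j, hj, rfl⟩ | ⟨g, ga, gb, gj⟩
    · have hj21 : j < 21 := (show ∀ j ∈ [0, 1, 6, 17, 18], j < 21 by decide) j hj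
      have hz' : iota (3 ^^^ msk j) ∈ K := by rw [iota_xor, iota_msk hj21]; exact hzK
      simp only [List.mem_cons, List.mem_nil_iff, or_false] at hj
      rcases hj with rfl | rfl | hj
      · rw [show 3 ^^^ msk 0 = msk 1 by decide +kernel, iota_msk (by norm_num)] at hz'
        exact E.safe_tv hz'
      · rw [show 3 ^^^ msk 1 = msk 0 by decide +kernel, iota_msk (by norm_num)] at hz'
        exact E.safe_tv hz'
      · obtain ⟨p, hp, hp2⟩ := List.any_eq_true.1
          (List.all_eq_true.1 line_masks.2.2.1 j (by simpa using hj))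
        obtain ⟨q, hq, hq2⟩ := List.any_eq_true.1 hp2
        rw [List.mem_range] at hp hq
        rw [Bool.and_eq_true, bne_iff_ne, beq_iff_eq] at hq2
        rw [← hq2.2, iota_xor, iota_msk hp, iota_msk hq] at hz'
        refine E.pair_safe ?_ (pp_ne hp hq hq2.1) hz'
        exact (commute_iff _ _).2 (by rw [← iota_msk hp]; exact iota_fix_pp _ hq)
    · refine E.seven_safe.of_conj g⁻¹ fun q hq => ?_
      refine (mSub_le (P := K.comap (MulAut.conj g⁻¹).toMonoidHom) fun u hu => ?_) hq
      rw [List.mem_singleton.1 hu, Subgroup.mem_comap, MulEquiv.coe_toMonoidHom, MulAut.conj_apply, inv_inv,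
        iota_seven, iota_three]
      conv => arg 2; rw [← ga, ← gb, ← gj, ← tv_conj, ← tv_conj, ← tv_conj]
      have : z = tv (pp 0) * tv (pp 1) * tv e := by rw [← iota_three]
      convert hzK using 1
      rw [this]
      group
  · set e' := ((iota 3 : W) : Equiv.Perm (Fin 693)) e
    have hz2 : z ^ 2 = tv e' * tv e := by
      rw [← tv_conj, inv_eq_of_mul_eq_one_right (iota_sq 3), sq, hzdef]
      group
    have hne : z ^ 2 ≠ 1 := fun h => hfe (by
      rw [hz2, mul_eq_one_iff_eq_inv, tv_inv] at h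
      exact tv_inj h)
    by_cases hc : Commute (tv e') (tv e)
    · have hz4 : z ^ 4 = 1 := by
        rw [show (4 : ℕ) = 2 * 2 from rfl, pow_mul, hz2, sq,
          show tv e' * tv e * (tv e' * tv e) = tv e' * (tv e * tv e') * tv e by group, ← hc.eq,
          show tv e' * (tv e' * tv e) * tv e = (tv e' * tv e') * (tv e * tv e) by group, tv_sq, tv_sq, one_mul]
      have hk : k ≤ 1 := by
        by_contra hk
        obtain ⟨l, rfl⟩ : ∃ l, k = l + 2 := ⟨k - 2, by omega⟩
        exact h1 (by rw [pow_add, mul_comm, pow_mul, show 2 ^ 2 = 4 from rfl, hz4, one_pow])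
      refine h3 (E.pair_safe hc (fun h => hne (by rw [hz2, h, tv_sq])) ?_)
      rw [← hz2]
      interval_cases k
      · rw [pow_zero, pow_one]
        exact pow_mem (Subgroup.mem_sup_right (Subgroup.mem_zpowers _)) 2
      · rw [pow_one]
        exact Subgroup.mem_sup_right (Subgroup.mem_zpowers _)
    · have h6 : (z ^ 2) ^ 3 = 1 := by rw [hz2]; exact tv_cube hc
      refine hne ?_
      have h4 : (z ^ 2) ^ (2 ^ k) = 1 := by
        rwa [pow_succ' 2 k, pow_mul] at h2
      refine orderOf_eq_one_iff.1 (Nat.eq_one_of_dvd_coprimes ?_ (orderOf_dvd_of_pow_eq_one h4)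
        (orderOf_dvd_of_pow_eq_one h6))
      exact Nat.Coprime.pow_left k (by norm_num)

end Cfsg.Lib.USixType.Model

namespace Cfsg.Lib.USixType

open Cfsg.Lib.USixType.Model

universe u

variable {G : Type u} [Group G] {φ : W →* G}

/-- An embedded model is normal as soon as it contains no conjugate of a transvection outside its transvections
in its normaliser, and the centraliser of a transvection normalises it. -/
theorem globalNormal [Finite G] (hinj : Function.Injective φ) {t : W} (ht : IsTv t)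
    (hC : Subgroup.centralizer ({φ t} : Set G) ≤ Subgroup.normalizer ((φ.range : Subgroup G) : Set G))
    (hF : ∀ g ∈ Subgroup.normalizer ((φ.range : Subgroup G) : Set G), IsConj (φ t) g → ∃ w : W, IsTv w ∧ g = φ w) :
    φ.range.Normal := by
  have E := emb_of_normal hinj ht hC hF
  refine Subgroup.normalizer_eq_top_iff.1 (eq_top_iff.2 fun g _ => E.back (j := 0) ?_)
  obtain ⟨x, hx⟩ := E.class_mem ((tvClass_tv 0).conj g)
  exact hx ▸ map_mem_Nm x

theorem globalGoal : GlobalGoal.{u} := by
  intro G _ _ φ hinj t ht hC hF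
  have E := emb_of_hyp hinj ht hC hF
  obtain ⟨i, rfl⟩ := isTv_iff.1 ht
  refine eq_top_iff.2 fun g _ => ?_
  obtain ⟨w, hw⟩ := E.class_mem ((tvClass_tv i).conj g)
  obtain ⟨j, rfl⟩ := E.nofus (φ w) (map_mem_Nm w) (hw.symm ▸ (tvClass_tv i).conj g) |>.imp fun j h => E.inj h
  obtain ⟨m, e⟩ := exists_move j i
  obtain ⟨x, hx⟩ := hC (show (φ m)⁻¹ * g ∈ Subgroup.centralizer ({φ (tv i)} : Set G) from
    Subgroup.mem_centralizer_singleton_iff.2 (by
      rw [← e, map_mul, map_mul, map_inv] at hw
      calc (φ m)⁻¹ * g * φ (tv i) = (φ m)⁻¹ * (g * φ (tv i) * g⁻¹) * g := by group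
        _ = φ (tv i) * ((φ m)⁻¹ * g) := by rw [← hw]; group))
  exact ⟨m * x, by rw [map_mul, hx]; group⟩

end Cfsg.Lib.USixType
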