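import Cfsg.Agent.USixType.Pair
import Cfsg.Agent.USixType.FrameMain
import Cfsg.Agent.USixType.Embed
import Cfsg.Agent.USixType.Global
import Cfsg.Agent.Known.Balance.SUFacts
import Cfsg.Agent.Leech.UnitarySix
import Cfsg.Agent.UFourThreeCover.Field

/-!
# The recognition for the natural module
-/

set_option autoImplicit false

namespace Cfsg.Lib.USixType

open Subgroup

universe u v

/-- The model is simple. -/
theorem model_simple : IsSimpleGroup ↥W := by
  obtain ⟨⟨e⟩, -⟩ := Cfsg.Lib.Leech.UnitarySix.unitary_equiv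
  haveI := Balance.su_quot_simple (n := 6) (q := 2) (k := PrimeGraph.KQuad) PrimeGraph.KQuad.card_eq (by norm_num)
    (by norm_num)
  exact e.isSimpleGroup

/-- The model is the projective unitary group over any field of four elements. -/
theorem model_psu (K : Type v) [Field K] [Fintype K] (hK : Fintype.card K = 4) :
    Nonempty (↥W ≃* Cfsg.PSU 6 K 2) := by
  obtain ⟨⟨e⟩, -⟩ := Cfsg.Lib.Leech.UnitarySix.unitary_equiv
  obtain ⟨f⟩ := UFourThreeCover.psu_congr
    (FiniteField.ringEquivOfCardEq (K := PrimeGraph.KQuad) (K' := K) (PrimeGraph.KQuad.card_eq.trans hK.symm)) 6 2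
  exact ⟨e.trans f⟩

/-- A group with the natural setting and two commuting conjugates of the involution is the model. -/
theorem coreGoal : CoreGoal.{u} := by
  intro G _ _ z J S hg
  obtain ⟨c⟩ := exists_coord S
  obtain ⟨F⟩ := frameGoal pairGoal c hg
  obtain ⟨φ, hinj, t, ht, htz, hC, hF⟩ := embedGoal c F
  subst htz
  have htop := globalGoal φ hinj t ht hC hF
  let e : ↥W ≃* G := MulEquiv.ofBijective φ ⟨hinj, MonoidHom.range_eq_top.1 htop⟩
  refine ⟨⟨e.symm⟩, ?_⟩
  haveI := model_simple
  rw [eq_bot_iff]
  intro g hg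
  have hc : center ↥W = ⊥ := by
    refine ((Subgroup.instNormalCenter).eq_bot_or_eq_top).resolve_right fun htop' => ?_
    obtain ⟨g, hg1, hg2⟩ := ‹∃ g : G, Commute (g * φ t * g⁻¹) (φ t) ∧ g * φ t * g⁻¹ ≠ φ t›
    refine hg2 ?_
    have : e.symm g ∈ center ↥W := htop' ▸ mem_top _
    have h := congrArg e (mem_center_iff.1 this t)
    simp only [map_mul, MulEquiv.apply_symm_apply] at h
    rw [show e t = φ t from rfl] at h
    rw [← h, mul_inv_cancel_right]
  have : e.symm g ∈ center ↥W := mem_center_iff.2 fun w => e.injective (by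
    simp only [map_mul, MulEquiv.apply_symm_apply]
    exact mem_center_iff.1 hg (e w))
  rw [hc, mem_bot] at this
  simpa using congrArg e this

end Cfsg.Lib.USixType
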