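import Cfsg.Agent.USixType.Embed
import Cfsg.Agent.USixType.Global
import Cfsg.Agent.USixType.FrameMain

/-!
# The recognition from the facts on commuting pairs
-/

set_option autoImplicit false
set_option Elab.async false

namespace Cfsg.Lib.USixType

open Subgroup

universe u

theorem center_model : Subgroup.center W = ⊥ := by
  refine eq_bot_iff.2 fun w hw => Subgroup.mem_bot.2 (Subtype.ext (Equiv.ext fun j => ?_))
  have e := Model.tv_conj w j
  rw [← Subgroup.mem_center_iff.1 hw (Model.tv j), mul_inv_cancel_right] at e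
  exact (Model.tv_inj e).symm

/-- The recognition, given the facts on pairs. -/
theorem coreGoal_of_pair (hP : PairGoal.{u}) : CoreGoal.{u} := by
  intro G _ _ z J S hg
  obtain ⟨c⟩ := exists_coord S
  obtain ⟨F⟩ := frameGoal hP c hg
  obtain ⟨φ, hinj, t, ht, rfl, hC, hfus⟩ := embedGoal c F
  have htop := globalGoal φ hinj t ht hC hfus
  let e : G ≃* W := (MulEquiv.ofBijective φ ⟨hinj, MonoidHom.range_eq_top.1 htop⟩).symm
  refine ⟨⟨e⟩, eq_bot_iff.2 fun g hg => Subgroup.mem_bot.2 ?_⟩
  have : e g ∈ Subgroup.center W := Subgroup.mem_center_iff.2 fun w => by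
    obtain ⟨k, rfl⟩ := e.surjective w
    rw [← map_mul, ← map_mul, Subgroup.mem_center_iff.1 hg k]
  rw [center_model, Subgroup.mem_bot] at this
  exact e.injective (this.trans (map_one e).symm)

end Cfsg.Lib.USixType
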