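import Cfsg.Agent.USixType.Facts

/-!
# Finite facts used for the frame

Lines of the geometry of the forty-five points and the relations among the isotropic vectors.
-/

set_option autoImplicit false
set_option Elab.async false
set_option maxRecDepth 100000

namespace Cfsg.Lib.USixType

/-- Orthogonality of centres. -/
def orth (i j : Fin 45) : Bool := h (ctr i) (ctr j) == 0

theorem orth_iff (i j : Fin 45) : orth i j = true ↔ h (ctr i) (ctr j) = 0 := beq_iff_eq

theorem orth_self (i : Fin 45) : orth i i = true := (orth_iff i i).2 (ctr_iso i).1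

theorem orth_symm : ∀ i j : Fin 45, orth i j = orth j i := by decide +kernel

theorem exists_far : ∀ i : Fin 45, ∃ p : Fin 45, orth p i = false := by decide +kernel

theorem exists_between : ∀ a c : Fin 45, ∃ k : Fin 45, k ≠ a ∧ k ≠ c ∧ orth k a = true ∧ orth k c = true := by
  decide +kernel

theorem line_facts : ((List.finRange 45).all fun a => (List.finRange 45).all fun b => (a == b) || !orth a b ||
    let L := (List.finRange 45).filter fun k => orth k a && orth k b
    L.length == 5 && (List.finRange 45).all fun p => orth p a || (L.filter fun k => orth k p).length == 1) = true := by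
  decide +kernel

theorem line_five {a b : Fin 45} (hab : a ≠ b) (ho : orth a b = true) :
    (Finset.univ.filter fun k => orth k a = true ∧ orth k b = true).card = 5 := by
  have := List.all_eq_true.1 (List.all_eq_true.1 line_facts a (List.mem_finRange a)) b (List.mem_finRange b)
  simp only [Bool.or_eq_true, Bool.not_eq_true', beq_iff_eq, hab, ho, Bool.and_eq_true, false_or,
    Bool.true_eq_false] at this
  rw [← this.1, ← List.toFinset_card_of_nodup ((List.nodup_finRange 45).filter _)]
  congr 1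
  ext k
  simp

theorem line_one {a b p : Fin 45} (hab : a ≠ b) (ho : orth a b = true) (hp : orth p a = false) :
    ∃! k, orth k a = true ∧ orth k b = true ∧ orth k p = true := by
  have := List.all_eq_true.1 (List.all_eq_true.1 line_facts a (List.mem_finRange a)) b (List.mem_finRange b)
  simp only [Bool.or_eq_true, Bool.not_eq_true', beq_iff_eq, hab, ho, Bool.and_eq_true, false_or,
    Bool.true_eq_false, List.all_eq_true] at this
  obtain ⟨k, hk⟩ := List.length_eq_one_iff.1 ((this.2 p (List.mem_finRange p)).resolve_left (by simp [hp]))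
  have hm : ∀ j, orth j a = true ∧ orth j b = true ∧ orth j p = true ↔ j = k := fun j => by
    have := List.mem_singleton (a := j) (b := k)
    rw [← hk] at this
    simpa [and_assoc, and_comm, and_left_comm] using this
  exact ⟨k, (hm k).2 rfl, fun j hj => (hm j).1 hj⟩

theorem third_point : ∀ a b : Fin 45, orth a b = false →
    pidx (tv (ctr a) (ctr b)) = pidx (tv (ctr b) (ctr a)) ∧ orth (pidx (tv (ctr a) (ctr b))) b = false := by
  decide +kernel

theorem shift_line : ∀ i : Fin 45, ∀ v : Fin 256, onLine (ctr i) (tv (ctr i) ⟨v⟩ + ⟨v⟩) = true := by decide +kernel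

theorem shift_onto : ∀ i : Fin 45, ∀ l : Fin 4, ∃ v : Fin 256,
    tv (ctr i) ⟨v⟩ + ⟨v⟩ = sm l.val (ctr i) := by decide +kernel

theorem sm_line : ∀ i : Fin 45, ∀ l : Fin 4, onLine (ctr i) (sm l.val (ctr i)) = true ∧
    ∀ k : Fin 4, sm l.val (ctr i) = sm k.val (ctr i) → l = k := by decide +kernel

theorem line_pidx : ∀ i : Fin 45, ∀ v : Fin 256, onLine (ctr i) ⟨v⟩ = true → (⟨v⟩ : Vt) ≠ 0 →
    h ⟨v⟩ ⟨v⟩ = 0 ∧ pidx ⟨v⟩ = i := by decide +kernel

theorem pidx_line : ∀ v : Fin 256, (⟨v⟩ : Vt) ≠ 0 → h ⟨v⟩ ⟨v⟩ = 0 →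
    onLine (ctr (pidx ⟨v⟩)) ⟨v⟩ = true ∧ h ⟨v⟩ (ctr (pidx ⟨v⟩)) = 0 := by decide +kernel

theorem onLine_add : ∀ i : Fin 45, ∀ l k : Fin 4,
    onLine (ctr i) (sm l.val (ctr i) + sm k.val (ctr i)) = true := by decide +kernel

theorem orth_line : ∀ i : Fin 45, ∀ v : Fin 256, onLine (ctr i) ⟨v⟩ = true → h ⟨v⟩ (ctr i) = 0 := by decide +kernel

theorem tv_fix_iff : ∀ i : Fin 45, ∀ v : Fin 256, tv (ctr i) ⟨v⟩ = ⟨v⟩ ↔ h ⟨v⟩ (ctr i) = 0 := by decide +kernel

theorem phi_shift : ∀ i : Fin 45, ∀ v : Fin 256, h ⟨v⟩ (ctr i) ≠ 0 →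
    phi ⟨v⟩ (tv (ctr i) ⟨v⟩ + ⟨v⟩) = true ∧ tv (ctr i) ⟨v⟩ + ⟨v⟩ ≠ 0 := by decide +kernel

theorem no_common : ∀ v : Fin 256, (∀ i : Fin 45, h ⟨v⟩ (ctr i) = 0) → (⟨v⟩ : Vt) = 0 := by decide +kernel

/-- Eight isotropic vectors forming a basis. -/
def isoSeed : List ℕ := [250, 132, 219, 151, 249, 102, 253, 17]

/-- The dual vectors. -/
def isoDual : List ℕ := [34, 115, 144, 55, 126, 132, 200, 19]

/-- The sum of the dual vectors of a set of indices. -/
def dualSum (f : Fin 256) : Vt :=
  ((List.finRange 8).filter fun k => f.val.testBit k.val).foldr (fun k r => vt (isoDual.getD k.val 0) + r) 0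

theorem dual_spec : ∀ f : Fin 256, ∀ k : Fin 8,
    B (vt (isoSeed.getD k.val 0)) (dualSum f) = f.val.testBit k.val := by decide +kernel

/-- Sums generating the isotropic vectors, with witnesses. -/
def isoSteps : List (ℕ × ℕ × ℕ) :=
  [(17, 102, 9), (17, 132, 5), (102, 219, 49), (102, 249, 15), (132, 151, 4), (132, 219, 5), (132, 249, 6),
   (132, 250, 7), (151, 219, 3), (151, 250, 13), (151, 253, 10), (219, 250, 8), (17, 76, 13), (17, 106, 13),
   (19, 33, 0), (19, 159, 3), (19, 219, 3), (19, 250, 7), (33, 132, 5), (33, 140, 13), (33, 151, 13), (33, 159, 9),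
   (76, 125, 12), (76, 149, 14), (76, 249, 15), (95, 123, 3), (102, 109, 32), (102, 182, 2), (106, 126, 2),
   (106, 140, 13), (106, 181, 19), (106, 208, 19), (106, 233, 8), (119, 126, 48), (119, 151, 3), (119, 173, 10),
   (119, 181, 4), (119, 233, 18), (125, 190, 12), (125, 218, 7), (125, 224, 34), (125, 230, 19), (132, 167, 4),
   (132, 218, 7), (149, 159, 16), (149, 189, 1), (149, 194, 14), (149, 224, 35), (159, 167, 3), (159, 224, 34),
   (9, 167, 17), (9, 190, 17), (9, 249, 1), (10, 95, 34), (10, 106, 2), (10, 165, 18), (10, 181, 34), (10, 186, 2),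
   (10, 223, 34), (10, 224, 34), (11, 93, 35), (11, 96, 35), (11, 123, 3), (11, 125, 19), (11, 155, 3), (11, 157, 35),
   (11, 173, 51), (11, 176, 51), (11, 224, 35), (11, 230, 19), (11, 240, 51), (11, 253, 19), (17, 85, 1), (17, 127, 9),
   (17, 187, 5), (17, 213, 1), (17, 230, 9), (19, 118, 15), (19, 155, 3), (19, 186, 7), (19, 196, 7), (19, 223, 3),
   (19, 237, 7), (19, 246, 15), (20, 40, 0), (20, 85, 4), (20, 86, 4), (20, 87, 4), (20, 125, 7), (20, 149, 4),
   (20, 150, 4), (20, 191, 6), (20, 194, 6), (20, 213, 4), (20, 235, 5), (33, 105, 1), (35, 49, 0), (35, 68, 7),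
   (35, 76, 15), (35, 196, 7), (35, 204, 15), (35, 214, 15), (35, 253, 7), (36, 56, 0), (36, 93, 7), (36, 94, 5),
   (36, 157, 7), (36, 249, 6), (49, 107, 5), (49, 171, 5), (50, 105, 6), (76, 110, 12), (76, 127, 12), (87, 247, 3),
   (102, 107, 32), (102, 136, 9), (102, 255, 9), (106, 111, 32), (109, 117, 1), (117, 122, 48), (119, 121, 48),
   (123, 125, 48), (131, 175, 3), (131, 183, 3), (140, 213, 14), (165, 245, 1), (208, 215, 16)]

/-- A step is sound. -/
def stepOK (s : ℕ × ℕ × ℕ) : Bool :=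
  let u := vt s.1; let w := vt s.2.1; let q := vt s.2.2
  h u u == 0 && h w w == 0 && h u w == 0 && phi u w == false && !(u == 0) && !(w == 0) && !(u + w == 0) &&
    h (u + w) (u + w) == 0 &&
    (pidx u == pidx w && pidx u == pidx (u + w) ||
      !(pidx u == pidx w) && !(pidx u == pidx (u + w)) && !(pidx w == pidx (u + w)) &&
      orth (pidx u) (pidx w) && orth (pidx u) (pidx (u + w)) && orth (pidx w) (pidx (u + w)) &&
      h q (ctr (pidx (u + w))) == 0 && tv (ctr (pidx u)) q + q == u && tv (ctr (pidx w)) q + q == w &&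
      h u (ctr (pidx w)) == 0)

theorem steps_ok : isoSteps.all stepOK = true := by decide +kernel

/-- The vectors reached. -/
def reach (L : List ℕ) : List (ℕ × ℕ × ℕ) → Option (List ℕ)
  | [] => some L
  | s :: r => if L.contains s.1 && L.contains s.2.1 then reach ((s.1 ^^^ s.2.1) :: L) r else none

theorem reach_all : ((reach isoSeed isoSteps).any fun L => (List.finRange 256).all fun v =>
    (v.val == 0) || !(h ⟨v⟩ ⟨v⟩ == 0) || L.contains v.val) = true := by decide +kernel

theorem reach_induct {P : ℕ → Prop} : ∀ {S : List (ℕ × ℕ × ℕ)} {L M : List ℕ}, reach L S = some M →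
    (∀ x ∈ L, P x) → (∀ s ∈ S, P s.1 → P s.2.1 → P (s.1 ^^^ s.2.1)) → ∀ x ∈ M, P x
  | [], L, M, e, hL, _ => by
    simp only [reach, Option.some.injEq] at e
    exact e ▸ hL
  | s :: r, L, M, e, hL, hS => by
    simp only [reach] at e
    split at e
    · rename_i hc
      simp only [Bool.and_eq_true, List.contains_iff_mem] at hc
      refine reach_induct e ?_ fun t ht => hS t (List.mem_cons_of_mem s ht)
      intro x hx
      rcases List.mem_cons.1 hx with rfl | hx
      · exact hS s List.mem_cons_self (hL _ hc.1) (hL _ hc.2)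
      · exact hL x hx
    · cases e

theorem iso_induct {P : Vt → Prop} (hseed : ∀ k : Fin 8, P (vt (isoSeed.getD k.val 0)))
    (hstep : ∀ s ∈ isoSteps, P (vt s.1) → P (vt s.2.1) → P (vt s.1 + vt s.2.1)) {v : Vt} (hv : v ≠ 0)
    (hh : h v v = 0) : P v := by
  obtain ⟨L, hL, hall⟩ : ∃ L, reach isoSeed isoSteps = some L ∧ ((List.finRange 256).all fun v =>
      (v.val == 0) || !(h ⟨v⟩ ⟨v⟩ == 0) || L.contains v.val) = true := by
    have := reach_all
    cases e : reach isoSeed isoSteps with
    | none => rw [e] at this; cases this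
    | some L => rw [e] at this; exact ⟨L, rfl, this⟩
  have hlt : ∀ x ∈ L, P (vt x) := reach_induct (P := fun x => P (vt x)) hL (fun x hx => by
      obtain ⟨n, hn, rfl⟩ := List.getElem_of_mem hx
      have := hseed ⟨n, hn⟩
      rwa [List.getD_eq_getElem _ _ hn] at this) fun s hs hu hw => by
    have e : vt (s.1 ^^^ s.2.1) = vt s.1 + vt s.2.1 := Vt.ext' (by
      show (s.1 ^^^ s.2.1) % 2 ^ 8 = (s.1 % 2 ^ 8) ^^^ (s.2.1 % 2 ^ 8)
      exact Nat.xor_mod_two_pow)
    rw [e]
    exact hstep s hs hu hw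
  have := List.all_eq_true.1 hall v.code (List.mem_finRange _)
  simp only [Bool.or_eq_true, beq_iff_eq, Bool.not_eq_true', List.contains_iff_mem] at this
  rcases this with (e | e) | e
  · exact absurd (Vt.ext' e) hv
  · rw [show (⟨v.code⟩ : Vt) = v from rfl, hh] at e
    simp at e
  · have := hlt _ e
    rwa [show vt v.code.val = v from Vt.ext' (Nat.mod_eq_of_lt v.code.isLt)] at this

end Cfsg.Lib.USixType
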