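import Cfsg.Agent.USixType.Api

/-!
# The steps of the recognition

`PairFacts` is what a pair of commuting transvections satisfies, `Frame` is the rigid frame from which the model is built.
-/

set_option autoImplicit false
set_option Elab.async false

namespace Cfsg.Lib.USixType

universe u

variable {G : Type u} [Group G] {z : G} {J : Subgroup G}

/-- A conjugate `g z g⁻¹` commuting with `z` is a transvection with centre `j` in the coordinates at `z`. -/
structure PairFacts (c : Coord z J) (g : G) (j : Fin 45) : Prop where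
  π_eq : c.π (g * z * g⁻¹) = tvP j
  fix_comm : ∀ q ∈ J, h (c.β q) (ctr j) = 0 → Commute (g * z * g⁻¹) q
  coset : ∀ k : G, Commute (k * z * k⁻¹) z → k * z * k⁻¹ ≠ z → c.π (k * z * k⁻¹) = tvP j →
    ∃ q ∈ J, k * z * k⁻¹ = q⁻¹ * (g * z * g⁻¹) * q
  not_zmul : ¬ IsConj z (z * (g * z * g⁻¹))
  inter_mem : ∀ q ∈ J, q⁻¹ * (g * z * g⁻¹) * q ≠ g * z * g⁻¹ →
    z * (g * z * g⁻¹ * (q⁻¹ * (g * z * g⁻¹) * q)) ∈ J.map (MulAut.conj g).toMonoidHom
  inter_line : ∀ q ∈ J, q ∈ J.map (MulAut.conj g).toMonoidHom → onLine (ctr j) (c.β q) = true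

/-- Every commuting pair is a pair of transvections. -/
def PairGoal : Prop := ∀ {G : Type u} [Group G] [Finite G] {z : G} {J : Subgroup G} (c : Coord z J) (g : G),
  Commute (g * z * g⁻¹) z → g * z * g⁻¹ ≠ z → ∃ j, PairFacts c g j

/-- A transvection not commuting with the centre, the complement it determines and the equivariant section. -/
structure Frame (c : Coord z J) where
  /-- The transvection not commuting with the centre. -/
  y : G
  /-- The transvections of the complement. -/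
  x : Fin 45 → G
  /-- The section. -/
  s : Vt → G
  y_conj : IsConj z y
  x_conj : ∀ i, IsConj z (x i)
  x_z : ∀ i, Commute (x i) z
  x_y : ∀ i, Commute (x i) y
  π_x : ∀ i, c.π (x i) = tvP i
  x_x : ∀ i j, x i * x j * x i = x (act45 (tvP i) j)
  s_mem : ∀ v, s v ∈ J
  s_β : ∀ v, c.β (s v) = v
  s_mul : ∀ u v, s u * s v = s (u + v) * zp z (phi u v)
  x_act : ∀ i v, x i * s v * x i = s (tv (ctr i) v)
  cover : ∀ d, IsConj z d → Commute d z → d ≠ z → ∃ i v, d = (s v)⁻¹ * x i * s v
  free : ∀ q ∈ J, Commute q y → q = 1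
  y_z : y * z * y = z * y * z
  y_x : ∀ i v, h v (ctr i) ≠ 0 →
    y * ((s v)⁻¹ * x i * s v) * y = (s v)⁻¹ * x i * s v * y * ((s v)⁻¹ * x i * s v)
  y_s : ∀ v, h v v = 0 → Commute y ((s v)⁻¹ * y * s v)

/-- A frame exists. -/
def FrameGoal : Prop := PairGoal.{u} → ∀ {G : Type u} [Group G] [Finite G] {z : G} {J : Subgroup G} (c : Coord z J),
  (∃ g : G, Commute (g * z * g⁻¹) z ∧ g * z * g⁻¹ ≠ z) → Nonempty (Frame c)

/-- The model inside the group. -/
def EmbedGoal : Prop := ∀ {G : Type u} [Group G] [Finite G] {z : G} {J : Subgroup G} (c : Coord z J), Frame c →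
  ∃ φ : W →* G, Function.Injective φ ∧ ∃ t : W, IsTv t ∧ φ t = z ∧
    Subgroup.centralizer ({z} : Set G) ≤ φ.range ∧ ∀ w : W, IsConj z (φ w) → IsTv w

end Cfsg.Lib.USixType
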