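import Cfsg.Agent.USixType.Weak
import Cfsg.Agent.USixType.Steps
import Cfsg.Agent.USixType.FrameFacts

/-!
# Commuting conjugates seen as members of the forty-five classes
-/

set_option autoImplicit false
set_option Elab.async false
set_option linter.unusedSectionVars false

namespace Cfsg.Lib.USixType

open Subgroup

universe u

variable {G : Type u} [Group G] {z : G} {J : Subgroup G}

/-- An element of the core of a conjugate. -/
def Kc (z : G) (J : Subgroup G) (d q : G) : Prop := ∃ g, g * z * g⁻¹ = d ∧ g⁻¹ * q * g ∈ J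

/-- A commuting conjugate with a given centre. -/
structure Mem (c : Coord z J) (i : Fin 45) (d : G) : Prop where
  conj : IsConj z d
  comm : Commute d z
  ne : d ≠ z
  π : c.π d = tvP i

theorem tvP_ne_one (i : Fin 45) : tvP i ≠ 1 := fun e => by
  obtain ⟨p, hp⟩ := exists_far i
  have := (commute_iff i p).1 (by rw [e, one_mul, mul_one])
  rcases this with rfl | h
  · rw [orth_self] at hp; cases hp
  · rw [orth_symm, (orth_iff i p).2 h] at hp; cases hp

theorem tvP_inv (i : Fin 45) : (tvP i)⁻¹ = tvP i := inv_eq_of_mul_eq_one_left (tvP_sq i)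

namespace Coord

variable (c : Coord z J)
include c

theorem Kc_spec {g d q : G} (hg : g * z * g⁻¹ = d) (hq : Kc z J d q) : g⁻¹ * q * g ∈ J := by
  obtain ⟨f, hf, hfq⟩ := hq
  have hh : Commute (g⁻¹ * f) z := by
    show g⁻¹ * f * z = z * (g⁻¹ * f)
    calc g⁻¹ * f * z = g⁻¹ * (f * z * f⁻¹) * f := by group
      _ = g⁻¹ * (g * z * g⁻¹) * f := by rw [hf, hg]
      _ = z * (g⁻¹ * f) := by group
  have := c.norm _ hh _ hfq
  rwa [show g⁻¹ * f * (f⁻¹ * q * f) * (g⁻¹ * f)⁻¹ = g⁻¹ * q * g by group] at this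

theorem Kc_iff {g d q : G} (hg : g * z * g⁻¹ = d) :
    Kc z J d q ↔ q ∈ J.map (MulAut.conj g).toMonoidHom :=
  ⟨fun h => c.mem_conj.2 (c.Kc_spec hg h), fun h => ⟨g, hg, c.mem_conj.1 h⟩⟩

theorem Kc_self {q : G} : Kc z J z q ↔ q ∈ J := by
  refine (c.Kc_iff (g := 1) (by group)).trans ?_
  rw [c.mem_conj, inv_one, one_mul, mul_one]

theorem Kc_base {g e q : G} :
    Kc (g * z * g⁻¹) (J.map (MulAut.conj g).toMonoidHom) e q ↔ Kc z J e q := by
  constructor
  · rintro ⟨f, hf, hq⟩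
    refine ⟨f * g, by rw [← hf]; group, ?_⟩
    have := c.mem_conj.1 hq
    rwa [show (f * g)⁻¹ * q * (f * g) = g⁻¹ * (f⁻¹ * q * f) * g by group]
  · rintro ⟨f, hf, hq⟩
    refine ⟨f * g⁻¹, by rw [← hf]; group, c.mem_conj.2 ?_⟩
    rwa [show g⁻¹ * ((f * g⁻¹)⁻¹ * q * (f * g⁻¹)) * g = f⁻¹ * q * f by group]

theorem Kc_mul {d p q : G} (hp : Kc z J d p) (hq : Kc z J d q) : Kc z J d (p * q) := by
  obtain ⟨g, hg, hp⟩ := hp
  exact ⟨g, hg, by
    rw [show g⁻¹ * (p * q) * g = g⁻¹ * p * g * (g⁻¹ * q * g) by group]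
    exact mul_mem hp (c.Kc_spec hg hq)⟩

theorem Kc_inv {d q : G} (hq : Kc z J d q) : Kc z J d q⁻¹ := by
  obtain ⟨g, hg, hq⟩ := hq
  exact ⟨g, hg, by rw [show g⁻¹ * q⁻¹ * g = (g⁻¹ * q * g)⁻¹ by group]; exact inv_mem hq⟩

theorem Kc_one {d : G} (hd : IsConj z d) : Kc z J d 1 := by
  obtain ⟨g, hg⟩ := isConj_iff.1 hd
  exact ⟨g, hg, by rw [mul_one, inv_mul_cancel]; exact one_mem J⟩

theorem Kc_top {d : G} (hd : IsConj z d) : Kc z J d d := by
  obtain ⟨g, hg⟩ := isConj_iff.1 hd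
  exact ⟨g, hg, by rw [← hg, show g⁻¹ * (g * z * g⁻¹) * g = z by group]; exact c.mem⟩

theorem Kc_conj {d q : G} (h : G) (hq : Kc z J d q) : Kc z J (h * d * h⁻¹) (h * q * h⁻¹) := by
  obtain ⟨g, hg, hq⟩ := hq
  exact ⟨h * g, by rw [← hg]; group, by rwa [show (h * g)⁻¹ * (h * q * h⁻¹) * (h * g) = g⁻¹ * q * g by group]⟩

theorem Kc_comm {d q : G} (hq : Kc z J d q) : Commute q d := by
  obtain ⟨g, hg, hq⟩ := hq
  have := (c.le _ hq).map (MulAut.conj g).toMonoidHom
  simp only [MulEquiv.coe_toMonoidHom, MulAut.conj_apply, hg] at this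
  rwa [show g * (g⁻¹ * q * g) * g⁻¹ = q by group] at this

theorem sq_conj {d : G} (hd : IsConj z d) : d * d = 1 := by
  obtain ⟨g, rfl⟩ := isConj_iff.1 hd
  rw [show g * z * g⁻¹ * (g * z * g⁻¹) = g * (z * z) * g⁻¹ by group, c.z_sq]; group

theorem inv_conj {d : G} (hd : IsConj z d) : d⁻¹ = d := inv_eq_of_mul_eq_one_left (c.sq_conj hd)

omit c in
theorem flip_comm {a b : G} (h : Commute a b) (ha : a * a = 1) : a * b * a = b := by
  rw [h.eq, mul_assoc, ha, mul_one]

theorem exists_facts (hP : PairGoal.{u}) [Finite G] {d : G} (hd : IsConj z d) (hz : Commute d z) (hne : d ≠ z) :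
    ∃ g j, g * z * g⁻¹ = d ∧ PairFacts c g j := by
  obtain ⟨g, rfl⟩ := isConj_iff.1 hd
  obtain ⟨j, hj⟩ := hP c g hz hne
  exact ⟨g, j, rfl, hj⟩

theorem exists_mem (hP : PairGoal.{u}) [Finite G] {d : G} (hd : IsConj z d) (hz : Commute d z) (hne : d ≠ z) :
    ∃ i, Mem c i d := by
  obtain ⟨g, j, rfl, hj⟩ := c.exists_facts hP hd hz hne
  exact ⟨j, hd, hz, hne, hj.π_eq⟩

end Coord

namespace Mem

variable [Finite G] {c : Coord z J} {i : Fin 45} {d : G} (M : Mem c i d)
include M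

omit [Finite G] in
theorem index_unique {j : Fin 45} (M' : Mem c j d) : i = j := tvP_inj (M.π.symm.trans M'.π)

omit [Finite G] in
theorem notMem : d ∉ J := fun h => tvP_ne_one i (M.π.symm.trans (c.π_of_mem h))

omit [Finite G] in
theorem sq : d * d = 1 := c.sq_conj M.conj

omit [Finite G] in
theorem inv : d⁻¹ = d := c.inv_conj M.conj

omit [Finite G] in
theorem conj_mem {q : G} (hq : q ∈ J) : Mem c i (q⁻¹ * d * q) where
  conj := M.conj.trans (isConj_iff.2 ⟨q⁻¹, by rw [inv_inv]⟩)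
  comm := ((c.le q hq).inv_left.mul_left M.comm).mul_left (c.le q hq)
  ne e := M.ne (by
    rw [show d = q * (q⁻¹ * d * q) * q⁻¹ by group, e, (c.le q hq).eq, mul_inv_cancel_right])
  π := by
    have h1 := c.le q hq
    rw [c.π_mul _ _ (h1.inv_left.mul_left M.comm) h1, c.π_mul _ _ h1.inv_left M.comm, c.π_of_mem hq,
      c.π_of_mem (inv_mem hq), one_mul, mul_one, M.π]

omit [Finite G] in
theorem conj_act {h : G} (hh : Commute h z) : Mem c (act45 (c.π h) i) (h * d * h⁻¹) where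
  conj := M.conj.trans (isConj_iff.2 ⟨h, rfl⟩)
  comm := (hh.mul_left M.comm).mul_left hh.inv_left
  ne e := M.ne (by
    rw [show d = h⁻¹ * (h * d * h⁻¹) * h by group, e, mul_assoc, ← hh.eq, inv_mul_cancel_left])
  π := by
    rw [c.π_mul _ _ (hh.mul_left M.comm) hh.inv_left, c.π_mul _ _ hh M.comm, c.π_inv hh, M.π,
      conj_tvP (c.π_mem h hh)]

omit [Finite G] in
theorem shift {q : G} (hq : q ∈ J) : d * (q⁻¹ * d * q) ∈ J ∧
    c.β (d * (q⁻¹ * d * q)) = tv (ctr i) (c.β q) + c.β q := by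
  have hm := c.norm d M.comm q⁻¹ (inv_mem hq)
  have e : d * (q⁻¹ * d * q) = d * q⁻¹ * d⁻¹ * q := by rw [M.inv]; group
  rw [e]
  refine ⟨mul_mem hm hq, ?_⟩
  rw [c.β_mul _ hm q hq, c.equiv d M.comm _ (inv_mem hq), c.β_inv hq, M.π, tvP_apply]

omit [Finite G] in
theorem same_mem {d' : G} (M' : Mem c i d') : d * d' ∈ J :=
  (c.π_ker _ (M.comm.mul_left M'.comm)).1 (by rw [c.π_mul _ _ M.comm M'.comm, M.π, M'.π, tvP_sq])

variable (hP : PairGoal.{u})
include hP

theorem facts : ∃ g, g * z * g⁻¹ = d ∧ PairFacts c g i := by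
  obtain ⟨g, j, hg, hj⟩ := c.exists_facts hP M.conj M.comm M.ne
  have : j = i := tvP_inj (by rw [← hj.π_eq, hg, M.π])
  exact ⟨g, hg, this ▸ hj⟩

theorem fix_comm {q : G} (hq : q ∈ J) (h0 : h (c.β q) (ctr i) = 0) : Commute d q := by
  obtain ⟨g, hg, hF⟩ := M.facts hP
  exact hg ▸ hF.fix_comm q hq h0

theorem coset {d' : G} (M' : Mem c i d') : ∃ q ∈ J, d' = q⁻¹ * d * q := by
  obtain ⟨g, hg, hF⟩ := M.facts hP
  obtain ⟨k, hk⟩ := isConj_iff.1 M'.conj
  have := hF.coset k (hk ▸ M'.comm) (hk ▸ M'.ne) (hk ▸ M'.π)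
  rwa [hk, hg] at this

theorem not_zmul : ¬ IsConj z (z * d) := by
  obtain ⟨g, hg, hF⟩ := M.facts hP
  exact hg ▸ hF.not_zmul

theorem inter_mem {q : G} (hq : q ∈ J) (hne : q⁻¹ * d * q ≠ d) : Kc z J d (z * (d * (q⁻¹ * d * q))) := by
  obtain ⟨g, hg, hF⟩ := M.facts hP
  subst hg
  exact (c.Kc_iff rfl).2 (hF.inter_mem q hq hne)

theorem inter_line {q : G} (hq : q ∈ J) (hK : Kc z J d q) : onLine (ctr i) (c.β q) = true := by
  obtain ⟨g, hg, hF⟩ := M.facts hP
  exact hF.inter_line q hq ((c.Kc_iff hg).1 hK)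

omit [Finite G] hP in
theorem z_notKc_of (hg : ∀ g, g * z * g⁻¹ = d → (c.map g).π z ≠ 1) : ¬ Kc z J d z := fun hK => by
  obtain ⟨g, hg'⟩ := isConj_iff.1 M.conj
  refine hg g hg' ((c.map g).π_of_mem ((c.Kc_iff hg').1 hK))

/-- The centre seen from a member. -/
theorem back {g : G} (hg : g * z * g⁻¹ = d) : ∃ a, Mem (c.map g) a z :=
  (c.map g).exists_mem hP (hg ▸ M.conj.symm) (hg ▸ M.comm.symm) (hg ▸ M.ne.symm)

theorem z_notKc : ¬ Kc z J d z := by
  refine M.z_notKc_of fun g hg => ?_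
  obtain ⟨a, Ma⟩ := M.back hP hg
  rw [Ma.π]
  exact tvP_ne_one a

/-- A member of a class is determined by the vector of its difference to another one. -/
theorem eq_of_shift {d' : G} (M' : Mem c i d') (e : c.β (d * d') = 0) : d' = d := by
  rcases (c.β_ker _ (M.same_mem M')).1 e with h | h
  · rw [eq_inv_of_mul_eq_one_right h, M.inv]
  · exfalso
    refine M.not_zmul hP ?_
    rw [← M.comm.eq, show d * z = d' by rw [← h, ← mul_assoc, M.sq, one_mul]]
    exact M'.conj

/-- Members with orthogonal or equal centres commute. -/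
theorem commute {j : Fin 45} {e : G} (N : Mem c j e) (ho : orth i j = true) : Commute d e := by
  by_cases hij : i = j
  · subst hij
    obtain ⟨q, hq, rfl⟩ := M.coset hP N
    obtain ⟨hm, hb⟩ := M.shift hq
    have hc := M.fix_comm hP hm (by rw [hb]; exact orth_line i _ (shift_line i (c.β q).code))
    have := (Commute.refl d).mul_right hc
    rwa [← mul_assoc, M.sq, one_mul] at this
  · have hc : c.π (e * d * e) = tvP i := by
      rw [c.π_mul _ _ (N.comm.mul_left M.comm) N.comm, c.π_mul _ _ N.comm M.comm, M.π, N.π,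
        ← (commute_iff i j).2 (Or.inr ((orth_iff i j).1 ho)), mul_assoc, tvP_sq, mul_one]
    have hd : c.π (d * e * d) = tvP j := by
      rw [c.π_mul _ _ (M.comm.mul_left N.comm) M.comm, c.π_mul _ _ M.comm N.comm, M.π, N.π,
        (commute_iff i j).2 (Or.inr ((orth_iff i j).1 ho)), mul_assoc, tvP_sq, mul_one]
    have M1 : Mem c i (e * d * e) := by
      refine ⟨M.conj.trans (isConj_iff.2 ⟨e, by rw [N.inv]⟩), (N.comm.mul_left M.comm).mul_left N.comm, fun k => ?_,
        hc⟩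
      exact tvP_ne_one i ((hc.symm.trans (congrArg c.π k)).trans (c.π_of_mem c.mem))
    have N1 : Mem c j (d * e * d) := by
      refine ⟨N.conj.trans (isConj_iff.2 ⟨d, by rw [M.inv]⟩), (M.comm.mul_left N.comm).mul_left M.comm, fun k => ?_,
        hd⟩
      exact tvP_ne_one j ((hd.symm.trans (congrArg c.π k)).trans (c.π_of_mem c.mem))
    have line : ∀ {a : Fin 45} {x x' : G}, Mem c a x → Mem c a x' → onLine (ctr a) (c.β (x * x')) = true := by
      intro a x x' A A'
      obtain ⟨q, hq, rfl⟩ := A.coset hP A'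
      rw [(A.shift hq).2]
      exact shift_line a (c.β q).code
    have l1 := line M M1
    have l2 := line N N1
    rw [show e * (d * e * d) = (d * (e * d * e))⁻¹ by rw [mul_inv_rev, mul_inv_rev, mul_inv_rev, M.inv, N.inv]; group,
      c.β_inv (M.same_mem M1)] at l2
    have h0 : c.β (d * (e * d * e)) = 0 := by
      by_contra hne
      exact hij ((line_pidx i _ l1 hne).2.symm.trans (line_pidx j _ l2 hne).2)
    have := M.eq_of_shift hP M1 h0
    show d * e = e * d
    calc d * e = e * d * e * e := by rw [this]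
      _ = e * d := by rw [mul_assoc, N.sq, mul_one]

omit hP [Finite G] in
theorem orth_of_commute {j : Fin 45} {e : G} (N : Mem c j e) (hc : Commute d e) : orth i j = true := by
  rcases (commute_iff i j).1 (by rw [← M.π, ← N.π, ← c.π_mul _ _ M.comm N.comm, ← c.π_mul _ _ N.comm M.comm, hc.eq])
    with rfl | h
  · exact orth_self i
  · exact (orth_iff i j).2 h

/-- Members which do not commute satisfy the braid relation. -/
theorem braid {j : Fin 45} {e : G} (N : Mem c j e) (hn : ¬ Commute d e) : e * d * e = d * e * d := by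
  have ho : orth i j = false := Bool.eq_false_iff.2 fun h => hn (M.commute hP N h)
  obtain ⟨hsym, hfar⟩ := third_point i j ho
  set k := pidx (tv (ctr i) (ctr j))
  have act : ∀ a b : Fin 45, act45 (tvP a) b = pidx (tv (ctr a) (ctr b)) := fun a b => rfl
  have A : Mem c k (d * e * d) := by
    have := N.conj_act M.comm
    rwa [M.π, M.inv, act] at this
  have A' : Mem c k (e * d * e) := by
    have := M.conj_act N.comm
    rwa [N.π, N.inv, act, ← hsym] at this
  set w := d * e * d * (e * d * e) with hw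
  have hwJ : w ∈ J := A.same_mem A'
  have hl : onLine (ctr k) (c.β w) = true := by
    obtain ⟨q, hq, e1⟩ := A.coset hP A'
    rw [hw, e1, (A.shift hq).2]
    exact shift_line k (c.β q).code
  have hfix : h (c.β w) (ctr j) = 0 := by
    refine (tv_fix_iff j (c.β w).code).1 ?_
    have e1 := c.equiv e N.comm w hwJ
    rw [N.π, tvP_apply] at e1
    show tv (ctr j) (c.β w) = c.β w
    rw [← e1, show e * w * e⁻¹ = w⁻¹ by rw [hw]; simp only [mul_inv_rev, M.inv, N.inv, mul_assoc, N.sq, mul_one],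
      c.β_inv hwJ]
  have h0 : c.β w = 0 := by
    by_contra hne
    obtain ⟨hh, hp⟩ := line_pidx k _ hl hne
    obtain ⟨a, ha, ea⟩ := pidx_spec (c.β w).code hne hh
    rw [hp, show (⟨(c.β w).code⟩ : Vt) = c.β w from rfl] at ea
    rw [ea, show ctr j = sm ((1 : Fin 4) : ℕ) (ctr j) from (sm_one (ctr j).code).symm,
      h_scalar_zero k j a 1 ha (by decide), ← orth_iff, hfar] at hfix
    cases hfix
  exact A.eq_of_shift hP A' h0

/-- Two members of one class, seen from the first. -/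
theorem rot {m : G} (M' : Mem c i m) (hne : m ≠ d) : Kc z J d (z * m) := by
  obtain ⟨q, hq, e⟩ := M.coset hP M'
  have h1 := M.inter_mem hP hq (e ▸ hne)
  rw [← e] at h1
  have h2 := c.Kc_mul h1 (c.Kc_top M.conj)
  rwa [show z * (d * m) * d = z * (d * m * d) by group, Coord.flip_comm (M.commute hP M' (orth_self i)) M.sq] at h2

end Mem

end Cfsg.Lib.USixType
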