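import Cfsg.Agent.USixType.FrameUniq

/-!
# The section of the core compatible with the chosen members
-/

set_option autoImplicit false
set_option Elab.async false
set_option linter.unusedSectionVars false
set_option linter.style.haveILetI false
set_option maxRecDepth 100000

namespace Cfsg.Lib.USixType

open Subgroup

universe u

variable {G : Type u} [Group G] {z : G} {J : Subgroup G}

theorem vt_code (v : Vt) : (⟨v.code⟩ : Vt) = v := rfl

/-- A section with the cocycle. -/
theorem Coord.exists_section0 (c : Coord z J) :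
    ∃ f : Vt → G, (∀ v, f v ∈ J ∧ c.β (f v) = v) ∧ ∀ u v, f u * f v = f (u + v) * zp z (phi u v) := by
  suffices ∀ n ≤ 8, ∃ f : Vt → G, (∀ v : Vt, v.code.val < 2 ^ n → f v ∈ J ∧ c.β (f v) = v) ∧
      ∀ u v : Vt, u.code.val < 2 ^ n → v.code.val < 2 ^ n → f u * f v = f (u + v) * zp z (phi u v) by
    obtain ⟨f, h1, h2⟩ := this 8 le_rfl
    exact ⟨f, fun v => h1 v v.code.isLt, fun u v => h2 u v u.code.isLt v.code.isLt⟩
  intro n
  induction n with
  | zero =>
    refine fun _ => ⟨fun _ => 1, fun v hv => ⟨one_mem J, ?_⟩, fun u v hu hv => ?_⟩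
    · rw [c.β_one]; exact (Vt.ext' (by simpa [show (0 : Vt).code.val = 0 from rfl] using hv)).symm
    · rw [show u = 0 from Vt.ext' (by simpa [show (0 : Vt).code.val = 0 from rfl] using hu)]
      simp [phi, (h_zero v).1, zp]
  | succ n ih =>
    intro hn
    obtain ⟨f, h1, h2⟩ := ih (by omega)
    set e : Vt := bas ⟨n, by omega⟩ with he
    have hec : e.code.val = 2 ^ n := by
      show 2 ^ n % 256 = 2 ^ n
      exact Nat.mod_eq_of_lt (show 2 ^ n < 2 ^ 8 from Nat.pow_lt_pow_right (by norm_num) (by omega))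
    obtain ⟨q, hq, hqe⟩ := c.β_surj e
    have hlo : ∀ {v : Vt}, v.code.val < 2 ^ (n + 1) → 2 ^ n ≤ v.code.val → (e + v).code.val < 2 ^ n := by
      intro v hv hge
      rw [Vt.code_add, hec]
      refine Nat.lt_pow_two_of_testBit _ fun i hi => ?_
      rw [Nat.testBit_xor, Nat.testBit_two_pow]
      rcases eq_or_lt_of_le hi with rfl | hlt
      · rw [Nat.testBit_eq_decide_div_mod_eq, show v.code.val / 2 ^ n = 1 from
          Nat.div_eq_of_lt_le (by rwa [one_mul]) (by rw [pow_succ] at hv; omega)]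
        simp
      · rw [Nat.testBit_lt_two_pow (hv.trans_le (Nat.pow_le_pow_right (by norm_num) hlt))]
        simp [hlt.ne]
    have hsum : ∀ {u v : Vt}, u.code.val < 2 ^ n → v.code.val < 2 ^ n → (u + v).code.val < 2 ^ n :=
      fun hu hv => by rw [Vt.code_add]; exact Nat.xor_lt_two_pow hu hv
    have hhi : ∀ {w : Vt}, w.code.val < 2 ^ n → 2 ^ n ≤ (e + w).code.val ∧ (e + w).code.val < 2 ^ (n + 1) := by
      intro w hw
      rw [Vt.code_add, hec]
      refine ⟨Nat.ge_two_pow_of_testBit ?_, Nat.xor_lt_two_pow (Nat.pow_lt_pow_right (by norm_num) (by omega))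
        (hw.trans (Nat.pow_lt_pow_right (by norm_num) (by omega)))⟩
      rw [Nat.testBit_xor, Nat.testBit_two_pow, Nat.testBit_lt_two_pow hw]
      simp
    let f' : Vt → G := fun v => if v.code.val < 2 ^ n then f v else q * f (e + v) * zp z (phi e (e + v))
    have F0 : ∀ {w : Vt}, w.code.val < 2 ^ n → f' w = f w := fun hw => if_pos hw
    have F1 : ∀ {w : Vt}, w.code.val < 2 ^ n → f' (e + w) = q * f w * zp z (phi e w) := fun {w} hw => by
      have := (hhi hw).1
      rw [show f' (e + w) = _ from if_neg (not_lt.2 this), ← add_assoc, Vt.add_self, zero_add]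
    have split : ∀ {v : Vt}, v.code.val < 2 ^ (n + 1) →
        v.code.val < 2 ^ n ∨ ∃ w : Vt, w.code.val < 2 ^ n ∧ v = e + w := fun {v} hv => by
      by_cases hl : v.code.val < 2 ^ n
      · exact Or.inl hl
      · exact Or.inr ⟨e + v, hlo hv (not_lt.1 hl), by rw [← add_assoc, Vt.add_self, zero_add]⟩
    have czp : ∀ {p : G}, p ∈ J → ∀ b, Commute p (zp z b) := fun hp b => Coord.zp_comm (c.le _ hp) b
    refine ⟨f', fun v hv => ?_, fun u v hu hv => ?_⟩
    · rcases split hv with hl | ⟨w, hw, rfl⟩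
      · rw [F0 hl]; exact h1 v hl
      · rw [F1 hw, c.β_mul_zp (mul_mem hq (h1 w hw).1), c.β_mul q hq _ (h1 w hw).1, hqe, (h1 w hw).2]
        exact ⟨mul_mem (mul_mem hq (h1 w hw).1) (c.zp_mem _), rfl⟩
    · rcases split hu with hlu | ⟨u, hu', rfl⟩ <;> rcases split hv with hlv | ⟨v, hv', rfl⟩
      · rw [F0 hlu, F0 hlv, F0 (hsum hlu hlv)]; exact h2 u v hlu hlv
      · rw [F0 hlu, F1 hv', show u + (e + v) = e + (u + v) by abel, F1 (hsum hlu hv')]
        obtain ⟨hm, hb⟩ := h1 u hlu
        calc f u * (q * f v * zp z (phi e v)) = f u * q * f v * zp z (phi e v) := by group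
          _ = q * f u * (zp z (B u e) * f v) * zp z (phi e v) := by
              rw [c.swap hm hq, hb, hqe]; group
          _ = q * (f u * f v) * (zp z (B u e) * zp z (phi e v)) := by
              rw [← (czp (h1 v hv').1 _).eq]; group
          _ = q * f (u + v) * (zp z (phi u v) * (zp z (B u e) * zp z (phi e v))) := by
              rw [h2 u v hlu hv']; group
          _ = q * f (u + v) * zp z (phi e (u + v)) * zp z (phi u (e + v)) := by
              simp only [mul_assoc, c.zp_mul]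
              congr 2
              rw [phi_add_right u v e, phi_add_right e v u, ← phi_swap u e]
              cases phi u v <;> cases phi u e <;> cases phi e u <;> cases phi e v <;> rfl
      · rw [F1 hu', F0 hlv, add_assoc, F1 (hsum hu' hlv)]
        calc q * f u * zp z (phi e u) * f v = q * f u * (zp z (phi e u) * f v) := by group
          _ = q * (f u * f v) * zp z (phi e u) := by rw [← (czp (h1 v hlv).1 _).eq]; group
          _ = q * f (u + v) * (zp z (phi u v) * zp z (phi e u)) := by rw [h2 u v hu' hlv]; group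
          _ = _ := by
              simp only [mul_assoc, c.zp_mul]
              congr 2
              rw [phi_add_right u v e, phi_add_left e u v]
              cases phi u v <;> cases phi e u <;> cases phi e v <;> rfl
      · rw [F1 hu', F1 hv', show e + u + (e + v) = u + v by rw [add_add_add_comm, Vt.add_self, zero_add],
          F0 (hsum hu' hv')]
        obtain ⟨hm, hb⟩ := h1 u hu'
        calc q * f u * zp z (phi e u) * (q * f v * zp z (phi e v))
            = q * f u * (zp z (phi e u) * q) * f v * zp z (phi e v) := by group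
          _ = q * (f u * q) * (zp z (phi e u) * f v) * zp z (phi e v) := by rw [← (czp hq _).eq]; group
          _ = q * q * f u * (zp z (B u e) * f v) * (zp z (phi e u) * zp z (phi e v)) := by
              rw [c.swap hm hq, hb, hqe, ← (czp (h1 v hv').1 (phi e u)).eq]; group
          _ = zp z (Q e) * (f u * f v) * (zp z (B u e) * (zp z (phi e u) * zp z (phi e v))) := by
              rw [c.sq q hq, hqe, ← (czp (h1 v hv').1 (B u e)).eq]; group
          _ = f (u + v) * (zp z (phi u v) * (zp z (Q e) * (zp z (B u e) * (zp z (phi e u) * zp z (phi e v))))) := by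
              rw [h2 u v hu' hv', ← mul_assoc (zp z (Q e)), ← (czp (h1 _ (hsum hu' hv')).1 (Q e)).eq,
                mul_assoc (f (u + v)), c.zp_mul, Bool.xor_comm, ← c.zp_mul]
              group
          _ = _ := by
              simp only [c.zp_mul]
              congr 2
              rw [phi_add_left e u (e + v), phi_add_right e v e, phi_add_right e v u, ← phi_swap u e, Q_eq_phi]
              cases phi u v <;> cases phi e e <;> cases phi u e <;> cases phi e u <;> cases phi e v <;> rfl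

variable [Finite G] (hP : PairGoal.{u}) {c : Coord z J}
include hP

theorem exists_inter {i : Fin 45} {x : G} (M : Mem c i x) {v : Vt} (hl : onLine (ctr i) v = true) :
    ∃ k ∈ J, Kc z J x k ∧ c.β k = v := by
  by_cases hv : v = 0
  · exact ⟨1, one_mem J, c.Kc_one M.conj, hv ▸ c.β_one⟩
  obtain ⟨hh, hp⟩ := line_pidx i v.code hl hv
  obtain ⟨l, -, e⟩ := pidx_spec v.code hv hh
  rw [hp, vt_code] at e
  obtain ⟨w, hw⟩ := shift_onto i l
  obtain ⟨q, hq, hqw⟩ := c.β_surj ⟨w⟩
  obtain ⟨hm, hb⟩ := M.shift hq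
  have hb' : c.β (x * (q⁻¹ * x * q)) = v := by rw [hb, hqw, hw, e]
  refine ⟨z * (x * (q⁻¹ * x * q)), mul_mem c.mem hm, M.inter_mem hP hq fun k => hv ?_, ?_⟩
  · rw [← hb', k, M.sq, c.β_one]
  · rw [c.β_mul z c.mem _ hm, c.β_z, zero_add, hb']

theorem inter_unique {i : Fin 45} {x k k' : G} (M : Mem c i x) (hk : k ∈ J) (hK : Kc z J x k) (hk' : k' ∈ J)
    (hK' : Kc z J x k') (e : c.β k = c.β k') : k = k' := by
  obtain ⟨b, hb⟩ := c.eq_or_mul_z hk hk' e
  cases b
  · simp [zp] at hb; exact hb.symm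
  · exfalso
    refine M.z_notKc hP ?_
    have := c.Kc_mul (c.Kc_inv hK) hK'
    rwa [hb, show zp z true = z from rfl, inv_mul_cancel_left] at this

variable {x : Fin 45 → G} (Mx : ∀ i, Mem c i (x i)) {y : G} (hy : IsConj z y) (hyz : ¬ Commute y z)
  (hyx : ∀ i, Commute y (x i))
include Mx hy hyz hyx

omit hy hyz hyx in
/-- The element of the intersection with a given vector. -/
theorem exists_k : ∃ k : Vt → G, ∀ v, v ≠ 0 → h v v = 0 → k v ∈ J ∧ Kc z J (x (pidx v)) (k v) ∧ c.β (k v) = v := by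
  classical
  refine ⟨fun v => if hv : v ≠ 0 ∧ h v v = 0 then (exists_inter hP (Mx (pidx v)) (v := v)
    (pidx_line v.code hv.1 hv.2).1).choose else 1, fun v h1 h2 => ?_⟩
  simp only [dif_pos (And.intro h1 h2)]
  exact (exists_inter hP (Mx (pidx v)) (v := v) (pidx_line v.code h1 h2).1).choose_spec

theorem k_mul {k : Vt → G} (hk : ∀ v, v ≠ 0 → h v v = 0 → k v ∈ J ∧ Kc z J (x (pidx v)) (k v) ∧ c.β (k v) = v)
    {s : ℕ × ℕ × ℕ} (hs : stepOK s = true) : k (vt s.1) * k (vt s.2.1) = k (vt s.1 + vt s.2.1) := by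
  simp only [stepOK, Bool.and_eq_true, Bool.or_eq_true, beq_iff_eq, Bool.not_eq_true', beq_eq_false_iff_ne] at hs
  obtain ⟨⟨⟨⟨⟨⟨⟨⟨hu, hw⟩, huw⟩, -⟩, hu0⟩, hw0⟩, hs0⟩, hsum⟩, hcase⟩ := hs
  set u := vt s.1
  set w := vt s.2.1
  obtain ⟨kuJ, kuK, kuβ⟩ := hk u hu0 hu
  obtain ⟨kwJ, kwK, kwβ⟩ := hk w hw0 hw
  obtain ⟨ksJ, ksK, ksβ⟩ := hk (u + w) hs0 hsum
  refine inter_unique hP (Mx (pidx (u + w))) (mul_mem kuJ kwJ) ?_ ksJ ksK
    (by rw [c.β_mul _ kuJ _ kwJ, kuβ, kwβ, ksβ])
  rcases hcase with ⟨e1, e2⟩ | hcase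
  · refine c.Kc_mul ?_ ?_
    · rwa [← e2]
    · rwa [← e2, e1]
  obtain ⟨⟨⟨⟨⟨⟨⟨⟨⟨n12, n13⟩, n23⟩, o12⟩, o13⟩, o23⟩, hq0⟩, hqu⟩, hqw⟩, hucw⟩ := hcase
  set a := pidx (u + w)
  set i := pidx u
  set j := pidx w
  obtain ⟨g, hg⟩ := isConj_iff.1 (Mx a).conj
  obtain ⟨a', Mz⟩ := (Mx a).back hP hg
  obtain ⟨p, My⟩ := (c.map g).exists_mem hP (d := y) (by rw [hg]; exact (Mx a).conj.symm.trans hy) (by rw [hg]; exact hyx a)
    fun e => hyz (by rw [e, hg]; exact (Mx a).comm)
  have hpa : orth p a' = false := Bool.eq_false_iff.2 fun h => hyz (My.commute hP Mz h)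
  obtain ⟨ki, Ai, hki, hkia⟩ := seen hP hg (Mx a) (Mx i) n13 o13 Mz
  obtain ⟨kj, Aj, hkj, hkja⟩ := seen hP hg (Mx a) (Mx j) n23 o23 Mz
  have hij : orth kj ki = true := Aj.orth_of_commute Ai ((Mx j).commute hP (Mx i) (by rw [orth_symm]; exact o12))
  obtain ⟨t, -, tu⟩ := line_one hki.symm (by rw [orth_symm]; exact hkia) hpa
  have e1 : ki = t := tu ki ⟨hkia, orth_self ki, Ai.orth_of_commute My (hyx i).symm⟩
  have e2 : kj = t := tu kj ⟨hkja, hij, Aj.orth_of_commute My (hyx j).symm⟩
  have hK : Kc z J (x a) (x i * x j) := (c.Kc_iff hg).2 (Ai.same_mem (by rw [e1, ← e2]; exact Aj))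
  obtain ⟨q, hq, hqv⟩ := c.β_surj (vt s.2.2)
  have hca : Commute (x a) q := (Mx a).fix_comm hP hq (by rw [hqv]; exact hq0)
  have conjq : ∀ {b : Fin 45} {v : Vt}, v ≠ 0 → h v v = 0 → pidx v = b →
      tv (ctr b) (c.β q) + c.β q = v → q⁻¹ * x b * q = x b * (z * k v) := by
    intro b v hv0 hvi hb e
    subst hb
    obtain ⟨hm, hb⟩ := (Mx (pidx v)).shift hq
    rw [e] at hb
    obtain ⟨kJ, kK, kβ⟩ := hk v hv0 hvi
    have := inter_unique hP (Mx (pidx v)) (mul_mem c.mem hm) ((Mx (pidx v)).inter_mem hP hq fun k => hv0 (by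
      rw [← hb, k, (Mx (pidx v)).sq, c.β_one])) kJ kK (by rw [c.β_mul z c.mem _ hm, c.β_z, zero_add, hb, kβ])
    rw [← this, show z * (z * (x (pidx v) * (q⁻¹ * x (pidx v) * q))) = x (pidx v) * (q⁻¹ * x (pidx v) * q) by
      rw [← mul_assoc z z, c.z_sq, one_mul], ← mul_assoc, (Mx (pidx v)).sq, one_mul]
  have hKq := c.Kc_conj q⁻¹ hK
  rw [inv_inv, show q⁻¹ * x a * q = x a by rw [mul_assoc, hca.eq, inv_mul_cancel_left]] at hKq
  have hc : Commute (x j) (k u) := (Mx j).fix_comm hP kuJ (by rw [kuβ]; exact hucw)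
  have e : q⁻¹ * (x i * x j) * q = x i * x j * (k u * k w) := by
    rw [show q⁻¹ * (x i * x j) * q = q⁻¹ * x i * q * (q⁻¹ * x j * q) by group,
      conjq hu0 hu rfl (by rw [hqv]; exact hqu), conjq hw0 hw rfl (by rw [hqv]; exact hqw)]
    calc x i * (z * k u) * (x j * (z * k w)) = x i * (z * k u * x j) * z * k w := by group
      _ = x i * (x j * z * k u) * z * k w := by
          rw [mul_assoc z, ← hc.eq, ← mul_assoc z, ← (Mx j).comm.eq]
      _ = x i * x j * (z * (k u * z)) * k w := by group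
      _ = x i * x j * (k u * k w) := by
          rw [(c.le _ kuJ).eq, ← mul_assoc z z, c.z_sq, one_mul]; group
  rw [e] at hKq
  have := c.Kc_mul (c.Kc_inv hK) hKq
  rwa [inv_mul_cancel_left] at this

theorem exists_section : ∃ s : Vt → G, (∀ v, s v ∈ J) ∧ (∀ v, c.β (s v) = v) ∧
    (∀ u v, s u * s v = s (u + v) * zp z (phi u v)) ∧
    ∀ i v, onLine (ctr i) v = true → Kc z J (x i) (s v) := by
  classical
  obtain ⟨f, hf, hfm⟩ := c.exists_section0
  obtain ⟨k, hk⟩ := exists_k hP Mx
  let seed : Fin 8 → Vt := fun j => vt (isoSeed.getD j.val 0)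
  have hseed : ∀ j, seed j ≠ 0 ∧ h (seed j) (seed j) = 0 := by decide +kernel
  obtain ⟨F, hF⟩ : ∃ F : Fin 256, ∀ j : Fin 8, F.val.testBit j.val = decide (k (seed j) ≠ f (seed j)) := by
    have hp : ∀ b0 b1 b2 b3 b4 b5 b6 b7 : Bool, ∀ j : Fin 8,
        (Fin.ofNat 256 ([b0, b1, b2, b3, b4, b5, b6, b7].foldr (fun b r => (if b then 1 else 0) + 2 * r) 0)).val.testBit
          j.val = [b0, b1, b2, b3, b4, b5, b6, b7].getD j.val false := by decide +kernel
    have : ∀ g : Fin 8 → Bool, ∃ F : Fin 256, ∀ j : Fin 8, F.val.testBit j.val = g j := fun g =>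
      ⟨_, fun j => (hp (g 0) (g 1) (g 2) (g 3) (g 4) (g 5) (g 6) (g 7) j).trans (by fin_cases j <;> rfl)⟩
    exact this _
  set D := dualSum F with hD
  let s : Vt → G := fun v => f v * zp z (B v D)
  have hsJ : ∀ v, s v ∈ J := fun v => mul_mem (hf v).1 (c.zp_mem _)
  have hsβ : ∀ v, c.β (s v) = v := fun v => (c.β_mul_zp (hf v).1 _).trans (hf v).2
  have hsm : ∀ u v, s u * s v = s (u + v) * zp z (phi u v) := fun u v => by
    show f u * zp z (B u D) * (f v * zp z (B v D)) = f (u + v) * zp z (B (u + v) D) * zp z (phi u v)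
    calc f u * zp z (B u D) * (f v * zp z (B v D)) = f u * (zp z (B u D) * f v) * zp z (B v D) := by group
      _ = f u * f v * (zp z (B u D) * zp z (B v D)) := by
          rw [← (Coord.zp_comm (c.le _ (hf v).1) _).eq]; group
      _ = _ := by
          rw [hfm, mul_assoc, mul_assoc, c.zp_mul, c.zp_mul, c.zp_mul, B_add_left, Bool.xor_comm]
  have key : ∀ v, v ≠ 0 → h v v = 0 → s v = k v := fun v => by
    refine iso_induct (P := fun v => s v = k v) (fun j => ?_) (fun t ht hu hw => ?_)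
    · obtain ⟨kJ, -, kβ⟩ := hk (seed j) (hseed j).1 (hseed j).2
      obtain ⟨b, hb⟩ := c.eq_or_mul_z (hf (seed j)).1 kJ ((hf (seed j)).2.trans kβ.symm)
      show f (seed j) * zp z (B (seed j) D) = k (seed j)
      rw [hb]
      congr 2
      refine ((dual_spec F j).trans (hF j)).trans ?_
      cases b
      · simp only [zp, Bool.false_eq_true, if_false, mul_one] at hb; simp [hb]
      · refine decide_eq_true fun e => c.z_ne_one ?_
        rw [hb, show zp z true = z from rfl] at e
        exact mul_eq_left.1 e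
    · have hok := List.all_eq_true.1 steps_ok t ht
      rw [← k_mul hP Mx hy hyz hyx hk hok, ← hu, ← hw, hsm]
      simp only [stepOK, Bool.and_eq_true, beq_iff_eq] at hok
      simp [hok.1.1.1.1.1.2, zp]
  refine ⟨s, hsJ, hsβ, hsm, fun i v hl => ?_⟩
  by_cases hv : v = 0
  · subst hv
    have h0 := hsm 0 0
    rw [add_zero, show phi 0 0 = false from rfl, show zp z false = 1 from rfl, mul_one, mul_eq_left] at h0
    rw [h0]; exact c.Kc_one (Mx i).conj
  · obtain ⟨hh, hp⟩ := line_pidx i v.code hl hv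
    rw [key v hv hh, show i = pidx v from hp.symm]
    exact (hk v hv hh).2.1

end Cfsg.Lib.USixType
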