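import Cfsg.Agent.USixType.FrameBase

/-!
# A transvection not commuting with the centre picks one member of each class
-/

set_option autoImplicit false
set_option Elab.async false
set_option linter.unusedSectionVars false

namespace Cfsg.Lib.USixType

open Subgroup

universe u

variable {G : Type u} [Group G] [Finite G] {z : G} {J : Subgroup G} (hP : PairGoal.{u})
include hP

theorem exists_member {w : G} {Jw : Subgroup G} (c : Coord w Jw) {j : Fin 45} {d : G} (M : Mem c j d) (i : Fin 45) :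
    ∃ m, Mem c i m := by
  obtain ⟨h, hh, e⟩ := c.π_surj (mv i * (mv j)⁻¹) (mul_mem (mv_mem i) (inv_mem (mv_mem j)))
  have M' := M.conj_act hh
  have h0 : act45 (mv j)⁻¹ j = 0 := by
    have := act45_mul (inv_mem (mv_mem j)) (mv_mem j) 0
    rw [act45_mv, inv_mul_cancel, act45_one] at this
    exact this.symm
  rw [e, act45_mul (mv_mem i) (inv_mem (mv_mem j)), h0, act45_mv] at M'
  exact ⟨_, M'⟩

variable {c : Coord z J}

/-- A member of a class orthogonal to that of `x`, seen from `x`. -/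
theorem seen {a i : Fin 45} {g x m a' : _} (hg : g * z * g⁻¹ = x) (Mx : Mem c a x) (M : Mem c i m)
    (hia : i ≠ a) (ho : orth i a = true) (Mz : Mem (c.map g) a' z) :
    ∃ k, Mem (c.map g) k m ∧ k ≠ a' ∧ orth k a' = true := by
  subst hg
  have hne : m ≠ g * z * g⁻¹ := fun e => hia (M.index_unique (e ▸ Mx))
  obtain ⟨k, Mk⟩ := (c.map g).exists_mem hP (Mx.conj.symm.trans M.conj) (M.commute hP Mx ho) hne
  refine ⟨k, Mk, fun e => hia ?_, Mk.orth_of_commute Mz M.comm⟩
  subst e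
  have h1 := c.Kc_base.1 (Mz.rot hP Mk M.ne)
  rw [c.Kc_self] at h1
  have h2 := c.π_of_mem h1
  rw [c.π_mul _ _ Mx.comm M.comm, Mx.π, M.π] at h2
  exact tvP_inj ((eq_inv_of_mul_eq_one_right h2).trans (tvP_inv a))

/-- Two members of one class with the same image at `x` are equal. -/
theorem seen_inj {a i k : Fin 45} {g m m' : G} (Mx : Mem c a (g * z * g⁻¹)) (M : Mem c i m) (M' : Mem c i m')
    (hia : i ≠ a) (A : Mem (c.map g) k m) (A' : Mem (c.map g) k m') : m' = m := by
  have hJ : m * m' ∈ J := M.same_mem M'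
  have hK : Kc z J (g * z * g⁻¹) (m * m') := (c.Kc_iff rfl).2 (A.same_mem A')
  have l1 := Mx.inter_line hP hJ hK
  obtain ⟨q, hq, e⟩ := M.coset hP M'
  have l2 : onLine (ctr i) (c.β (m * m')) = true := by
    rw [e, (M.shift hq).2]; exact shift_line i (c.β q).code
  refine M.eq_of_shift hP M' ?_
  by_contra hne
  exact hia ((line_pidx i _ l2 hne).2.symm.trans (line_pidx a _ l1 hne).2)

variable {a : Fin 45} {x y : G} (Mx : Mem c a x) (hy : IsConj z y) (hyx : Commute y x) (hyz : ¬ Commute y z)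
include Mx hy hyx hyz

theorem uniq_orth {i : Fin 45} (ho : orth i a = true) : ∃! m, Mem c i m ∧ Commute y m := by
  classical
  obtain ⟨g, rfl⟩ := isConj_iff.1 Mx.conj
  obtain ⟨a', Mz⟩ := Mx.back hP rfl
  obtain ⟨p, My⟩ := (c.map g).exists_mem hP (Mx.conj.symm.trans hy) hyx fun e => hyz (e ▸ Mx.comm)
  have hpa : orth p a' = false := Bool.eq_false_iff.2 fun h => hyz (My.commute hP Mz h)
  by_cases hia : i = a
  · subst hia
    refine ⟨_, ⟨Mx, hyx⟩, fun m hm => ?_⟩
    by_contra hne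
    have hK : z * m ∈ J.map (MulAut.conj g).toMonoidHom := (c.Kc_iff rfl).1 (Mx.rot hP hm.1 hne)
    obtain ⟨k, Mk⟩ := (c.map g).exists_mem hP (Mx.conj.symm.trans hm.1.conj) (hm.1.commute hP Mx (orth_self i)) hne
    have h2 := (c.map g).π_of_mem hK
    rw [(c.map g).π_mul _ _ Mz.comm Mk.comm, Mz.π, Mk.π] at h2
    have hk : k = a' := tvP_inj ((eq_inv_of_mul_eq_one_right h2).trans (tvP_inv a'))
    rw [hk] at Mk
    have := My.orth_of_commute Mk hm.2
    rw [hpa] at this
    cases this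
  obtain ⟨m₀, M₀⟩ := exists_member hP c Mx i
  have hf : ∀ l : Fin 4, ∃ m, Mem c i m ∧ c.β (m₀ * m) = sm l.val (ctr i) := by
    intro l
    obtain ⟨v, hv⟩ := shift_onto i l
    obtain ⟨q, hq, e⟩ := c.β_surj ⟨v⟩
    exact ⟨_, M₀.conj_mem hq, by rw [(M₀.shift hq).2, e, hv]⟩
  choose f hfm hfb using hf
  choose k hk hkne hko using fun l => seen hP rfl Mx (hfm l) hia ho Mz
  have hkinj : Function.Injective k := fun l l' e => by
    have := seen_inj hP Mx (hfm l) (hfm l') hia (hk l) (e ▸ hk l')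
    refine ((sm_line i l).2 l' ?_)
    rw [← hfb, ← hfb, this]
  have hk0 : a' ≠ k 0 := (hkne 0).symm
  have hoa : orth a' (k 0) = true := by rw [orth_symm]; exact hko 0
  obtain ⟨t, ⟨t1, t2, t3⟩, tuniq⟩ := line_one hk0 hoa hpa
  have himg : ∀ {m : G} {j : Fin 45}, Mem c i m → Mem (c.map g) j m → orth j (k 0) = true := fun M A =>
    A.orth_of_commute (hk 0) (M.commute hP (hfm 0) (orth_self i))
  obtain ⟨l, hl⟩ : ∃ l, k l = t := by
    set L := (Finset.univ.filter fun j => orth j a' = true ∧ orth j (k 0) = true).erase a'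
    have hta : t ≠ a' := fun e => by
      rw [e, orth_symm, hpa] at t3; cases t3
    have hsub : Finset.univ.image k ⊆ L := by
      intro j hj
      obtain ⟨l, -, rfl⟩ := Finset.mem_image.1 hj
      exact Finset.mem_erase.2 ⟨hkne l, Finset.mem_filter.2 ⟨Finset.mem_univ _, hko l, himg (hfm l) (hk l)⟩⟩
    have heq := Finset.eq_of_subset_of_card_le hsub (by
      rw [Finset.card_image_of_injective _ hkinj, Finset.card_erase_of_mem
        (Finset.mem_filter.2 ⟨Finset.mem_univ _, orth_self a', hoa⟩), line_five hk0 hoa]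
      simp)
    have : t ∈ Finset.univ.image k := by
      rw [heq]; exact Finset.mem_erase.2 ⟨hta, Finset.mem_filter.2 ⟨Finset.mem_univ _, t1, t2⟩⟩
    obtain ⟨l, -, e⟩ := Finset.mem_image.1 this
    exact ⟨l, e⟩
  refine ⟨f l, ⟨hfm l, My.commute hP (hk l) (by rw [hl, orth_symm]; exact t3)⟩, fun m hm => ?_⟩
  obtain ⟨j, Mj, -, hja⟩ := seen hP rfl Mx hm.1 hia ho Mz
  have hj : j = t := tuniq j ⟨hja, himg hm.1 Mj, by rw [orth_symm]; exact My.orth_of_commute Mj hm.2⟩
  exact seen_inj hP Mx (hfm l) hm.1 hia (hk l) (by rw [hl, ← hj]; exact Mj)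

theorem uniq (i : Fin 45) : ∃! m, Mem c i m ∧ Commute y m := by
  obtain ⟨b, -, -, hb, hb'⟩ := exists_between a i
  obtain ⟨x', ⟨Mx', hyx'⟩, -⟩ := uniq_orth hP Mx hy hyx hyz hb
  exact uniq_orth hP Mx' hy hyx' hyz (by rw [orth_symm]; exact hb')

omit Mx hy hyx hyz in
theorem exists_start {g₀ : G} (hc : Commute (g₀ * z * g₀⁻¹) z) (hne : g₀ * z * g₀⁻¹ ≠ z) (c : Coord z J) :
    ∃ a x y, Mem c a x ∧ IsConj z y ∧ Commute y x ∧ ¬ Commute y z ∧ y * z * y = z * y * z := by
  obtain ⟨a, Mx⟩ := c.exists_mem hP (isConj_iff.2 ⟨g₀, rfl⟩) hc hne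
  obtain ⟨a', Mz⟩ := Mx.back hP rfl
  obtain ⟨p, hp⟩ := exists_far a'
  obtain ⟨y, My⟩ := exists_member hP (c.map g₀) Mz p
  have hyz : ¬ Commute y z := fun h => by
    have := My.orth_of_commute Mz h
    rw [hp] at this; cases this
  exact ⟨a, _, y, Mx, Mx.conj.trans My.conj, My.comm, hyz, Mz.braid hP My fun h => hyz h.symm⟩

end Cfsg.Lib.USixType
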