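import Cfsg.Agent.USixType.GrpData

/-!
# The group generated by the forty-five transvections

Elements are compared by their keys, the eight images of the basis.
-/

set_option autoImplicit false
set_option Elab.async false
set_option maxRecDepth 100000

namespace Cfsg.Lib.USixType

open Subgroup

/-- An additive map commuting with the scalars and preserving the form. -/
structure Lin (g : Equiv.Perm Vt) : Prop where
  map_add : ∀ u v, g (u + v) = g u + g v
  map_sm : ∀ a v, a < 4 → g (sm a v) = sm a (g v)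
  map_h : ∀ u v, h (g u) (g v) = h u v

/-- The centres. -/
def ctr (i : Fin 45) : Vt := vt (ctrCode.getD i.val 0)

theorem ctr_iso : ∀ i : Fin 45, h (ctr i) (ctr i) = 0 ∧ ctr i ≠ 0 := by decide +kernel

theorem tv_tv_data : ∀ i : Fin 45, ∀ v : Fin 256, tv (ctr i) (tv (ctr i) ⟨v⟩) = ⟨v⟩ := by decide +kernel

/-- A transvection. -/
def tvP (i : Fin 45) : Equiv.Perm Vt :=
  (show Function.Involutive (tv (ctr i)) from fun v => by obtain ⟨v⟩ := v; exact tv_tv_data i v).toPerm _

theorem tvP_apply (i : Fin 45) (v : Vt) : tvP i v = tv (ctr i) v := rfl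

theorem tvP_sq (i : Fin 45) : tvP i * tvP i = 1 := Equiv.ext fun v => by
  obtain ⟨v⟩ := v; exact tv_tv_data i v

theorem sm_add_scalar : ∀ v : Fin 256, ∀ a : Fin 4, ∀ b : Fin 4,
    sm (a.val ^^^ b.val) ⟨v⟩ = sm a.val ⟨v⟩ + sm b.val ⟨v⟩ := by decide +kernel

theorem tv_add (c u v : Vt) : tv c (u + v) = tv c u + tv c v := by
  obtain ⟨i⟩ := c
  simp only [tv, h_add_left, sm_add_scalar i ⟨_, h_lt u _⟩ ⟨_, h_lt v _⟩]
  abel

theorem sm_bas : ∀ i : Fin 256, ∀ a : Fin 4, ∀ k : Fin 8,
    sm a.val (⟨i⟩ + bas k) = sm a.val ⟨i⟩ + sm a.val (bas k) := by decide +kernel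

theorem sm_zero : ∀ a : Fin 4, sm a.val 0 = 0 := by decide +kernel

theorem sm_add {a : ℕ} (ha : a < 4) (u v : Vt) : sm a (u + v) = sm a u + sm a v := by
  induction v using induct_bas generalizing u with
  | h0 => rw [add_zero, show sm a 0 = 0 from sm_zero ⟨a, ha⟩, add_zero]
  | hadd x y hx hy => rw [← add_assoc, hy, hx, hy x, add_assoc]
  | hb k => obtain ⟨i⟩ := u; exact sm_bas i ⟨a, ha⟩ k

theorem eq_of_bas {f g : Vt → Vt} (hf : ∀ u v, f (u + v) = f u + f v) (hg : ∀ u v, g (u + v) = g u + g v)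
    (hb : ∀ k, f (bas k) = g (bas k)) (v : Vt) : f v = g v := by
  have z : ∀ f : Vt → Vt, (∀ u v, f (u + v) = f u + f v) → f 0 = 0 := fun f hf => by
    have := hf 0 0; rw [add_zero] at this; exact left_eq_add.1 this
  induction v using induct_bas with
  | h0 => rw [z f hf, z g hg]
  | hadd x y hx hy => rw [hf, hg, hx, hy]
  | hb k => exact hb k

theorem tv_sm_bas : ∀ i : Fin 45, ∀ a : Fin 4, ∀ k : Fin 8,
    tv (ctr i) (sm a.val (bas k)) = sm a.val (tv (ctr i) (bas k)) := by decide +kernel

theorem tv_h_bas : ∀ i : Fin 45, ∀ j k : Fin 8,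
    h (tv (ctr i) (bas j)) (tv (ctr i) (bas k)) = h (bas j) (bas k) := by decide +kernel

theorem h_zero (v : Vt) : h 0 v = 0 ∧ h v 0 = 0 := by obtain ⟨i⟩ := v; exact h_zero_left i

theorem h_preserved {f : Vt → Vt} (hf : ∀ u v, f (u + v) = f u + f v)
    (hb : ∀ j k, h (f (bas j)) (f (bas k)) = h (bas j) (bas k)) (u v : Vt) : h (f u) (f v) = h u v := by
  have z : f 0 = 0 := by have := hf 0 0; rw [add_zero] at this; exact left_eq_add.1 this
  induction v using induct_bas with
  | h0 => rw [z, (h_zero _).2, (h_zero _).2]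
  | hadd x y hx hy => rw [hf, h_add_right, h_add_right, hx, hy]
  | hb k =>
    induction u using induct_bas with
    | h0 => rw [z, (h_zero _).1, (h_zero _).1]
    | hadd x y hx hy => rw [hf, h_add_left, h_add_left, hx, hy]
    | hb j => exact hb j k

theorem lin_tvP (i : Fin 45) : Lin (tvP i) where
  map_add u v := tv_add _ u v
  map_sm a v ha := eq_of_bas (f := fun v => tv (ctr i) (sm a v)) (g := fun v => sm a (tv (ctr i) v))
    (fun u v => by simp only [sm_add ha, tv_add]) (fun u v => by simp only [sm_add ha, tv_add])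
    (fun k => tv_sm_bas i ⟨a, ha⟩ k) v
  map_h := h_preserved (tv_add _) (tv_h_bas i)

theorem Lin.mul {g g' : Equiv.Perm Vt} (hg : Lin g) (hg' : Lin g') : Lin (g * g') where
  map_add u v := by simp only [Equiv.Perm.mul_apply, hg'.map_add, hg.map_add]
  map_sm a v ha := by simp only [Equiv.Perm.mul_apply, hg'.map_sm a v ha, hg.map_sm a _ ha]
  map_h u v := by simp only [Equiv.Perm.mul_apply, hg.map_h, hg'.map_h]

theorem lin_one : Lin (1 : Equiv.Perm Vt) :=
  ⟨fun _ _ => rfl, fun _ _ _ => rfl, fun _ _ => rfl⟩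

theorem Lin.inv {g : Equiv.Perm Vt} (hg : Lin g) : Lin g⁻¹ where
  map_add u v := g.injective (by simp only [Equiv.Perm.coe_inv, Equiv.apply_symm_apply, hg.map_add])
  map_sm a v ha := g.injective (by simp only [Equiv.Perm.coe_inv, Equiv.apply_symm_apply, hg.map_sm a _ ha])
  map_h u v := by
    conv_rhs => rw [← Equiv.apply_symm_apply g u, ← Equiv.apply_symm_apply g v, hg.map_h]
    rfl

/-- The group. -/
def U : Subgroup (Equiv.Perm Vt) := closure (Set.range tvP)

theorem tvP_mem (i : Fin 45) : tvP i ∈ U := subset_closure ⟨i, rfl⟩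

theorem lin_of_mem {g : Equiv.Perm Vt} (hg : g ∈ U) : Lin g := by
  induction hg using Subgroup.closure_induction with
  | mem x hx => obtain ⟨i, rfl⟩ := hx; exact lin_tvP i
  | one => exact lin_one
  | mul x y _ _ hx hy => exact hx.mul hy
  | inv x _ hx => exact hx.inv

/-- A byte of a key. -/
def byte (n : ℕ) (k : Fin 8) : Vt := vt (n >>> (8 * k.val))

/-- The map of a key. -/
def ev (n : ℕ) (v : Vt) : Vt :=
  ((List.finRange 8).filter fun k => v.code.val.testBit k.val).foldr (fun k r => byte n k + r) 0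

/-- The key of a list of images. -/
def pack : List Vt → ℕ
  | [] => 0
  | v :: l => v.code.val + 256 * pack l

/-- The key of a map. -/
def keyOf (f : Vt → Vt) : ℕ := pack ((List.finRange 8).map fun k => f (bas k))

theorem vt_pack (a : Vt) (n : ℕ) : vt (a.code.val + 256 * n) = a :=
  Vt.ext' (by show (a.code.val + 256 * n) % 256 = _; have := a.code.isLt; omega)

theorem pack_shift : ∀ (l : List Vt) (k : ℕ), k < l.length → vt (pack l >>> (8 * k)) = l.getD k 0
  | [], k, hk => by simp at hk
  | a :: l, 0, _ => by simp [pack, vt_pack]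
  | a :: l, k + 1, hk => by
    rw [List.getD_cons_succ, ← pack_shift l k (by simpa using hk), pack, show 8 * (k + 1) = 8 + 8 * k by omega,
      Nat.shiftRight_add]
    have := a.code.isLt
    rw [show (a.code.val + 256 * pack l) >>> 8 = pack l by rw [Nat.shiftRight_eq_div_pow]; omega]

theorem byte_keyOf (f : Vt → Vt) (k : Fin 8) : byte (keyOf f) k = f (bas k) := by
  rw [byte, keyOf, pack_shift _ _ (by simp [k.isLt]), List.getD_eq_getElem _ _ (by simp [k.isLt])]
  simp

theorem ev_keyOf {f : Vt → Vt} (hf : ∀ u v, f (u + v) = f u + f v) (v : Vt) : ev (keyOf f) v = f v := by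
  obtain ⟨i⟩ := v
  conv_rhs => rw [sum_bas i]
  rw [ev]
  dsimp only
  induction ((List.finRange 8).filter fun k => i.val.testBit k.val) with
  | nil => have := hf 0 0; rw [add_zero] at this; exact (left_eq_add.1 this).symm
  | cons a l ih => rw [List.foldr_cons, List.foldr_cons, ih, hf, byte_keyOf]

/-- The product of keys. -/
def mulK (a b : ℕ) : ℕ := pack ((List.finRange 8).map fun k => ev a (byte b k))

/-- The key of an element. -/
def key (g : Equiv.Perm Vt) : ℕ := keyOf g

theorem ev_key {g : Equiv.Perm Vt} (hg : g ∈ U) (v : Vt) : ev (key g) v = g v := ev_keyOf (lin_of_mem hg).map_add v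

theorem key_mul {g g' : Equiv.Perm Vt} (hg : g ∈ U) : key (g * g') = mulK (key g) (key g') :=
  congrArg pack (List.map_congr_left fun k _ => by
    rw [show byte (key g') k = g' (bas k) from byte_keyOf _ k, ev_key hg]; rfl)

theorem key_inj {g g' : Equiv.Perm Vt} (hg : g ∈ U) (hg' : g' ∈ U) (e : key g = key g') : g = g' :=
  Equiv.ext fun v => by rw [← ev_key hg, e, ev_key hg']

/-- The key of the identity. -/
def idK : ℕ := keyOf id

/-- The element of a word. -/
def wordP (w : List ℕ) : Equiv.Perm Vt := (w.map fun j => tvP (Fin.ofNat 45 j)).prod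

/-- The key of a word. -/
def wordK (w : List ℕ) : ℕ := w.foldr (fun j r => mulK (keyOf (tv (ctr (Fin.ofNat 45 j)))) r) idK

theorem wordP_mem (w : List ℕ) : wordP w ∈ U :=
  Subgroup.list_prod_mem U fun x hx => by obtain ⟨j, -, rfl⟩ := List.mem_map.1 hx; exact tvP_mem _

theorem key_word : ∀ w : List ℕ, key (wordP w) = wordK w
  | [] => rfl
  | j :: w => by
    rw [wordP, List.map_cons, List.prod_cons, key_mul (tvP_mem _), wordK, List.foldr_cons]
    exact congrArg (mulK _) (key_word w)

/-- A list of keys with parents under the generators, closed under the generators. -/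
def groupOK (L : List ℕ) (P : List (ℕ × ℕ)) (G : List (List ℕ)) : Bool :=
  decide (L.length = P.length) && L.headD 0 == idK &&
  (L.map fun a => G.all fun w => L.contains (mulK a (wordK w))).all id &&
  ((List.range L.length).all fun n => n == 0 ||
    (decide ((P.getD n (0, 0)).1 < n) &&
      L.getD n 0 == mulK (L.getD (P.getD n (0, 0)).1 0) (wordK (G.getD (P.getD n (0, 0)).2 [])))) &&
  decide L.Nodup

theorem listed {L : List ℕ} {P : List (ℕ × ℕ)} {G : List (List ℕ)} (hL : groupOK L P G = true) {g : Equiv.Perm Vt}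
    (hg : g ∈ closure {x | ∃ w ∈ G, wordP w = x}) : g ∈ U ∧ key g ∈ L := by
  simp only [groupOK, Bool.and_eq_true, beq_iff_eq, List.all_map, List.all_eq_true, Function.comp, id_eq,
    List.contains_iff_mem] at hL
  obtain ⟨⟨⟨⟨-, h0⟩, hcl⟩, -⟩, -⟩ := hL
  have hid : key (1 : Equiv.Perm Vt) = idK := rfl
  suffices ∀ x ∈ closure {x | ∃ w ∈ G, wordP w = x}, ∀ y, y ∈ U → key y ∈ L → y * x ∈ U ∧ key (y * x) ∈ L by
    obtain ⟨r1, r2⟩ := this g hg 1 (one_mem _) (by
      rw [hid, ← h0]
      cases L with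
      | nil => exact absurd h0 (by decide +kernel)
      | cons a l => simp)
    rw [one_mul] at r1 r2
    exact ⟨r1, r2⟩
  intro x hx
  induction hx using Subgroup.closure_induction'' with
  | one => intro y hy hk; rw [mul_one]; exact ⟨hy, hk⟩
  | mem a ha =>
    obtain ⟨w, hw, rfl⟩ := ha
    intro y hy hk
    exact ⟨mul_mem hy (wordP_mem w), by rw [key_mul hy, key_word]; exact hcl _ hk w hw⟩
  | inv_mem a ha =>
    have hp : ∀ n, ∀ y, y ∈ U → key y ∈ L → y * a ^ n ∈ U ∧ key (y * a ^ n) ∈ L := by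
      intro n
      induction n with
      | zero => intro y hy hk; rw [pow_zero, mul_one]; exact ⟨hy, hk⟩
      | succ n ih =>
        intro y hy hk
        obtain ⟨w, hw, rfl⟩ := ha
        obtain ⟨i1, i2⟩ := ih y hy hk
        rw [pow_succ, ← mul_assoc]
        exact ⟨mul_mem i1 (wordP_mem w), by rw [key_mul i1, key_word]; exact hcl _ i2 w hw⟩
    intro y hy hk
    have e : a⁻¹ = a ^ (orderOf a - 1) := inv_eq_of_mul_eq_one_left (by
      rw [← pow_succ, Nat.sub_add_cancel (orderOf_pos a), pow_orderOf_eq_one])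
    rw [e]
    exact hp _ y hy hk
  | mul a b _ _ iha ihb =>
    intro y hy hk
    rw [← mul_assoc]
    obtain ⟨i1, i2⟩ := iha y hy hk
    exact ihb _ i1 i2

theorem exists_of_mem_list {L : List ℕ} {P : List (ℕ × ℕ)} {G : List (List ℕ)} (hL : groupOK L P G = true) {n : ℕ}
    (hn : n ∈ L) : ∃ g ∈ closure {x | ∃ w ∈ G, wordP w = x}, key g = n ∧ g ∈ U := by
  simp only [groupOK, Bool.and_eq_true, Bool.or_eq_true, beq_iff_eq, List.all_eq_true, decide_eq_true_eq,
    List.mem_range] at hL
  obtain ⟨⟨⟨⟨-, h0⟩, -⟩, hp⟩, -⟩ := hL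
  suffices ∀ i < L.length, ∃ g ∈ closure {x | ∃ w ∈ G, wordP w = x}, key g = L.getD i 0 ∧ g ∈ U by
    obtain ⟨i, hi, rfl⟩ := List.getElem_of_mem hn
    obtain ⟨g, hg, e, hu⟩ := this i hi
    exact ⟨g, hg, by rw [e, List.getD_eq_getElem _ _ hi], hu⟩
  intro i
  induction i using Nat.strong_induction_on with
  | _ i ih =>
    intro hi
    rcases hp i hi with rfl | ⟨hlt, e⟩
    · refine ⟨1, one_mem _, ?_, one_mem _⟩
      cases L with
      | nil => simp at hi
      | cons a l => simp only [List.headD_cons] at h0; simp only [List.getD_cons_zero, h0]; rfl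
    · obtain ⟨g, hg, eg, hu⟩ := ih _ hlt (hlt.trans hi)
      by_cases hj : (P.getD i (0, 0)).2 < G.length
      · refine ⟨g * wordP (G.getD (P.getD i (0, 0)).2 []), mul_mem hg (subset_closure ⟨_, ?_, rfl⟩), ?_,
          mul_mem hu (wordP_mem _)⟩
        · rw [List.getD_eq_getElem _ _ hj]; exact List.getElem_mem hj
        · rw [key_mul hu, key_word, eg, e]
      · refine ⟨g, hg, ?_, hu⟩
        rw [List.getD_eq_default _ _ (not_lt.1 hj)] at e
        rw [e, ← eg, ← key_word, ← key_mul hu]
        simp [wordP]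

theorem grpA_ok : groupOK grpAKey grpAPar grpAGen = true := by decide +kernel
theorem grpB_ok : groupOK grpBKey grpBPar grpBGen = true := by decide +kernel
theorem grpS_ok : groupOK grpSKey grpSPar grpSGen = true := by decide +kernel

end Cfsg.Lib.USixType
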