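import Cfsg.Agent.USixType.Vec

/-!
# Data for the natural module
-/

set_option autoImplicit false
set_option maxRecDepth 100000

namespace Cfsg.Lib.USixType

/-- The diagonal elements. -/
def diagWord : List (List ℕ) := [[], [9, 11], [9, 10], [12, 14], [0, 1, 9, 10], [0, 1], [12, 13], [0, 2], [0, 1, 12, 14], [15, 35], [3, 4, 9, 10], [3, 4], [6, 7, 12, 13], [0, 1, 3, 4], [0, 1, 15, 35], [6, 7], [0, 2, 15, 35], [3, 4, 12, 13], [15, 25], [3, 5], [3, 4, 15, 35], [6, 8], [3, 5, 12, 14], [0, 1, 15, 25], [6, 7, 15, 35], [0, 2, 15, 25], [0, 1, 6, 8]]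

/-- The transpositions with the first coordinate. -/
def swapWord : List (List ℕ) := [[], [0], [3], [9]]

/-- Elements moving the first unit vector to each monomial one. -/
def monoWord : List (List ℕ) := [[], [0, 2], [0, 1], [0], [2], [1], [3], [0, 2, 5], [0, 1, 4], [9], [0, 2, 11], [0, 1, 10]]

/-- The monomial generators and one transvection. -/
def frameWord : List (List ℕ) := [[9, 11], [12, 14], [0], [6], [15], [16]]

/-- Generators of the monomial stabiliser. -/
def grpMGen : List (List ℕ) := [[6, 8], [15, 35], [6], [15]]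

/-- The keys. -/
def grpMKey : List ℕ := [9241421688590303745, 9241404233910583809, 4665782128087400961, 9241395249175069185, 2310487621341807105, 9241439349429240321, 4665764467249250817, 9241399664135111169, 1166573316057072129, 13871104650780082689, 4665738028036129281, 3467842906587660801, 9241390885757780481, 4665742442993025537, 577727665114448385, 2310417802420814337, 1166643959611785729, 2310355424265634305, 4665747012368204289, 3467912725509440001, 13871139766500065793, 4665733663813534209, 867083940906664449, 1166503496934752769, 3467983369265480193, 1166445534139908609, 13871095665845600769, 13871100081607803393, 577657846395568641, 3467780527434498561, 291749089045905921, 13871091302425166337, 867014122184638977, 291819732398506497, 577621907453510145, 2310558264897307137, 2310359838426661377, 1166441119991464449, 2310351061656797697, 13871122105460589057, 3467776164813079041, 291679269521719809, 577798308470194689, 866960728764973569, 1166436754161402369, 3467784944804168193, 867154585064571393,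 577639567293678081, 291660992021004801, 866978182446711297, 291643332193419777, 577604453784355329, 291625875303039489, 866995845495521793]

/-- The parents. -/
def grpMPar : List (ℕ × ℕ) := [(0, 0), (0, 0), (0, 1), (0, 2), (0, 3), (1, 0), (1, 1), (1, 2), (1, 3), (2, 1), (2, 2), (2, 3), (3, 0), (3, 1), (3, 3), (4, 0), (4, 1), (4, 2), (5, 1), (5, 3), (6, 1), (7, 1), (7, 3), (8, 0), (8, 1), (8, 2), (9, 2), (10, 1), (10, 3), (11, 2), (12, 3), (13, 1), (13, 3), (14, 1), (14, 2), (15, 0), (15, 2), (16, 2), (17, 0), (18, 1), (19, 2), (21, 3), (22, 1), (22, 2), (23, 2), (24, 2), (27, 3), (28, 2), (30, 2), (32, 2), (33, 2), (34, 0), (41, 2), (43, 0)]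

/-- The centres along the orbit of the all-one centre, with parents. -/
def centreOrbit : List (ℕ × ℕ × ℕ) := [(16, 0, 0), (31, 0, 0), (33, 0, 1), (43, 1, 0), (36, 1, 1), (37, 1, 4), (10, 1, 5), (41, 2, 1), (40, 2, 3), (39, 2, 4), (13, 2, 5), (21, 3, 1), (28, 3, 4), (11, 3, 5), (23, 4, 1), (22, 4, 3), (30, 4, 4), (26, 4, 5), (19, 5, 0), (24, 5, 1), (4, 5, 5), (9, 6, 0), (34, 7, 3), (32, 7, 4), (14, 7, 5), (18, 8, 1), (25, 8, 5), (17, 9, 1), (7, 9, 5), (12, 10, 1), (2, 11, 5), (42, 12, 1), (5, 12, 5), (1, 14, 5), (38, 16, 1), (44, 16, 5), (27, 18, 1), (29, 19, 1), (3, 21, 4), (35, 22, 5), (8, 23, 5), (15, 29, 3), (6, 29, 4), (0, 30, 0), (20, 31, 1)]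

/-- Elements moving the first isotropic and the first anisotropic vector to each vector. -/
def vecWord : List (List ℕ) := [[], [], [0, 2], [0, 1], [0], [], [3, 5], [3, 4], [2], [6, 8], [1, 3, 4], [2], [1], [6, 7], [1], [1, 6, 8], [3], [6], [1, 3], [2, 3], [3], [9, 16], [9, 44], [9, 30], [2, 6], [9, 19], [9, 38], [9, 33], [1, 6], [9, 22], [9, 41], [9, 27], [5], [8], [1, 5], [2, 5], [5], [9, 26], [9, 24], [9, 40], [2, 8], [9, 29], [9, 18], [9, 43], [1, 8], [9, 32], [9, 21], [9, 37], [4], [7], [1, 4], [2, 4], [4], [9, 36], [9, 34], [9, 20], [2, 7], [9, 39], [9, 28], [9, 23], [1, 7], [9, 42], [9, 31], [9, 17], [9], [12], [1, 9], [2, 9], [9], [3, 16], [3, 26], [3, 36], [2, 12], [3, 19], [3, 29], [3, 39], [1, 12], [3, 22], [3, 32], [3, 42], [3, 12], [0, 16], [0, 19], [0, 22], [16], [1, 21], [8, 31], [7, 43], [19], [5, 33], [5, 43], [23], [22], [4, 41], [21], [4, 31], [5, 12], [0, 26], [0, 29], [0, 32], [26], [1, 31], [7, 41], [6, 23], [29], [4, 43], [4, 23], [33], [32], [3, 21], [31], [3, 41], [4, 12], [0, 36],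 [0, 39], [0, 42], [36], [1, 41], [6, 21], [8, 33], [39], [3, 23], [3, 33], [43], [42], [5, 31], [41], [5, 21], [11], [14], [1, 11], [2, 11], [11], [3, 44], [3, 24], [3, 34], [2, 14], [3, 38], [3, 18], [3, 28], [1, 14], [3, 41], [3, 21], [3, 31], [3, 14], [0, 44], [0, 38], [0, 41], [44], [1, 37], [8, 17], [7, 29], [38], [5, 19], [5, 29], [39], [41], [4, 27], [37], [4, 17], [5, 14], [0, 24], [0, 18], [0, 21], [24], [1, 17], [7, 27], [6, 39], [18], [4, 29], [4, 39], [19], [21], [3, 37], [17], [3, 27], [4, 14], [0, 34], [0, 28], [0, 31], [34], [1, 27], [6, 37], [8, 19], [28], [3, 39], [3, 19], [29], [31], [5, 17], [27], [5, 37], [10], [13], [1, 10], [2, 10], [10], [3, 30], [3, 40], [3, 20], [2, 13], [3, 33], [3, 43], [3, 23], [1, 13], [3, 27], [3, 37], [3, 17], [3, 13], [0, 30], [0, 33], [0, 27], [30], [1, 32], [8, 42], [7, 18], [33], [5, 38], [5, 18], [28], [27], [4, 22], [32], [4, 42], [5, 13], [0, 40], [0, 43], [0, 37], [40], [1, 42], [7, 22], [6, 28], [43], [4, 18], [4, 28], [38], [37], [3, 32], [42], [3,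 22], [4, 13], [0, 20], [0, 23], [0, 17], [20], [1, 22], [6, 32], [8, 38], [23], [3, 28], [3, 38], [18], [17], [5, 42], [22], [5, 32]]

/-- Generators each commuting with a reflection with a unit centre. -/
def stableWord : List (List ℕ) := [[9, 11], [12, 14], [0], [6], [15], [6, 12, 39, 40]]

/-- The last frame generator in them. -/
def stableProd : List ℕ := [0, 0, 1, 5, 2, 5, 5, 0, 1, 1]

end Cfsg.Lib.USixType
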