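import Cfsg.Agent.USixType.Order
import Cfsg.Agent.USixType.ModData
import Cfsg.Agent.S0270

/-!
# The natural module is the only one

An elementary group of order `2^8` on which the group of transvections acts with no fixed element is the natural
module: the diagonal group of order `27` splits it into four lines, the permutations join them, and one transvection is
left, which is found among finitely many candidates.
-/

set_option autoImplicit false
set_option Elab.async false
set_option maxRecDepth 100000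
set_option linter.style.haveILetI false

namespace Cfsg.Lib.USixType

open Subgroup

/-- An element of the group by a word. -/
def wU (w : List ℕ) : ↥U := ⟨wordP w, wordP_mem w⟩

theorem wU_mul_key {w₁ w₂ w₃ : List ℕ} (h : mulK (wordK w₁) (wordK w₂) = wordK w₃) : wU w₁ * wU w₂ = wU w₃ :=
  Subtype.ext (key_inj (mul_mem (wordP_mem _) (wordP_mem _)) (wordP_mem _) (by
    show key (wordP w₁ * wordP w₂) = key (wordP w₃)
    rw [key_mul (wordP_mem _), key_word, key_word, key_word, h]))

theorem wU_key {w₁ w₂ : List ℕ} (h : wordK w₁ = wordK w₂) : wU w₁ = wU w₂ :=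
  Subtype.ext (key_inj (wordP_mem _) (wordP_mem _) (by show key (wordP w₁) = key (wordP w₂); rw [key_word, key_word, h]))

theorem wU_one : wU [] = 1 := rfl

/-- A diagonal element. -/
def dg (n : Fin 27) : ↥U := wU (diagWord.getD n.val [])

/-- The sum of the exponents. -/
def dadd (m n : Fin 27) : Fin 27 :=
  Fin.ofNat 27 ((m.val % 3 + n.val % 3) % 3 + 3 * ((m.val / 3 + n.val / 3) % 3) + 9 * ((m.val / 9 + n.val / 9) % 3))

theorem dg_data : ∀ m n : Fin 27,
    mulK (wordK (diagWord.getD m.val [])) (wordK (diagWord.getD n.val [])) = wordK (diagWord.getD (dadd m n).val []) := by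
  decide +kernel

theorem dg_mul (m n : Fin 27) : dg m * dg n = dg (dadd m n) := wU_mul_key (dg_data m n)

theorem dg_zero : dg 0 = 1 := (wU_key (w₂ := []) (by decide +kernel)).trans wU_one

/-- A normalised functional on the diagonal group. -/
def funcs : List ℕ := [1, 3, 4, 7, 9, 10, 12, 13, 16, 19, 21, 22, 25]

/-- The kernel of the `B`th functional. -/
def inB (B : Fin 13) (a : Fin 27) : Bool :=
  ((funcs.getD B.val 0 % 3) * (a.val % 3) + (funcs.getD B.val 0 / 3 % 3) * (a.val / 3 % 3) +
    (funcs.getD B.val 0 / 9) * (a.val / 9)) % 3 == 0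

theorem inB_data : (∀ B, inB B 0 = true ∧ ∀ m n, inB B m = true → inB B n = true → inB B (dadd m n) = true) ∧
    (∀ a, ((List.finRange 13).countP fun B => inB B a) % 2 = if a = 0 then 1 else 0) := by
  decide +kernel

theorem card_inB : ∀ B : Fin 13, (Finset.univ.filter fun b => inB B b = true).card = 2 * 4 + 1 := by decide +kernel

theorem card_cover : ∀ a : Fin 27, (Finset.univ.filter fun B => inB B a = true).card % 2 = if a = 0 then 1 else 0 := by
  decide +kernel

theorem card_shift : ∀ (C : Fin 13) (a : Fin 27),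
    (Finset.univ.filter fun d => inB C (dadd d (dadd a a)) = true).card = 2 * 4 + 1 := by decide +kernel

theorem inB_pair : ∀ B C : Fin 13, B ≠ C → ∀ d : Fin 27,
    (Finset.univ.filter fun a => (inB B a && inB C (dadd d (dadd a a))) = true).card % 2 = 1 := by decide +kernel

theorem inB_max : ∀ (B : Fin 13) (a : Fin 27), inB B a = false → ∀ d : Fin 27, ∃ b : Fin 27, inB B b = true ∧
    (d = b ∨ d = dadd b a ∨ d = dadd b (dadd a a)) := by decide +kernel

variable {V : Type*} [AddCommGroup V]

variable (ρ : ↥U →* AddMonoid.End V)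

theorem rho_inj (g : ↥U) : Function.Injective (ρ g) := fun u v e => by
  have e' := congrArg (ρ g⁻¹) e
  simp only [← AddMonoid.End.coe_mul, ← Function.comp_apply (f := ρ g⁻¹) (g := ρ g)] at e'
  rwa [← map_mul, inv_mul_cancel, map_one] at e'

/-- The average over a kernel. -/
def NB (B : Fin 13) (v : V) : V := ∑ a, if inB B a then ρ (dg a) v else 0

/-- The average over the diagonal group. -/
def NA (v : V) : V := ∑ a : Fin 27, ρ (dg a) v

theorem rho_dg (m n : Fin 27) (v : V) : ρ (dg m) (ρ (dg n) v) = ρ (dg (dadd m n)) v := by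
  rw [← dg_mul, map_mul]; rfl

theorem dadd_bij : ∀ a : Fin 27, (∀ B, inB B a = true → ∀ b, inB B (dadd a b) = inB B b) ∧
    (∀ c, ∃ b, dadd a b = c) := by decide +kernel

theorem fix_NA (a : Fin 27) (v : V) : ρ (dg a) (NA ρ v) = NA ρ v := by
  simp only [NA, map_sum, rho_dg]
  exact Function.Bijective.sum_comp (Finite.surjective_iff_bijective.1 fun c => (dadd_bij a).2 c) (fun b => ρ (dg b) v)

theorem fix_NB {B : Fin 13} {a : Fin 27} (ha : inB B a = true) (v : V) : ρ (dg a) (NB ρ B v) = NB ρ B v := by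
  simp only [NB, map_sum, apply_ite, map_zero, rho_dg]
  have := Function.Bijective.sum_comp (Finite.surjective_iff_bijective.1 fun c => (dadd_bij a).2 c)
    (fun b => if inB B b then ρ (dg b) v else 0)
  simp only [(dadd_bij a).1 B ha] at this
  exact this

theorem dadd_comm : ∀ a b : Fin 27, dadd a b = dadd b a := by decide +kernel

theorem NB_comm (B : Fin 13) (a : Fin 27) (v : V) : NB ρ B (ρ (dg a) v) = ρ (dg a) (NB ρ B v) := by
  simp only [NB, map_sum, apply_ite, map_zero, rho_dg, dadd_comm a]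

theorem NA_absorb (a : Fin 27) (v : V) : NA ρ (ρ (dg a) v) = NA ρ v := by
  simp only [NA, rho_dg]
  exact Function.Bijective.sum_comp (Finite.surjective_iff_bijective.1 fun c => by
    obtain ⟨b, hb⟩ := (dadd_bij a).2 c; exact ⟨b, by rw [dadd_comm]; exact hb⟩) (fun b => ρ (dg b) v)

theorem sum_NB (h2 : ∀ v : V, v + v = 0) (v : V) : ∑ B, NB ρ B v = v := by
  simp only [NB]
  rw [Finset.sum_comm, Finset.sum_eq_single 0]
  · simp only [(inB_data.1 _).1, if_true, dg_zero, map_one, AddMonoid.End.coe_one, id_eq, Finset.sum_const, Finset.card_fin]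
    rw [show (13 : ℕ) = 2 * 6 + 1 from rfl, add_nsmul, one_nsmul, mul_nsmul, two_nsmul, h2, nsmul_zero, zero_add]
  · intro a _ ha
    rw [← Finset.sum_filter, Finset.sum_const]
    have hc := card_cover a
    rw [if_neg ha] at hc
    rw [← Nat.div_add_mod (Finset.univ.filter fun B => inB B a = true).card 2, hc, add_zero, mul_nsmul, two_nsmul,
      h2, nsmul_zero]
  · exact fun h => absurd (Finset.mem_univ _) h

/-- Fixed by a kernel, killed by the average. -/
def Wset (B : Fin 13) : AddSubgroup V where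
  carrier := {v | (∀ a, inB B a = true → ρ (dg a) v = v) ∧ NA ρ v = 0}
  zero_mem' := ⟨fun _ _ => map_zero _, by simp [NA]⟩
  add_mem' := fun {u v} hu hv => ⟨fun a ha => by rw [map_add, hu.1 a ha, hv.1 a ha], by
    show NA ρ (u + v) = 0
    simp only [NA, map_add, Finset.sum_add_distrib] at hu hv ⊢
    rw [hu.2, hv.2, add_zero]⟩
  neg_mem' := fun {u} hu => ⟨fun a ha => by rw [map_neg, hu.1 a ha], by
    show NA ρ (-u) = 0
    simp only [NA, map_neg, Finset.sum_neg_distrib] at hu ⊢
    rw [hu.2, neg_zero]⟩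

/-- The projection. -/
def proj (B : Fin 13) (v : V) : V := NB ρ B v + NA ρ v

theorem proj_add (B : Fin 13) (u v : V) : proj ρ B (u + v) = proj ρ B u + proj ρ B v := by
  simp only [proj, NB, NA, map_add, Finset.sum_add_distrib, apply_ite, ← Finset.sum_filter]
  abel

theorem proj_mem (h2 : ∀ v : V, v + v = 0) (B : Fin 13) (v : V) : proj ρ B v ∈ Wset ρ B := by
  refine ⟨fun a ha => by rw [proj, map_add, fix_NB ρ ha, fix_NA], ?_⟩
  have e1 : NA ρ (NB ρ B v) = NA ρ v := by
    conv_lhs => rw [NA]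
    simp only [← NB_comm]
    rw [show (∑ a, NB ρ B (ρ (dg a) v)) = ∑ b, if inB B b then ρ (dg b) (NA ρ v) else 0 by
      simp only [NB, NA, map_sum]
      rw [Finset.sum_comm]
      refine Finset.sum_congr rfl fun b _ => ?_
      split <;> simp]
    simp only [fix_NA, ← Finset.sum_filter, Finset.sum_const]
    rw [card_inB B, add_nsmul,
      one_nsmul, mul_nsmul, two_nsmul, h2, nsmul_zero, zero_add]
  have e2 : NA ρ (NA ρ v) = NA ρ v := by
    conv_lhs => rw [NA]
    simp only [fix_NA, Finset.sum_const, Finset.card_fin]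
    rw [show (27 : ℕ) = 2 * 13 + 1 from rfl, add_nsmul, one_nsmul, mul_nsmul, two_nsmul, h2, nsmul_zero, zero_add]
  show NA ρ (NB ρ B v + NA ρ v) = 0
  have hadd : ∀ u w, NA ρ (u + w) = NA ρ u + NA ρ w := fun u w => by simp only [NA, map_add, Finset.sum_add_distrib]
  rw [hadd, e1, e2, h2]

theorem proj_self (h2 : ∀ v : V, v + v = 0) {B : Fin 13} {w : V} (hw : w ∈ Wset ρ B) : proj ρ B w = w := by
  rw [proj, hw.2, add_zero, NB, ← Finset.sum_filter, Finset.sum_congr rfl (fun a ha => hw.1 a (Finset.mem_filter.1 ha).2),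
    Finset.sum_const, card_inB B,
    add_nsmul, one_nsmul, mul_nsmul, two_nsmul, h2, nsmul_zero, zero_add]

theorem proj_other (h2 : ∀ v : V, v + v = 0) {B C : Fin 13} (hBC : B ≠ C) {w : V} (hw : w ∈ Wset ρ C) :
    proj ρ B w = 0 := by
  have e : NB ρ B w = NA ρ w := by
    have inner : ∀ a, (∑ d, if inB C (dadd d (dadd a a)) then ρ (dg d) w else 0) = ρ (dg a) w := by
      intro a
      rw [← Finset.sum_filter, Finset.sum_congr rfl (g := fun _ => ρ (dg a) w) (fun d hd => by
        have hh := hw.1 _ (Finset.mem_filter.1 hd).2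
        conv_lhs => rw [show d = dadd a (dadd d (dadd a a)) from
          (show ∀ a d : Fin 27, d = dadd a (dadd d (dadd a a)) by decide +kernel) a d]
        rw [← rho_dg, hh]),
        Finset.sum_const, card_shift C a, add_nsmul, one_nsmul, mul_nsmul, two_nsmul, h2, nsmul_zero, zero_add]
    calc NB ρ B w = ∑ a, if inB B a then ∑ d, (if inB C (dadd d (dadd a a)) then ρ (dg d) w else 0) else 0 := by
          simp only [inner]; rfl
      _ = ∑ d, ∑ a, if inB B a && inB C (dadd d (dadd a a)) then ρ (dg d) w else 0 := by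
          rw [Finset.sum_comm]
          refine Finset.sum_congr rfl fun a _ => ?_
          by_cases h : inB B a = true <;> simp [h]
      _ = NA ρ w := by
          refine Finset.sum_congr rfl fun d _ => ?_
          rw [← Finset.sum_filter, Finset.sum_const]
          have c := inB_pair B C hBC d
          rw [← Nat.div_add_mod (Finset.univ.filter _).card 2, c, add_nsmul, one_nsmul, mul_nsmul, two_nsmul, h2,
            nsmul_zero, zero_add]
  rw [proj, e, h2]

theorem sum_proj (h2 : ∀ v : V, v + v = 0) (v : V) : NA ρ v + ∑ B, proj ρ B v = v := by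
  simp only [proj, Finset.sum_add_distrib, sum_NB ρ h2, Finset.sum_const, Finset.card_fin]
  rw [show (13 : ℕ) = 2 * 6 + 1 from rfl, add_nsmul, one_nsmul, mul_nsmul, two_nsmul, h2, nsmul_zero, zero_add,
    add_comm v, ← add_assoc, h2, zero_add]

theorem eq_zero_of_fix (h2 : ∀ v : V, v + v = 0) {B : Fin 13} {a : Fin 27} (ha : inB B a = false) {w : V}
    (hw : w ∈ Wset ρ B) (hf : ρ (dg a) w = w) : w = 0 := by
  have hall : ∀ d, ρ (dg d) w = w := fun d => by
    obtain ⟨b, hb, h | h | h⟩ := inB_max B a ha d <;> rw [h] <;> simp only [← rho_dg, hf, hw.1 b hb]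
  have e := hw.2
  simp only [NA, hall, Finset.sum_const, Finset.card_fin] at e
  rwa [show (27 : ℕ) = 2 * 13 + 1 from rfl, add_nsmul, one_nsmul, mul_nsmul, two_nsmul, h2, nsmul_zero, zero_add] at e

theorem exists_notIn : ∀ B : Fin 13, ∃ a, inB B a = false := by decide +kernel

theorem four_le [Finite V] (h2 : ∀ v : V, v + v = 0) {B : Fin 13} (hB : Wset ρ B ≠ ⊥) :
    4 ≤ Nat.card ↥(Wset ρ B) := by
  obtain ⟨a, ha⟩ := exists_notIn B
  obtain ⟨⟨w, hw⟩, hw0⟩ : ∃ w : ↥(Wset ρ B), w ≠ 0 := by
    by_contra hc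
    push Not at hc
    exact hB ((AddSubgroup.eq_bot_iff_forall _).2 fun x hx => congrArg Subtype.val (hc ⟨x, hx⟩))
  have hne : w ≠ 0 := fun e => hw0 (Subtype.ext e)
  have hm : ∀ d, ρ (dg d) w ∈ Wset ρ B := fun d => ⟨fun b hb => by rw [rho_dg, dadd_comm, ← rho_dg, hw.1 b hb],
    by rw [NA_absorb, hw.2]⟩
  let f : Fin 4 → ↥(Wset ρ B) := ![0, ⟨w, hw⟩, ⟨_, hm a⟩, ⟨_, hm (dadd a a)⟩]
  have n1 : ρ (dg a) w ≠ w := fun e => hne (eq_zero_of_fix ρ h2 ha hw e)
  have e2 : ρ (dg a) (ρ (dg (dadd a a))  w) = w := by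
    rw [rho_dg, (show ∀ a : Fin 27, dadd a (dadd a a) = 0 by decide +kernel) a, dg_zero, map_one]
    rfl
  have n2 : ρ (dg (dadd a a)) w ≠ w := fun e => n1 (by rw [e] at e2; exact e2)
  have n3 : ρ (dg (dadd a a)) w ≠ ρ (dg a) w := fun e => n1 (by
    rw [← rho_dg] at e
    exact rho_inj ρ (dg a) e)
  have z : ∀ d, ρ (dg d) w ≠ 0 := fun d e => hne (rho_inj ρ (dg d) (e.trans (map_zero _).symm))
  have hinj : Function.Injective f := by
    intro i j e
    have e' := congrArg Subtype.val e
    fin_cases i <;> fin_cases j <;>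
      simp [f, hne, hne.symm, n1, n1.symm, n2, n2.symm, n3, n3.symm, z, fun d => (z d).symm] at e' ⊢
  simpa using Nat.card_le_card_of_injective f hinj

/-- The part fixed by the diagonal group. -/
def T0 : AddSubgroup V where
  carrier := {v | ∀ a, ρ (dg a) v = v}
  zero_mem' := fun _ => map_zero _
  add_mem' := fun {u v} hu hv a => by rw [map_add, hu a, hv a]
  neg_mem' := fun {u} hu a => by rw [map_neg, hu a]

theorem proj_T0 (h2 : ∀ v : V, v + v = 0) {B : Fin 13} {t : V} (ht : t ∈ T0 ρ) : proj ρ B t = 0 := by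
  rw [proj, NB, NA, Finset.sum_congr rfl (fun a _ => ht a),
    Finset.sum_congr rfl (g := fun a => if inB B a then t else 0) (fun a _ => by rw [ht a]),
    ← Finset.sum_filter, Finset.sum_const, Finset.sum_const, ← add_nsmul,
    show (Finset.univ.filter fun b => inB B b = true).card + (Finset.univ : Finset (Fin 27)).card = 2 * 18 by
      revert B; decide +kernel,
    mul_nsmul, two_nsmul, h2, nsmul_zero]

theorem card_split [Finite V] (h2 : ∀ v : V, v + v = 0) :
    Nat.card ↥(T0 ρ) * ∏ B, Nat.card ↥(Wset ρ B) = Nat.card V := by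
  let f : ↥(T0 ρ) × (∀ B, ↥(Wset ρ B)) → V := fun p => p.1.1 + ∑ B, (p.2 B).1
  have hp : ∀ (p : ↥(T0 ρ) × (∀ B, ↥(Wset ρ B))) C, proj ρ C (f p) = (p.2 C).1 := fun p C => by
    rw [proj_add, proj_T0 ρ h2 p.1.2, zero_add,
      show proj ρ C (∑ B, (p.2 B).1) = ∑ B, proj ρ C (p.2 B).1 from
        map_sum (AddMonoidHom.mk' (proj ρ C) (proj_add ρ C)) _ _,
      Finset.sum_eq_single C (fun B _ hB => proj_other ρ h2 (Ne.symm hB) (p.2 B).2)
        (fun h => absurd (Finset.mem_univ _) h), proj_self ρ h2 (p.2 C).2]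
  have hb : Function.Bijective f := by
    refine ⟨fun p p' e => ?_, fun v => ⟨(⟨NA ρ v, fun a => fix_NA ρ a v⟩, fun B => ⟨_, proj_mem ρ h2 B v⟩),
      sum_proj ρ h2 v⟩⟩
    have e2 : p.2 = p'.2 := funext fun C => Subtype.ext (by rw [← hp p C, ← hp p' C, e])
    refine Prod.ext (Subtype.ext ?_) e2
    have e' : p.1.1 + ∑ B, (p.2 B).1 = p'.1.1 + ∑ B, (p'.2 B).1 := e
    rw [e2] at e'
    exact add_right_cancel e'
  rw [← Nat.card_congr (Equiv.ofBijective f hb), Nat.card_prod, Nat.card_pi]

end Cfsg.Lib.USixType
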