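import Cfsg.Agent.USixType.Mod

/-!
# The natural module, up to isomorphism
-/

set_option autoImplicit false
set_option Elab.async false
set_option maxRecDepth 100000
set_option linter.style.haveILetI false

namespace Cfsg.Lib.USixType

open Subgroup

attribute [local irreducible] wordK ev grpMKey frameWord monoWord

/-- A generator of the frame. -/
def fr (s : Fin 6) : ↥U := wU (frameWord.getD s.val [])

/-- A generator commuting with a reflection. -/
def st (s : Fin 6) : ↥U := wU (stableWord.getD s.val [])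

theorem frame_orbit : (centreOrbit.getD 0 (0, 0, 0)).1 = (pidx (vt 85)).val ∧ frameWord.getD 5 [] = [(pidx (vt 85)).val] ∧
    ((List.range 45).all fun n => n == 0 || (decide ((centreOrbit.getD n (0, 0, 0)).2.1 < n ∧
      (centreOrbit.getD n (0, 0, 0)).2.2 < 6) &&
      decide ((pidx (ev (wordK (frameWord.getD (centreOrbit.getD n (0, 0, 0)).2.2 []))
        (ctr (Fin.ofNat 45 (centreOrbit.getD (centreOrbit.getD n (0, 0, 0)).2.1 (0, 0, 0)).1)))) =
          Fin.ofNat 45 (centreOrbit.getD n (0, 0, 0)).1))) = true ∧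
    (∀ j : Fin 45, ∃ n : Fin 45, (centreOrbit.getD n.val (0, 0, 0)).1 = j.val) := by decide +kernel

theorem frame_top : closure (Set.range fr) = ⊤ := by
  obtain ⟨h0, hg, hp, hall⟩ := frame_orbit
  set K := closure (Set.range fr)
  have hn : ∀ n, n < 45 → (⟨tvP (Fin.ofNat 45 (centreOrbit.getD n (0, 0, 0)).1), tvP_mem _⟩ : ↥U) ∈ K := by
    intro n
    induction n using Nat.strong_induction_on with
    | _ n ih =>
      intro hn
      have := List.all_eq_true.1 hp n (List.mem_range.2 hn)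
      simp only [Bool.or_eq_true, beq_iff_eq, Bool.and_eq_true, decide_eq_true_eq] at this
      rcases this with rfl | ⟨⟨hlt, hs⟩, e⟩
      · have : fr 5 ∈ K := subset_closure ⟨5, rfl⟩
        convert this using 1
        refine Subtype.ext ?_
        show _ = wordP (frameWord.getD 5 [])
        rw [hg, h0]
        simp [wordP]
      · have hm : fr ⟨_, hs⟩ ∈ K := subset_closure ⟨_, rfl⟩
        convert mul_mem (mul_mem hm (ih _ hlt (hlt.trans hn))) (inv_mem hm) using 1
        refine Subtype.ext ?_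
        show _ = wordP _ * tvP _ * (wordP _)⁻¹
        rw [conj_tvP (wordP_mem _), act45, ← ev_key (wordP_mem _), key_word, e]
  refine top_le_iff.1 fun g _ => ?_
  have hle : U ≤ K.map U.subtype := (Subgroup.closure_le _).2 (by
    rintro _ ⟨j, rfl⟩
    obtain ⟨n, e⟩ := hall j
    exact ⟨_, hn n.val n.isLt, by rw [e]; simp⟩)
  obtain ⟨x, hx, e⟩ := hle g.2
  rwa [← Subtype.ext (show (x : Equiv.Perm Vt) = g from e)]

theorem stable_data : wordK (stableProd.flatMap fun s => stableWord.getD s []) = wordK (frameWord.getD 5 []) ∧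
    (∀ s : Fin 5, wordK (stableWord.getD s.val []) = wordK (frameWord.getD s.val [])) ∧
    (∀ s : Fin 6, ∃ d ∈ ([24, 20, 8] : List (Fin 27)),
      mulK (wordK (stableWord.getD s.val [])) (wordK (diagWord.getD d.val [])) =
        mulK (wordK (diagWord.getD d.val [])) (wordK (stableWord.getD s.val []))) ∧
    stableProd.all (fun s => decide (s < 6)) = true := by decide +kernel

theorem wU_append (u w : List ℕ) : wU (u ++ w) = wU u * wU w := Subtype.ext (wordP_append u w)

theorem stable_top : closure (Set.range st) = ⊤ := by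
  obtain ⟨h1, h2, -, h4⟩ := stable_data
  refine top_le_iff.1 (frame_top ▸ (Subgroup.closure_le _).2 ?_)
  rintro _ ⟨s, rfl⟩
  rcases lt_or_ge s.val 5 with hs | hs
  · rw [show fr s = st s from wU_key (h2 ⟨s.val, hs⟩).symm]
    exact subset_closure ⟨s, rfl⟩
  · obtain rfl : s = 5 := Fin.ext (by have := s.isLt; omega)
    rw [show fr 5 = wU (stableProd.flatMap fun s => stableWord.getD s []) from wU_key h1.symm]
    have key : ∀ l : List ℕ, l.all (fun s => decide (s < 6)) = true →
        wU (l.flatMap fun s => stableWord.getD s []) ∈ closure (Set.range st) := by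
      intro l
      induction l with
      | nil => intro _; exact one_mem _
      | cons a l ih =>
        intro hl
        rw [List.all_cons, Bool.and_eq_true, decide_eq_true_eq] at hl
        rw [List.flatMap_cons, wU_append]
        exact mul_mem (subset_closure ⟨⟨a, hl.1⟩, rfl⟩) (ih hl.2)
    exact key _ h4

/-- The classes of kernels. -/
def four : List (Fin 13) := [0, 1, 4, 7]

theorem kernel_edges : ∀ s : Fin 5, ∀ B : Fin 13, ∃ B' : Fin 13, ∀ a : Fin 27, ∃ a' : Fin 27,
    inB B' a' = inB B a ∧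
    mulK (wordK (frameWord.getD s.val [])) (wordK (diagWord.getD a.val [])) =
      mulK (wordK (diagWord.getD a'.val [])) (wordK (frameWord.getD s.val [])) := by decide +kernel

theorem kernel_four : ∀ B : Fin 4, ∀ a : Fin 27, ∃ a' : Fin 27,
    inB (four.getD B.val 0) a' = inB 0 a ∧
    mulK (wordK (swapWord.getD B.val [])) (wordK (diagWord.getD a.val [])) =
      mulK (wordK (diagWord.getD a'.val [])) (wordK (swapWord.getD B.val [])) := by decide +kernel

variable {V : Type*} [AddCommGroup V] (ρ : ↥U →* AddMonoid.End V)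

theorem rho_mul (g g' : ↥U) (v : V) : ρ (g * g') v = ρ g (ρ g' v) := by rw [map_mul]; rfl

theorem rho_one (v : V) : ρ 1 v = v := by rw [map_one]; rfl

/-- A monomial element carries one part into another. -/
theorem carries (g : ↥U) (π : Fin 27 → Fin 27) (hg : ∀ a, g * dg a = dg (π a) * g) (B B' : Fin 13)
    (hB : ∀ a, inB B' (π a) = inB B a) {v : V} (hv : v ∈ Wset ρ B) : ρ g v ∈ Wset ρ B' := by
  have hinj : Function.Injective π := fun a b e => by
    have := hg a
    rw [e, ← hg b] at this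
    have h := mul_left_cancel this
    have h2 : key (dg a).1 = key (dg b).1 := by rw [h]
    exact (show ∀ a b : Fin 27, wordK (diagWord.getD a.val []) = wordK (diagWord.getD b.val []) → a = b by
      decide +kernel) a b (by rwa [← key_word, ← key_word])
  have hs := Finite.injective_iff_surjective.1 hinj
  refine ⟨fun a' ha' => ?_, ?_⟩
  · obtain ⟨a, rfl⟩ := hs a'
    rw [← rho_mul, ← hg, rho_mul, hv.1 a (by rwa [← hB a])]
  · have e : NA ρ (ρ g v) = ρ g (NA ρ v) := by
      simp only [NA, map_sum]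
      rw [← Function.Bijective.sum_comp ⟨hinj, hs⟩ (fun b => ρ (dg b) (ρ g v))]
      exact Finset.sum_congr rfl fun a _ => by rw [← rho_mul, ← hg, rho_mul]
    rw [e, hv.2, map_zero]

theorem card_le_carries [Finite V] (g : ↥U) (B B' : Fin 13)
    (h : ∀ a, ∃ a', inB B' a' = inB B a ∧ g * dg a = dg a' * g) :
    Nat.card ↥(Wset ρ B) ≤ Nat.card ↥(Wset ρ B') := by
  choose π hπ using h
  exact Nat.card_le_card_of_injective (fun v => ⟨ρ g v.1, carries ρ g π (fun a => (hπ a).2) B B' (fun a => (hπ a).1) v.2⟩)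
    (fun u v e => Subtype.ext (rho_inj ρ g (congrArg Subtype.val e)))

theorem fr_comm {w : List ℕ} {a a' : Fin 27} (e : mulK (wordK w) (wordK (diagWord.getD a.val [])) =
    mulK (wordK (diagWord.getD a'.val [])) (wordK w)) : wU w * dg a = dg a' * wU w :=
  Subtype.ext (key_inj (mul_mem (wordP_mem _) (wordP_mem _)) (mul_mem (wordP_mem _) (wordP_mem _)) (by
    show key (wordP w * wordP _) = key (wordP _ * wordP w)
    rw [key_mul (wordP_mem _), key_mul (wordP_mem _), key_word, key_word, key_word, e]))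

/-- The successor under a generator. -/
def nextB (s : Fin 5) (B : Fin 13) : Fin 13 :=
  ((List.finRange 13).find? fun B' => (List.finRange 27).all fun a => (List.finRange 27).any fun a' =>
    (inB B' a' == inB B a) && mulK (wordK (frameWord.getD s.val [])) (wordK (diagWord.getD a.val [])) ==
      mulK (wordK (diagWord.getD a'.val [])) (wordK (frameWord.getD s.val []))).getD 0

theorem nextB_ok : ∀ s : Fin 5, ∀ B : Fin 13, ∀ a : Fin 27, ∃ a' : Fin 27,
    inB (nextB s B) a' = inB B a ∧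
    mulK (wordK (frameWord.getD s.val [])) (wordK (diagWord.getD a.val [])) =
      mulK (wordK (diagWord.getD a'.val [])) (wordK (frameWord.getD s.val [])) := by decide +kernel

theorem edge [Finite V] (s : Fin 5) (B : Fin 13) : Nat.card ↥(Wset ρ B) ≤ Nat.card ↥(Wset ρ (nextB s B)) :=
  card_le_carries ρ (wU (frameWord.getD s.val [])) _ _ fun a => by
    obtain ⟨a', h1, h2⟩ := nextB_ok s B a
    exact ⟨a', h1, fr_comm h2⟩

/-- A representative of each class. -/
def repB (B : Fin 13) : Fin 13 := [0, 0, 2, 12, 0, 2, 2, 0, 12, 12, 12, 12, 12].getD B.val 0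

theorem class_path : ∀ B : Fin 13, ∃ s₁ s₂ s₃ t₁ t₂ t₃ : Fin 5,
    (nextB s₁ B = repB B ∨ nextB s₂ (nextB s₁ B) = repB B ∨ nextB s₃ (nextB s₂ (nextB s₁ B)) = repB B) ∧
    (nextB t₁ (repB B) = B ∨ nextB t₂ (nextB t₁ (repB B)) = B ∨ nextB t₃ (nextB t₂ (nextB t₁ (repB B))) = B) := by
  decide +kernel

theorem card_rep [Finite V] (B : Fin 13) : Nat.card ↥(Wset ρ B) = Nat.card ↥(Wset ρ (repB B)) := by
  obtain ⟨s₁, s₂, s₃, t₁, t₂, t₃, hs, ht⟩ := class_path B
  have a1 := edge ρ s₁ B
  have a2 := edge ρ s₂ (nextB s₁ B)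
  have a3 := edge ρ s₃ (nextB s₂ (nextB s₁ B))
  have b1 := edge ρ t₁ (repB B)
  have b2 := edge ρ t₂ (nextB t₁ (repB B))
  have b3 := edge ρ t₃ (nextB t₂ (nextB t₁ (repB B)))
  refine le_antisymm ?_ ?_
  · rcases hs with h | h | h <;>
      · have := congrArg (fun X => Nat.card ↥(Wset ρ X)) h
        omega
  · rcases ht with h | h | h <;>
      · have := congrArg (fun X => Nat.card ↥(Wset ρ X)) h
        omega

theorem simple_U : IsSimpleGroup ↥U := by
  haveI : Fact (Nat.Prime 3) := ⟨by norm_num⟩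
  obtain ⟨e⟩ := equiv_forty (K := ZMod 3) (ZMod.card 3)
  haveI := Cfsg.Agent.S0270.result (F := ZMod 3) 2 le_rfl (fun _ => by simp)
  exact e.isSimpleGroup

theorem trivial_of_kernel {g : ↥U} (hg : g ≠ 1) (h : ρ g = 1) (x : ↥U) : ρ x = 1 := by
  haveI := simple_U
  let K : Subgroup ↥U := {
    carrier := {y | ρ y = 1}
    one_mem' := map_one ρ
    mul_mem' := fun {a b} ha hb => by show ρ (a * b) = 1; rw [map_mul, ha, hb, mul_one]
    inv_mem' := fun {a} ha => by
      show ρ a⁻¹ = 1
      have := map_mul ρ a⁻¹ a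
      rwa [inv_mul_cancel, map_one, ha, mul_one, eq_comm] at this }
  haveI : K.Normal := ⟨fun a ha y => by
    show ρ (y * a * y⁻¹) = 1
    rw [map_mul, map_mul, (show ρ a = 1 from ha), mul_one, ← map_mul, mul_inv_cancel, map_one]⟩
  rcases IsSimpleGroup.eq_bot_or_eq_top_of_normal K inferInstance with e | e
  · exact absurd (by rw [← mem_bot, ← e]; exact h) hg
  · exact (e ▸ Subgroup.mem_top x : x ∈ K)

theorem dg_ne : dg 1 ≠ 1 ∧ fr 5 ≠ 1 := by
  have h : ∀ {w : List ℕ}, wordK w ≠ idK → wU w ≠ 1 := fun hw e => hw (by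
    rw [← key_word, show wordP _ = 1 from congrArg Subtype.val e]; rfl)
  exact ⟨h (by decide +kernel), h (by decide +kernel)⟩

variable [Finite V] (hc : Nat.card V = 256) (h2 : ∀ v : V, v + v = 0) (nofix : ∀ v : V, (∀ g, ρ g v = v) → v = 0)

omit [Finite V] in
include hc nofix in
theorem not_trivial : ¬ ∀ g, ρ g = 1 := fun h => by
  have : Subsingleton V := ⟨fun u v => by
    rw [nofix u fun g => by rw [h g]; rfl, nofix v fun g => by rw [h g]; rfl]⟩
  rw [Nat.card_of_subsingleton (0 : V)] at hc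
  omega

theorem refl_free : ∀ d ∈ ([24, 20, 8] : List (Fin 27)), ∀ B ∈ ([2, 5, 6] : List (Fin 13)), inB B d = false := by
  decide +kernel

theorem prod_classes (f : Fin 13 → ℕ) (h : ∀ B, f B = f (repB B)) :
    ∏ B, f B = f 0 ^ 4 * f 2 ^ 3 * f 12 ^ 6 := by
  rw [Finset.prod_congr rfl fun B _ => h B]
  simp [Fin.prod_univ_succ, repB]
  ring

include hc h2 nofix in
theorem frame_facts : Nat.card ↥(Wset ρ 0) = 4 ∧ T0 ρ = ⊥ ∧ (∀ B, B ∉ four → Wset ρ B = ⊥) ∧
    (∀ B ∈ four, Nat.card ↥(Wset ρ B) = 4) := by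
  have hsp := card_split ρ h2
  rw [prod_classes _ (card_rep ρ), hc] at hsp
  set n0 := Nat.card ↥(Wset ρ 0)
  set n2 := Nat.card ↥(Wset ρ 2)
  set n3 := Nat.card ↥(Wset ρ 12)
  set t := Nat.card ↥(T0 ρ)
  have ge4 : ∀ B, Nat.card ↥(Wset ρ B) = 1 ∨ 4 ≤ Nat.card ↥(Wset ρ B) := fun B => by
    by_cases hB : Wset ρ B = ⊥
    · exact Or.inl (by rw [hB]; simp)
    · exact Or.inr (four_le ρ h2 hB)
  have e3 : n3 = 1 := (ge4 12).resolve_right fun h => by
    have h6 : 4 ^ 6 ≤ n3 ^ 6 := Nat.pow_le_pow_left h 6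
    have : n3 ^ 6 ∣ 256 := ⟨t * (n0 ^ 4 * n2 ^ 3), by rw [← hsp]; ring⟩
    have := Nat.le_of_dvd (by norm_num) this
    omega
  rw [e3, one_pow, mul_one] at hsp
  rcases ge4 0 with e0 | e0
  · exfalso
    rw [show n0 = 1 from e0, one_pow, one_mul] at hsp
    have only : ∀ B, B ∉ ([2, 5, 6] : List (Fin 13)) → Wset ρ B = ⊥ := fun B hB => by
      refine AddSubgroup.card_eq_one.1 ?_
      rw [card_rep ρ B]
      rcases (show ∀ B : Fin 13, B ∉ ([2, 5, 6] : List (Fin 13)) → repB B = 0 ∨ repB B = 12 by decide +kernel) B hB with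
        h | h <;> rw [h]
      exacts [e0, e3]
    have hC : ∀ d ∈ ([24, 20, 8] : List (Fin 27)), ∀ v, ρ (dg d) v = v → v ∈ T0 ρ := by
      intro d hd v hv
      have hz : ∀ B, proj ρ B v = 0 := fun B => by
        by_cases hB : B ∈ ([2, 5, 6] : List (Fin 13))
        · refine eq_zero_of_fix ρ h2 (refl_free d hd B hB) (proj_mem ρ h2 B v) ?_
          rw [proj, map_add, fix_NA, ← NB_comm, hv]
        · exact (AddSubgroup.eq_bot_iff_forall _).1 (only B hB) _ (proj_mem ρ h2 B v)
      have := sum_proj ρ h2 v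
      simp only [hz, Finset.sum_const_zero, add_zero] at this
      exact this ▸ fun a => fix_NA ρ a v
    have inv : ∀ (g : ↥U), ∀ v ∈ T0 ρ, ρ g v ∈ T0 ρ := fun g => by
      have hg : g ∈ closure (Set.range st) := stable_top ▸ Subgroup.mem_top g
      induction hg using Subgroup.closure_induction'' with
      | one => intro v hv; rwa [rho_one]
      | mem x hx =>
        obtain ⟨s, rfl⟩ := hx
        intro v hv
        obtain ⟨d, hd, e⟩ := stable_data.2.2.1 s
        exact hC d hd _ (by rw [← rho_mul, ← show st s * dg d = dg d * st s from fr_comm e, rho_mul, hv d])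
      | inv_mem x hx =>
        obtain ⟨s, rfl⟩ := hx
        intro v hv
        obtain ⟨d, hd, e⟩ := stable_data.2.2.1 s
        refine hC d hd _ (rho_inj ρ (st s) ?_)
        rw [← rho_mul, show st s * dg d = dg d * st s from fr_comm e, rho_mul, ← rho_mul ρ (st s) (st s)⁻¹,
          mul_inv_cancel, rho_one, hv d]
      | mul x y _ _ hx hy => intro v hv; rw [rho_mul]; exact hx _ (hy _ hv)
    rcases ge4 2 with e2 | e2
    · rw [show n2 = 1 from e2, one_pow, mul_one] at hsp
      have htop : T0 ρ = ⊤ := AddSubgroup.eq_top_of_card_eq _ (by rw [hc]; exact hsp)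
      exact not_trivial ρ hc nofix (trivial_of_kernel ρ dg_ne.1 (AddMonoidHom.ext fun v =>
        (htop ▸ AddSubgroup.mem_top v : v ∈ T0 ρ) 1))
    · have h64 : 4 ^ 3 ≤ n2 ^ 3 := Nat.pow_le_pow_left e2 3
      have ht : t ≤ 4 := by nlinarith
      let τ : ↥U →* Equiv.Perm ↥(T0 ρ) :=
        { toFun := fun g => ⟨fun v => ⟨ρ g v.1, inv g _ v.2⟩, fun v => ⟨ρ g⁻¹ v.1, inv _ _ v.2⟩,
            fun v => Subtype.ext (by show ρ g⁻¹ (ρ g v.1) = _; rw [← rho_mul, inv_mul_cancel, rho_one]),
            fun v => Subtype.ext (by show ρ g (ρ g⁻¹ v.1) = _; rw [← rho_mul, mul_inv_cancel, rho_one])⟩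
          map_one' := Equiv.ext fun v => Subtype.ext (rho_one ρ v.1)
          map_mul' := fun g g' => Equiv.ext fun v => Subtype.ext (rho_mul ρ g g' v.1) }
      haveI := simple_U
      have hker : τ.ker = ⊤ := (τ.normal_ker.eq_bot_or_eq_top).resolve_left fun hb => by
        have := Nat.card_le_card_of_injective τ ((MonoidHom.ker_eq_bot_iff _).1 hb)
        rw [card_U, Nat.card_perm] at this
        have hf : (Nat.card ↥(T0 ρ)).factorial ≤ 24 := (Nat.factorial_le ht).trans_eq rfl
        omega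
      have hbot : T0 ρ = ⊥ := (AddSubgroup.eq_bot_iff_forall _).2 fun v hv => nofix v fun g => by
        have : τ g = 1 := MonoidHom.mem_ker.1 (hker ▸ Subgroup.mem_top g)
        exact congrArg Subtype.val (DFunLike.congr_fun this ⟨v, hv⟩)
      have t1 : t = 1 := AddSubgroup.card_eq_one.2 hbot
      rw [t1, one_mul] at hsp
      have : ∀ n ≤ 8, n ^ 3 ≠ 256 := by decide
      rcases le_or_gt n2 8 with h | h
      · exact this n2 h hsp
      · have h9 : 9 ^ 3 ≤ n2 ^ 3 := Nat.pow_le_pow_left h 3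
        omega
  · have h256 : 4 ^ 4 ≤ n0 ^ 4 := Nat.pow_le_pow_left e0 4
    have t1 : 1 ≤ t := Nat.card_pos
    have p2 : 1 ≤ n2 ^ 3 := Nat.one_le_pow _ _ Nat.card_pos
    have hmul : 256 ≤ n0 ^ 4 * n2 ^ 3 := Nat.mul_le_mul h256 p2
    have et : t = 1 := by nlinarith
    rw [et, one_mul] at hsp
    have en : n0 ^ 4 = 256 := by nlinarith
    have e2 : n2 = 1 := by
      rw [en] at hsp
      have : n2 ^ 3 = 1 := by omega
      exact (pow_eq_one_iff.1 this).resolve_right (by norm_num)
    have e0' : n0 = 4 := Nat.pow_left_injective (n := 4) (by norm_num) (show n0 ^ 4 = 4 ^ 4 by rw [en])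
    refine ⟨e0', AddSubgroup.card_eq_one.1 et, fun B hB => AddSubgroup.card_eq_one.1 ?_, fun B hB => ?_⟩
    · rw [card_rep ρ B]
      rcases (show ∀ B : Fin 13, B ∉ four → repB B = 2 ∨ repB B = 12 by decide +kernel) B hB with h | h <;> rw [h]
      exacts [e2, e3]
    · rw [card_rep ρ B, (show ∀ B ∈ four, repB B = 0 by decide +kernel) B hB]; exact e0'

/-- The element moving the first unit vector to a scalar multiple of a unit vector. -/
def phiU (i : Fin 4) (c : Fin 4) : ↥U := wU (monoWord.getD (3 * i.val + (c.val - 1)) [])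

/-- The code of the unit vector with a scalar. -/
def unit (i : Fin 4) (c : Fin 4) : Vt := vt (c.val * 4 ^ i.val)

theorem mono_data : (∀ i : Fin 4, ∀ c : Fin 4, c ≠ 0 →
      ev (wordK (monoWord.getD (3 * i.val + (c.val - 1)) [])) (unit 0 1) = unit i c) ∧
    (∀ s : Fin 5, ∀ i : Fin 4, ∀ c : Fin 4, c ≠ 0 → ∃ j : Fin 4, ∃ d : Fin 4, d ≠ 0 ∧
      ev (wordK (frameWord.getD s.val [])) (unit i c) = unit j d ∧
      wordK ((monoWord.getD (3 * j.val + (d.val - 1)) []).reverse ++ frameWord.getD s.val [] ++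
        monoWord.getD (3 * i.val + (c.val - 1)) []) ∈ grpMKey) ∧
    (∀ i : Fin 4, wordK (monoWord.getD (3 * i.val) []) = wordK (swapWord.getD i.val []) ∧
      wordK (monoWord.getD (3 * i.val + 1) []) = mulK (wordK (swapWord.getD i.val [])) (wordK (diagWord.getD 7 [])) ∧
      wordK (monoWord.getD (3 * i.val + 2) []) =
        mulK (wordK (swapWord.getD i.val [])) (wordK (diagWord.getD (dadd 7 7).val []))) := by decide +kernel

theorem grpM_ok : groupOK grpMKey grpMPar grpMGen = true := by decide +kernel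

theorem stab_gens : ∀ w ∈ grpMGen,
    (∃ a : Fin 27, inB 0 a = true ∧ wordK w = wordK (diagWord.getD a.val [])) ∨
    mulK (wordK w) (wordK w) = idK ∧
      (∀ a : Fin 27, ∃ a' : Fin 27, inB 0 a' = inB 0 a ∧
        mulK (wordK w) (wordK (diagWord.getD a.val [])) = mulK (wordK (diagWord.getD a'.val [])) (wordK w)) ∧
      ∃ a : Fin 27, inB 0 a = false ∧
        mulK (wordK w) (wordK (diagWord.getD a.val [])) = mulK (wordK (diagWord.getD a.val [])) (wordK w) := by
  decide +kernel

include hc h2 nofix in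
theorem stab_fix {v₁ : V} (hv : v₁ ∈ Wset ρ 0) (hne : v₁ ≠ 0) {g : ↥U}
    (hg : g.1 ∈ closure {x | ∃ w ∈ grpMGen, wordP w = x}) : ρ g v₁ = v₁ := by
  suffices ∀ x (hx : x ∈ closure {x | ∃ w ∈ grpMGen, wordP w = x}) (hu : x ∈ U), ρ ⟨x, hu⟩ v₁ = v₁ from
    this g.1 hg g.2
  intro x hx
  induction hx using Subgroup.closure_induction with
  | one => intro hu; exact rho_one ρ v₁
  | mul a b ha hb iha ihb =>
    intro hu
    rw [show (⟨a * b, hu⟩ : ↥U) = ⟨a, (listed grpM_ok ha).1⟩ * ⟨b, (listed grpM_ok hb).1⟩ from rfl, rho_mul,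
      ihb (listed grpM_ok hb).1, iha (listed grpM_ok ha).1]
  | inv a ha iha =>
    intro hu
    apply rho_inj ρ ⟨a, (listed grpM_ok ha).1⟩
    rw [← rho_mul, iha (listed grpM_ok ha).1,
      show (⟨a, (listed grpM_ok ha).1⟩ : ↥U) * ⟨a⁻¹, hu⟩ = 1 from Subtype.ext (mul_inv_cancel a), rho_one]
  | mem a ha =>
    obtain ⟨w, hw, rfl⟩ := ha
    intro hu
    show ρ (wU w) v₁ = v₁
    rcases stab_gens w hw with ⟨a, ha, e⟩ | ⟨hsq, hcar, a, ha, hcm⟩
    · rw [wU_key e]
      exact hv.1 a ha
    · have hW : ρ (wU w) v₁ ∈ Wset ρ 0 := by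
        choose π hπ using hcar
        exact carries ρ (wU w) π (fun a => fr_comm (hπ a).2) 0 0 (fun a => (hπ a).1) hv
      have hm : ∀ d, ρ (dg d) v₁ ∈ Wset ρ 0 := fun d =>
        ⟨fun b hb => by rw [rho_dg, dadd_comm, ← rho_dg, hv.1 b hb], by rw [NA_absorb, hv.2]⟩
      have n1 : ρ (dg a) v₁ ≠ v₁ := fun e => hne (eq_zero_of_fix ρ h2 ha hv e)
      have c3 : ρ (dg a) (ρ (dg (dadd a a)) v₁) = v₁ := by
        rw [rho_dg, (show ∀ a : Fin 27, dadd a (dadd a a) = 0 by decide +kernel) a, dg_zero, rho_one]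
      have n2 : ρ (dg (dadd a a)) v₁ ≠ v₁ := fun e => n1 (by rwa [e] at c3)
      have sq : ρ (wU w) (ρ (wU w) v₁) = v₁ := by
        rw [← rho_mul, wU_mul_key (w₃ := []) (hsq.trans (key_word [])), wU_one, rho_one]
      have hcomm := fr_comm hcm
      classical
      haveI : Fintype ↥(Wset ρ 0) := Fintype.ofFinite _
      have hne' : ∀ d, ρ (dg d) v₁ ≠ 0 := fun d e => hne (rho_inj ρ (dg d) (e.trans (map_zero _).symm))
      have hS : ({⟨0, zero_mem _⟩, ⟨v₁, hv⟩, ⟨_, hm a⟩, ⟨_, hm (dadd a a)⟩} : Finset ↥(Wset ρ 0)) = Finset.univ := by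
        refine Finset.eq_univ_of_card _ ?_
        rw [← Nat.card_eq_fintype_card, (frame_facts ρ hc h2 nofix).1]
        have n3 : ρ (dg (dadd a a)) v₁ ≠ ρ (dg a) v₁ := fun e => n1 (by
          rw [← rho_dg] at e
          exact rho_inj ρ (dg a) e)
        rw [Finset.card_insert_of_notMem (by simp [hne.symm, fun d => (hne' d).symm]),
          Finset.card_insert_of_notMem (by simp [n1.symm, n2.symm]),
          Finset.card_insert_of_notMem (by simp [n3.symm]), Finset.card_singleton]
      have := hS ▸ Finset.mem_univ (⟨_, hW⟩ : ↥(Wset ρ 0))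
      simp only [Finset.mem_insert, Finset.mem_singleton, Subtype.mk.injEq] at this
      rcases this with e | e | e | e
      · exact absurd (rho_inj ρ (wU w) (e.trans (map_zero _).symm)) hne
      · exact e
      · exfalso
        rw [e, ← rho_mul, hcomm, rho_mul, e, rho_dg] at sq
        exact n2 sq
      · exfalso
        rw [e, ← dg_mul, rho_mul, ← rho_mul ρ (wU w) (dg a), hcomm, rho_mul, ← rho_mul ρ (wU w) (dg a), hcomm,
          rho_mul, e, rho_dg, rho_dg] at sq
        rw [(show ∀ a : Fin 27, dadd (dadd a a) (dadd a a) = a ∧ dadd a (dadd a (dadd a a)) = a by decide +kernel) a |>.1] at sq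
        exact n1 sq

/-- The part of a coordinate. -/
def part (v₁ : V) (i : Fin 4) (c : ℕ) : V :=
  if c = 0 then 0 else ρ (phiU i (Fin.ofNat 4 c)) v₁

/-- The map from the natural module. -/
def eta (v₁ : V) (v : Vt) : V := ∑ i : Fin 4, part ρ v₁ i (co v i.val)

theorem diag_data : wordK (diagWord.getD 1 []) = wordK (frameWord.getD 0 []) ∧
    wordK (diagWord.getD 3 []) = wordK (frameWord.getD 1 []) ∧
    wordK (diagWord.getD 21 []) = mulK (mulK (wordK (frameWord.getD 4 [])) (wordK (diagWord.getD 3 []))) (wordK (frameWord.getD 4 [])) ∧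
    (∀ d : Fin 27, ∃ a ∈ ([0, 1, 2] : List (Fin 27)), ∃ b ∈ ([0, 3, 6] : List (Fin 27)), ∃ c ∈ ([0, 21, 15] : List (Fin 27)),
      d = dadd (dadd a b) c) ∧ dadd 1 1 = 2 ∧ dadd 3 3 = 6 ∧ dadd 21 21 = 15 := by decide +kernel

theorem diag_in_frame (d : Fin 27) :
    dg d ∈ closure (Set.range fun s : Fin 5 => fr ⟨s.val, s.isLt.trans (by norm_num)⟩) := by
  obtain ⟨h1, h3, h21, hd, e2, e6, e15⟩ := diag_data
  set K := closure (Set.range fun s : Fin 5 => fr ⟨s.val, s.isLt.trans (by norm_num)⟩)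
  have m : ∀ s : Fin 5, fr ⟨s.val, s.isLt.trans (by norm_num)⟩ ∈ K := fun s => subset_closure ⟨s, rfl⟩
  have k0 : dg 0 ∈ K := dg_zero ▸ one_mem K
  have k1 : dg 1 ∈ K := (show dg 1 = fr 0 from wU_key h1) ▸ m 0
  have k3 : dg 3 ∈ K := (show dg 3 = fr 1 from wU_key h3) ▸ m 1
  have k21 : dg 21 ∈ K := by
    have e : wU (frameWord.getD 4 []) * dg 3 * wU (frameWord.getD 4 []) = dg 21 := Subtype.ext (key_inj
      (mul_mem (mul_mem (wordP_mem _) (wordP_mem _)) (wordP_mem _)) (wordP_mem _) (by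
        show key (wordP _ * wordP _ * wordP _) = key (wordP _)
        rw [key_mul (mul_mem (wordP_mem _) (wordP_mem _)), key_mul (wordP_mem _), key_word, key_word, key_word]
        exact h21.symm))
    exact e ▸ mul_mem (mul_mem (m 4) k3) (m 4)
  have dbl : ∀ {a b : Fin 27}, dadd a a = b → dg a ∈ K → dg b ∈ K := fun {a b} e h => e ▸ dg_mul a a ▸ mul_mem h h
  obtain ⟨a, ha, b, hb, c, hc, rfl⟩ := hd d
  rw [← dg_mul, ← dg_mul]
  simp only [List.mem_cons, List.not_mem_nil, or_false] at ha hb hc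
  refine mul_mem (mul_mem ?_ ?_) ?_
  · rcases ha with rfl | rfl | rfl
    exacts [k0, k1, dbl e2 k1]
  · rcases hb with rfl | rfl | rfl
    exacts [k0, k3, dbl e6 k3]
  · rcases hc with rfl | rfl | rfl
    exacts [k0, k21, dbl e15 k21]

theorem unit_facts : (∀ i j : Fin 4, ∀ c : Fin 4, co (unit i c) j.val = if i = j then c.val else 0) ∧
    (∀ k : Fin 8, ∃ i : Fin 4, ∃ c : Fin 4, c ≠ 0 ∧ bas k = unit i c) := by decide +kernel

omit [Finite V] in
theorem eta_unit (v₁ : V) (i : Fin 4) (c : Fin 4) (hc0 : c ≠ 0) : eta ρ v₁ (unit i c) = ρ (phiU i c) v₁ := by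
  rw [eta, Finset.sum_eq_single i]
  · rw [unit_facts.1 i i c, if_pos rfl, part, if_neg (fun e : c.val = 0 => hc0 (Fin.ext e))]
    congr 3
    exact Fin.ext (by simp)
  · intro j _ hj
    rw [unit_facts.1 i j c, if_neg (Ne.symm hj), part, if_pos rfl]
  · exact fun h => absurd (Finset.mem_univ _) h

theorem frame_four : four = [0, 1, 4, 7] ∧ ∀ i : Fin 4, ∀ j : Fin 4, four.getD i.val 0 = four.getD j.val 0 → i = j := by
  decide +kernel

/-- The transvection with the all-one centre. -/
def j85 : Fin 45 := pidx (vt 85)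

/-- A candidate for the last generator by its two free images. -/
def candK (u w : Vt) : ℕ :=
  pack ((List.finRange 8).map fun k => ev (wordK (swapWord.getD (k.val / 2) [])) (if k.val % 2 = 0 then u else w))

/-- The relations of the last generator. -/
def relOK (n : ℕ) : Bool :=
  let conj := fun d : Fin 27 => mulK (mulK (wordK (diagWord.getD d.val [])) n) (wordK (diagWord.getD (dadd d d).val []))
  let cube := fun m => mulK m (mulK m m) == idK
  mulK n n == idK && cube (mulK n (conj 7)) && cube (mulK n (conj 13)) &&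
    mulK (mulK n (conj 22)) (mulK n (conj 22)) == idK

theorem bas_split : ∀ k : Fin 8, bas k = ev (wordK (swapWord.getD (k.val / 2) []))
    (if k.val % 2 = 0 then unit 0 1 else unit 0 2) := by decide +kernel

theorem relOK_g0 : relOK (wordK (frameWord.getD 5 [])) = true := by decide +kernel

theorem cand_facts : ∀ u w : Fin 256,
    ev (wordK (frameWord.getD 3 [])) ⟨u⟩ = ⟨u⟩ → ev (wordK (frameWord.getD 4 [])) ⟨u⟩ = ⟨u⟩ →
    ev (wordK (frameWord.getD 3 [])) ⟨w⟩ = ⟨w⟩ → ev (wordK (frameWord.getD 4 [])) ⟨w⟩ = ⟨w⟩ →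
    relOK (candK ⟨u⟩ ⟨w⟩) = true →
    candK ⟨u⟩ ⟨w⟩ = wordK (frameWord.getD 5 []) ∨ candK ⟨u⟩ ⟨w⟩ = idK := by decide +kernel

theorem swap_comm : ∀ i : Fin 4, mulK (wordK (frameWord.getD 5 [])) (wordK (swapWord.getD i.val [])) =
    mulK (wordK (swapWord.getD i.val [])) (wordK (frameWord.getD 5 [])) ∧
    (∀ s : Fin 5, s.val = 3 ∨ s.val = 4 → mulK (wordK (frameWord.getD 5 [])) (wordK (frameWord.getD s.val [])) =
      mulK (wordK (frameWord.getD s.val [])) (wordK (frameWord.getD 5 [])) ∧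
      ev (wordK (frameWord.getD s.val [])) (unit 0 1) = unit 0 1 ∧
      ev (wordK (frameWord.getD s.val [])) (unit 0 2) = unit 0 2) := by decide +kernel

theorem swap_frame : ∀ i : Fin 4, i.val ≠ 0 → ∃ l : List (Fin 5), l ∈ ([[2], [3, 2, 3], [4, 3, 2, 3, 4]] : List (List (Fin 5))) ∧
    wordK (swapWord.getD i.val []) = wordK (l.flatMap fun s => frameWord.getD s.val []) := by decide +kernel

theorem keyOf_comp {f g : Vt → Vt} (hf : ∀ u v, f (u + v) = f u + f v) : keyOf (f ∘ g) = mulK (keyOf f) (keyOf g) :=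
  congrArg pack (List.map_congr_left fun k _ => by rw [byte_keyOf, ev_keyOf hf]; rfl)

set_option maxHeartbeats 1000000 in
include hc h2 nofix in
theorem monomial_equiv : ∃ η : Vt ≃+ V, ∀ s : Fin 5, ∀ v,
    η ((fr ⟨s.val, s.isLt.trans (by norm_num)⟩).1 v) = ρ (fr ⟨s.val, s.isLt.trans (by norm_num)⟩) (η v) := by
  obtain ⟨e0, eT, eoff, eon⟩ := frame_facts ρ hc h2 nofix
  obtain ⟨⟨v₁, hv⟩, hv0⟩ : ∃ v : ↥(Wset ρ 0), v ≠ 0 := by
    haveI : Nontrivial ↥(Wset ρ 0) := Finite.one_lt_card_iff_nontrivial.1 (by rw [e0]; norm_num)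
    exact exists_ne 0
  have hne : v₁ ≠ 0 := fun e => hv0 (Subtype.ext e)
  have hcycle : ∀ i : Fin 4, part ρ v₁ i 1 + part ρ v₁ i 2 + part ρ v₁ i 3 = 0 := by
    intro i
    obtain ⟨m0, m1, m2⟩ := mono_data.2.2 i
    have p : ∀ (c : Fin 4), c ≠ 0 → part ρ v₁ i c.val = ρ (phiU i c) v₁ := fun c hc0 => by
      rw [part, if_neg (fun e : c.val = 0 => hc0 (Fin.ext e))]
      congr 3
      exact Fin.ext (by simp)
    have q0 : phiU i 1 = wU (swapWord.getD i.val []) := wU_key m0
    have q1 : phiU i 2 = wU (swapWord.getD i.val []) * dg 7 := (wU_mul_key m1.symm).symm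
    have q2 : phiU i 3 = wU (swapWord.getD i.val []) * dg (dadd 7 7) := (wU_mul_key m2.symm).symm
    have r1 := p 1 (by decide); have r2 := p 2 (by decide); have r3 := p 3 (by decide)
    rw [show ((1 : Fin 4) : ℕ) = 1 from rfl] at r1
    rw [show ((2 : Fin 4) : ℕ) = 2 from rfl] at r2
    rw [show ((3 : Fin 4) : ℕ) = 3 from rfl] at r3
    rw [r1, r2, r3, q0, q1, q2, rho_mul, rho_mul, ← map_add, ← map_add]
    have hm : ∀ d, ρ (dg d) v₁ ∈ Wset ρ 0 := fun d =>
      ⟨fun b hb => by rw [rho_dg, dadd_comm, ← rho_dg, hv.1 b hb], by rw [NA_absorb, hv.2]⟩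
    rw [eq_zero_of_fix ρ h2 (show inB 0 7 = false by decide +kernel)
      (add_mem (add_mem hv (hm 7)) (hm (dadd 7 7))) (by
        rw [map_add, map_add, rho_dg, rho_dg, show dadd 7 (dadd 7 7) = 0 by decide +kernel, dg_zero, rho_one]
        abel), map_zero]
  have padd : ∀ i : Fin 4, ∀ a < 4, ∀ b < 4, part ρ v₁ i (a ^^^ b) = part ρ v₁ i a + part ρ v₁ i b := by
    intro i a ha b hb
    have hz : ∀ {x y w : V}, x + y + w = 0 → w = x + y := fun {x y w} h => by
      have := eq_neg_of_add_eq_zero_right h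
      rw [this, neg_eq_of_add_eq_zero_right (h2 (x + y))]
    have c := hcycle i
    have c1 := hz c
    have c2 : part ρ v₁ i 2 = part ρ v₁ i 1 + part ρ v₁ i 3 := hz (by rw [← c]; abel)
    have c3 : part ρ v₁ i 1 = part ρ v₁ i 2 + part ρ v₁ i 3 := hz (by rw [← c]; abel)
    have z0 : part ρ v₁ i 0 = 0 := if_pos rfl
    interval_cases a <;> interval_cases b <;> norm_num [z0, h2] <;>
      first
        | exact c1
        | exact c1.trans (add_comm _ _)
        | exact c2
        | exact c2.trans (add_comm _ _)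
        | exact c3
        | exact c3.trans (add_comm _ _)
  have hadd : ∀ u v, eta ρ v₁ (u + v) = eta ρ v₁ u + eta ρ v₁ v := fun u v => by
    simp only [eta, co_add, padd _ _ (co_lt u _) _ (co_lt v _), Finset.sum_add_distrib]
  let E : Vt →+ V := AddMonoidHom.mk' (eta ρ v₁) hadd
  have hmem : ∀ i : Fin 4, ∀ c < 4, part ρ v₁ i c ∈ Wset ρ (four.getD i.val 0) := by
    intro i c hc4
    rw [part]
    split
    · exact zero_mem _
    · choose π hπ using kernel_four i
      have hsw : ∀ {v}, v ∈ Wset ρ 0 → ρ (wU (swapWord.getD i.val [])) v ∈ Wset ρ (four.getD i.val 0) := fun {v} hv =>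
        carries ρ _ π (fun a => fr_comm (hπ a).2) _ _ (fun a => (hπ a).1) hv
      have hm : ∀ d, ρ (dg d) v₁ ∈ Wset ρ 0 := fun d =>
        ⟨fun b hb => by rw [rho_dg, dadd_comm, ← rho_dg, hv.1 b hb], by rw [NA_absorb, hv.2]⟩
      obtain ⟨m0, m1, m2⟩ := mono_data.2.2 i
      interval_cases c
      · contradiction
      · rw [show phiU i (Fin.ofNat 4 1) = wU (swapWord.getD i.val []) from wU_key m0]; exact hsw hv
      · rw [show phiU i (Fin.ofNat 4 2) = wU (swapWord.getD i.val []) * dg 7 from (wU_mul_key m1.symm).symm, rho_mul]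
        exact hsw (hm 7)
      · rw [show phiU i (Fin.ofNat 4 3) = wU (swapWord.getD i.val []) * dg (dadd 7 7) from (wU_mul_key m2.symm).symm,
          rho_mul]
        exact hsw (hm _)
  have hinj : Function.Injective E := (injective_iff_map_eq_zero E).2 fun v e => by
    have hz : ∀ i : Fin 4, co v i.val = 0 := fun i => by
      have hp := congrArg (AddMonoidHom.mk' (proj ρ (four.getD i.val 0)) (proj_add ρ _)) e
      rw [map_zero, show E v = ∑ j : Fin 4, part ρ v₁ j (co v j.val) from rfl, map_sum] at hp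
      simp only [AddMonoidHom.mk'_apply] at hp
      rw [Finset.sum_eq_single i (fun j _ hj => proj_other ρ h2 (fun e => hj (frame_four.2 j i e.symm))
          (hmem j _ (co_lt v _))) (fun h => absurd (Finset.mem_univ _) h)] at hp
      have hp' : part ρ v₁ i (co v i.val) = 0 := (proj_self ρ h2 (hmem i _ (co_lt v _))).symm.trans hp
      by_contra hne0
      rw [part, if_neg hne0] at hp'
      exact hne (rho_inj ρ _ (hp'.trans (map_zero _).symm))
    obtain ⟨i⟩ := v
    exact (show ∀ i : Fin 256, (∀ j : Fin 4, co ⟨i⟩ j.val = 0) → (⟨i⟩ : Vt) = 0 by decide +kernel) i hz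
  have hbij : Function.Bijective E :=
    (Nat.bijective_iff_injective_and_card _).2 ⟨hinj, by rw [hc, Nat.card_eq_fintype_card, Vt.card_eq]⟩
  let η := AddEquiv.ofBijective E hbij
  have ext8 : ∀ g : ↥U, (∀ k, E (g.1 (bas k)) = ρ g (E (bas k))) → ∀ v, E (g.1 v) = ρ g (E v) := fun g hb v => by
    induction v using induct_bas with
    | h0 => rw [(lin_of_mem g.2).map_zero, map_zero, map_zero]
    | hadd x y hx hy => rw [(lin_of_mem g.2).map_add, map_add, map_add, map_add, hx, hy]
    | hb k => exact hb k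
  refine ⟨η, ?_⟩
  show ∀ s : Fin 5, ∀ v, E ((fr ⟨s.val, s.isLt.trans (by norm_num)⟩).1 v) =
      ρ (fr ⟨s.val, s.isLt.trans (by norm_num)⟩) (E v)
  exact fun s => ext8 _ fun k => by
    obtain ⟨i, c, hc0, e⟩ := unit_facts.2 k
    obtain ⟨j, d, hd, e1, e2⟩ := mono_data.2.1 s i c hc0
    rw [e, show (fr ⟨s.val, s.isLt.trans (by norm_num)⟩).1 (unit i c) = unit j d by
      rw [← ev_key (fr _).2]; exact (congrArg (ev · _) (key_word _)).trans e1]
    show eta ρ v₁ (unit j d) = ρ _ (eta ρ v₁ (unit i c))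
    rw [eta_unit ρ v₁ j d hd, eta_unit ρ v₁ i c hc0]
    set g := fr ⟨s.val, s.isLt.trans (by norm_num)⟩
    have hfix : ρ ((phiU j d)⁻¹ * g * phiU i c) v₁ = v₁ := by
      refine stab_fix ρ hc h2 nofix hv hne ?_
      have he : ((phiU j d)⁻¹ * g * phiU i c : ↥U).1 = wordP ((monoWord.getD (3 * j.val + (d.val - 1)) []).reverse ++
          frameWord.getD s.val [] ++ monoWord.getD (3 * i.val + (c.val - 1)) []) := by
        rw [wordP_append, wordP_append, wordP_reverse]; rfl
      obtain ⟨x, hx, ek, hu⟩ := exists_of_mem_list grpM_ok e2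
      rw [he, ← key_inj hu (wordP_mem _) (ek.trans (key_word _).symm)]
      exact hx
    conv_lhs => rw [← hfix]
    rw [← rho_mul, ← rho_mul]
    congr 2
    group

/-- The closure of the monomial generators. -/
def mono5 : Subgroup ↥U := closure (Set.range fun s : Fin 5 => fr ⟨s.val, s.isLt.trans (by norm_num)⟩)

theorem swap_mono (i : Fin 4) : wU (swapWord.getD i.val []) ∈ mono5 := by
  by_cases hi : i.val = 0
  · rw [hi, show wU (swapWord.getD 0 []) = 1 from (wU_key (w₂ := []) (by decide +kernel)).trans wU_one]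
    exact one_mem _
  · obtain ⟨l, -, e⟩ := swap_frame i hi
    rw [wU_key e]
    clear e
    induction l with
    | nil => rw [List.flatMap_nil, wU_one]; exact one_mem _
    | cons a l ih =>
      rw [List.flatMap_cons, wU_append]
      exact mul_mem (subset_closure ⟨a, rfl⟩) ih

theorem comm5 {w : List ℕ}
    (e : mulK (wordK (frameWord.getD 5 [])) (wordK w) = mulK (wordK w) (wordK (frameWord.getD 5 []))) :
    fr 5 * wU w = wU w * fr 5 :=
  Subtype.ext (key_inj (mul_mem (wordP_mem _) (wordP_mem _)) (mul_mem (wordP_mem _) (wordP_mem _)) (by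
    show key (wordP _ * wordP w) = key (wordP w * wordP _)
    rw [key_mul (wordP_mem _), key_mul (wordP_mem _), key_word, key_word]
    exact e))

omit [Finite V] in
theorem mono5_equiv {η : Vt ≃+ V} (hη : ∀ s : Fin 5, ∀ v,
    η ((fr ⟨s.val, s.isLt.trans (by norm_num)⟩).1 v) = ρ (fr ⟨s.val, s.isLt.trans (by norm_num)⟩) (η v))
    {g : ↥U} (hg : g ∈ mono5) : ∀ v, η (g.1 v) = ρ g (η v) := by
  induction hg using Subgroup.closure_induction with
  | mem x hx => obtain ⟨s, rfl⟩ := hx; exact hη s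
  | one => intro v; rw [rho_one]; rfl
  | mul x y _ _ hx hy => intro v; rw [rho_mul, ← hy, ← hx]; rfl
  | inv x _ hx =>
    intro v
    apply rho_inj ρ x
    rw [← rho_mul, mul_inv_cancel, rho_one, ← hx]
    exact congrArg η (x.1.apply_symm_apply v)

/-- The key of the transported action. -/
def tk (η : Vt ≃+ V) (g : ↥U) : ℕ := keyOf fun v => η.symm (ρ g (η v))

omit [Finite V] in
theorem tk_mul (η : Vt ≃+ V) (g g' : ↥U) : mulK (tk ρ η g) (tk ρ η g') = tk ρ η (g * g') := by
  rw [tk, tk, tk, ← keyOf_comp (fun a b => by simp only [map_add])]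
  congr 1
  funext v
  simp only [Function.comp, η.apply_symm_apply, rho_mul]

omit [Finite V] in
theorem tk_one (η : Vt ≃+ V) : tk ρ η 1 = idK := by
  refine congrArg keyOf (funext fun v => ?_)
  rw [rho_one, η.symm_apply_apply]
  rfl

omit [Finite V] in
theorem tk_mono {η : Vt ≃+ V} (hη : ∀ s : Fin 5, ∀ v,
    η ((fr ⟨s.val, s.isLt.trans (by norm_num)⟩).1 v) = ρ (fr ⟨s.val, s.isLt.trans (by norm_num)⟩) (η v))
    {g : ↥U} (hg : g ∈ mono5) : tk ρ η g = key g.1 := by
  refine congrArg keyOf (funext fun v => ?_)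
  apply η.injective
  rw [η.apply_symm_apply, mono5_equiv ρ hη hg]

omit [Finite V] in
theorem tk_candidate {η : Vt ≃+ V} (hη : ∀ s : Fin 5, ∀ v,
    η ((fr ⟨s.val, s.isLt.trans (by norm_num)⟩).1 v) = ρ (fr ⟨s.val, s.isLt.trans (by norm_num)⟩) (η v)) :
    tk ρ η (fr 5) = wordK (frameWord.getD 5 []) ∨ tk ρ η (fr 5) = idK := by
  let Γ : Vt → Vt := fun v => η.symm (ρ (fr 5) (η v))
  have hmove : ∀ (g : ↥U), g ∈ mono5 → fr 5 * g = g * fr 5 → ∀ v, Γ (g.1 v) = g.1 (Γ v) := by
    intro g hg hcm v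
    apply η.injective
    show η (η.symm _) = η (g.1 (η.symm _))
    rw [η.apply_symm_apply, mono5_equiv ρ hη hg, mono5_equiv ρ hη hg, η.apply_symm_apply, ← rho_mul, hcm, rho_mul]
  have hfix : ∀ s : Fin 5, s.val = 3 ∨ s.val = 4 → ev (wordK (frameWord.getD s.val [])) (Γ (unit 0 1)) = Γ (unit 0 1) ∧
      ev (wordK (frameWord.getD s.val [])) (Γ (unit 0 2)) = Γ (unit 0 2) := by
    intro s hs
    obtain ⟨e1, e2, e3⟩ := (swap_comm 0).2 s hs
    have hm := hmove (wU (frameWord.getD s.val [])) (subset_closure ⟨s, rfl⟩) (comm5 e1)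
    have hev : ∀ v, (wU (frameWord.getD s.val [])).1 v = ev (wordK (frameWord.getD s.val [])) v := fun v => by
      rw [← key_word]; exact (ev_key (wordP_mem _) v).symm
    constructor
    · have := hm (unit 0 1)
      rw [hev, hev, e2] at this
      exact this.symm
    · have := hm (unit 0 2)
      rw [hev, hev, e3] at this
      exact this.symm
  have hkey : keyOf Γ = candK (Γ (unit 0 1)) (Γ (unit 0 2)) := by
    refine congrArg pack (List.map_congr_left fun k _ => ?_)
    conv_lhs => rw [bas_split k]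
    rw [← key_word, ev_key (wordP_mem _), ev_key (wordP_mem _)]
    have hi : k.val / 2 < 4 := by have := k.isLt; omega
    have hm := hmove (wU (swapWord.getD (k.val / 2) [])) (swap_mono ⟨_, hi⟩) (comm5 (swap_comm ⟨_, hi⟩).1)
    refine (hm _).trans (congrArg _ ?_)
    split <;> rfl
  have hrel : relOK (tk ρ η (fr 5)) = true := by
    have hd : ∀ d : Fin 27, wordK (diagWord.getD d.val []) = tk ρ η (dg d) := fun d =>
      ((tk_mono ρ hη (diag_in_frame d)).trans (key_word _)).symm
    have km : ∀ g g' : ↥U, key (g * g').1 = mulK (key g.1) (key g'.1) := fun g g' => key_mul g.2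
    have back : ∀ g : ↥U, key g.1 = idK → tk ρ η g = idK := fun g h => by
      rw [show g = 1 from Subtype.ext (key_inj g.2 (one_mem _) h), tk_one]
    have r := relOK_g0
    rw [← key_word] at r
    simp only [relOK, Bool.and_eq_true, beq_iff_eq, hd, tk_mul] at r ⊢
    simp only [← hd] at r
    obtain ⟨⟨⟨r1, r2⟩, r3⟩, r4⟩ := r
    simp only [← key_word] at r1 r2 r3 r4
    refine ⟨⟨⟨back _ ?_, back _ ?_⟩, back _ ?_⟩, back _ ?_⟩
    · rw [km]; exact r1
    · simp only [km]; exact r2
    · simp only [km]; exact r3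
    · simp only [km]; exact r4
  have hk : tk ρ η (fr 5) = candK (Γ (unit 0 1)) (Γ (unit 0 2)) := hkey
  rw [hk] at hrel ⊢
  exact cand_facts _ _ (hfix 3 (Or.inl rfl)).1 (hfix 4 (Or.inr rfl)).1 (hfix 3 (Or.inl rfl)).2
    (hfix 4 (Or.inr rfl)).2 hrel

include hc h2 nofix in
/-- An elementary group of order `2^8` without fixed elements is the natural module. -/
theorem natural : ∃ η : Vt ≃+ V, ∀ g : ↥U, ∀ v, η (g.1 v) = ρ g (η v) := by
  obtain ⟨η, hη⟩ := monomial_equiv ρ hc h2 nofix
  have hΓ : ∀ u v, (fun v => η.symm (ρ (fr 5) (η v))) (u + v) =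
      (fun v => η.symm (ρ (fr 5) (η v))) u + (fun v => η.symm (ρ (fr 5) (η v))) v := fun u v => by
    simp only [map_add]
  rcases tk_candidate ρ hη with hg | hid
  · refine ⟨η, fun g => ?_⟩
    have hg' : g ∈ closure (Set.range fr) := frame_top ▸ Subgroup.mem_top g
    induction hg' using Subgroup.closure_induction with
    | mem x hx =>
      obtain ⟨s, rfl⟩ := hx
      rcases lt_or_ge s.val 5 with hs | hs
      · exact hη ⟨s.val, hs⟩
      · obtain rfl : s = 5 := Fin.ext (by have := s.isLt; omega)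
        intro v
        have e : (fr 5).1 v = η.symm (ρ (fr 5) (η v)) := by
          rw [← ev_key (fr 5).2, ← ev_keyOf (f := fun v => η.symm (ρ (fr 5) (η v))) hΓ v]
          exact congrArg (ev · v) ((key_word _).trans hg.symm)
        rw [e, η.apply_symm_apply]
    | one => intro v; rw [rho_one]; rfl
    | mul x y _ _ hx hy => intro v; rw [rho_mul, ← hy, ← hx]; rfl
    | inv x _ hx =>
      intro v
      apply rho_inj ρ x
      rw [← rho_mul, mul_inv_cancel, rho_one, ← hx]
      exact congrArg η (x.1.apply_symm_apply v)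
  · exfalso
    refine not_trivial ρ hc nofix (trivial_of_kernel ρ dg_ne.2 (AddMonoidHom.ext fun x => ?_))
    obtain ⟨v, rfl⟩ := η.surjective x
    apply η.symm.injective
    show η.symm (ρ (fr 5) (η v)) = η.symm (η v)
    rw [← ev_keyOf (f := fun v => η.symm (ρ (fr 5) (η v))) hΓ v, η.symm_apply_apply]
    refine (congrArg (ev · v) (hid.trans (show idK = keyOf id from rfl))).trans ?_
    exact ev_keyOf (f := id) (fun _ _ => rfl) v

end Cfsg.Lib.USixType
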