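import Cfsg.Agent.USixType.Grp
import Cfsg.Agent.Classical.Misc.FortyPoints

/-!
# The order, the involutions and their centralisers
-/

set_option autoImplicit false
set_option Elab.async false
set_option maxRecDepth 100000

namespace Cfsg.Lib.USixType

open Subgroup

/-- The point of an isotropic vector. -/
def pidx (v : Vt) : Fin 45 :=
  ((List.finRange 45).find? fun i => v == ctr i || v == sm 2 (ctr i) || v == sm 3 (ctr i)).getD 0

theorem pidx_spec : ∀ v : Fin 256, (⟨v⟩ : Vt) ≠ 0 → h ⟨v⟩ ⟨v⟩ = 0 →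
    ∃ a : Fin 4, a ≠ 0 ∧ (⟨v⟩ : Vt) = sm a.val (ctr (pidx ⟨v⟩)) := by decide +kernel

theorem pidx_sm : ∀ i : Fin 45, ∀ a : Fin 4, a ≠ 0 → pidx (sm a.val (ctr i)) = i := by decide +kernel

theorem sm_one : ∀ v : Fin 256, sm 1 ⟨v⟩ = ⟨v⟩ := by decide +kernel

theorem pidx_ctr (i : Fin 45) : pidx (ctr i) = i := by
  have := pidx_sm i 1 (by decide)
  rwa [show sm ((1 : Fin 4) : ℕ) (ctr i) = ctr i from sm_one (ctr i).code] at this

theorem key_tvP (i : Fin 45) : key (tvP i) = keyOf (tv (ctr i)) := rfl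

theorem tv_scalar_key : ∀ i : Fin 45, ∀ a : Fin 4, a ≠ 0 → keyOf (tv (sm a.val (ctr i))) = keyOf (tv (ctr i)) := by
  decide +kernel

theorem tv_eq_of_ne_zero {c : Vt} (hc : c ≠ 0) (hi : h c c = 0) (v : Vt) : tv c v = tvP (pidx c) v := by
  obtain ⟨a, ha, e⟩ := pidx_spec c.code hc hi
  refine eq_of_bas (tv_add c) (tv_add _) (fun k => ?_) v
  have e2 := congrArg (fun n => byte n k) (tv_scalar_key (pidx c) a ha)
  rw [← e] at e2
  simpa only [byte_keyOf] using e2

/-- The point of the image of a centre. -/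
def act45 (g : Equiv.Perm Vt) (i : Fin 45) : Fin 45 := pidx (g (ctr i))

theorem Lin.map_zero {g : Equiv.Perm Vt} (hg : Lin g) : g 0 = 0 := by
  have := hg.map_add 0 0; rw [add_zero] at this; exact left_eq_add.1 this

theorem Lin.ne_zero {g : Equiv.Perm Vt} (hg : Lin g) {v : Vt} (hv : v ≠ 0) : g v ≠ 0 :=
  fun e => hv (g.injective (e.trans hg.map_zero.symm))

theorem conj_tvP {g : Equiv.Perm Vt} (hg : g ∈ U) (i : Fin 45) : g * tvP i * g⁻¹ = tvP (act45 g i) := by
  have hl := lin_of_mem hg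
  refine Equiv.ext fun v => ?_
  obtain ⟨w, rfl⟩ := g.surjective v
  rw [act45, ← tv_eq_of_ne_zero (hl.ne_zero (ctr_iso i).2) (by rw [hl.map_h]; exact (ctr_iso i).1)]
  simp only [Equiv.Perm.mul_apply, Equiv.Perm.coe_inv, Equiv.symm_apply_apply, tvP_apply, tv, hl.map_add, hl.map_h,
    hl.map_sm _ _ (h_lt _ _)]

theorem tvP_key_inj : ((List.finRange 45).map fun i => keyOf (tv (ctr i))).Nodup := by decide +kernel

theorem tvP_inj : Function.Injective tvP := fun i j e => by
  have e2 : keyOf (tv (ctr i)) = keyOf (tv (ctr j)) := congrArg key e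
  exact List.inj_on_of_nodup_map tvP_key_inj (List.mem_finRange i) (List.mem_finRange j) e2

theorem wordP_append (u w : List ℕ) : wordP (u ++ w) = wordP u * wordP w := by simp [wordP]

theorem wordP_reverse : ∀ w : List ℕ, wordP w.reverse = (wordP w)⁻¹
  | [] => by simp [wordP]
  | j :: w => by
    rw [List.reverse_cons, wordP_append, wordP_reverse w,
      show wordP (j :: w) = tvP (Fin.ofNat 45 j) * wordP w from rfl,
      show wordP [j] = tvP (Fin.ofNat 45 j) from mul_one _, mul_inv_rev]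
    exact congrArg _ (inv_eq_of_mul_eq_one_left (tvP_sq _)).symm

/-- The stabiliser of the first centre. -/
def UA : Subgroup (Equiv.Perm Vt) := closure {x | ∃ w ∈ grpAGen, wordP w = x}

/-- The centraliser of the first product. -/
def UB : Subgroup (Equiv.Perm Vt) := closure {x | ∃ w ∈ grpBGen, wordP w = x}

/-- A Sylow two-subgroup. -/
def US : Subgroup (Equiv.Perm Vt) := closure {x | ∃ w ∈ grpSGen, wordP w = x}

theorem UA_le {g : Equiv.Perm Vt} (hg : g ∈ UA) : g ∈ U ∧ key g ∈ grpAKey := listed grpA_ok hg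
theorem UB_le {g : Equiv.Perm Vt} (hg : g ∈ UB) : g ∈ U ∧ key g ∈ grpBKey := listed grpB_ok hg
theorem US_le {g : Equiv.Perm Vt} (hg : g ∈ US) : g ∈ U ∧ key g ∈ grpSKey := listed grpS_ok hg

theorem card_closure {L : List ℕ} {P : List (ℕ × ℕ)} {G : List (List ℕ)} (hL : groupOK L P G = true) :
    Nat.card ↥(closure {x | ∃ w ∈ G, wordP w = x}) = L.length := by
  classical
  have hnd : L.Nodup := by
    simp only [groupOK, Bool.and_eq_true, decide_eq_true_eq] at hL
    exact hL.2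
  let f : ↥(closure {x | ∃ w ∈ G, wordP w = x}) → {n // n ∈ L.toFinset} := fun g =>
    ⟨key g.1, List.mem_toFinset.2 (listed hL g.2).2⟩
  have hb : Function.Bijective f := by
    refine ⟨fun a b e => Subtype.ext (key_inj (listed hL a.2).1 (listed hL b.2).1 (congrArg Subtype.val e)), ?_⟩
    rintro ⟨n, hn⟩
    obtain ⟨g, hg, e, -⟩ := exists_of_mem_list hL (List.mem_toFinset.1 hn)
    exact ⟨⟨g, hg⟩, Subtype.ext e⟩
  rw [Nat.card_congr (Equiv.ofBijective f hb), Nat.card_eq_fintype_card, Fintype.card_coe,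
    List.toFinset_card_of_nodup hnd]

theorem grpA_len : grpAKey.length = 576 ∧ grpSKey.length = 64 ∧ grpBKey.length = 96 := by decide +kernel

/-- The element moving the first centre to a given one. -/
def mv (i : Fin 45) : Equiv.Perm Vt := wordP (moveWord.getD i.val [])

theorem mv_mem (i : Fin 45) : mv i ∈ U := wordP_mem _

theorem mv_check : ∀ i : Fin 45, pidx (ev (wordK (moveWord.getD i.val [])) (ctr 0)) = i := by decide +kernel

theorem act45_mv (i : Fin 45) : act45 (mv i) 0 = i := by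
  rw [act45, mv, ← ev_key (wordP_mem _), key_word]
  exact mv_check i

theorem schreier_ok : ((List.finRange 45).all fun i => (List.finRange 45).all fun j =>
    grpAKey.contains (wordK ((moveWord.getD (pidx (tv (ctr j) (ctr i))).val []).reverse ++ j.val :: moveWord.getD i.val []))) =
      true := by decide +kernel

theorem mem_UA_of_key {g : Equiv.Perm Vt} (hg : g ∈ U) (hk : key g ∈ grpAKey) : g ∈ UA := by
  obtain ⟨x, hx, e, hu⟩ := exists_of_mem_list grpA_ok hk
  exact key_inj hu hg e ▸ hx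

theorem mem_UB_of_key {g : Equiv.Perm Vt} (hg : g ∈ U) (hk : key g ∈ grpBKey) : g ∈ UB := by
  obtain ⟨x, hx, e, hu⟩ := exists_of_mem_list grpB_ok hk
  exact key_inj hu hg e ▸ hx

theorem mv_zero_eq : moveWord.getD 0 [] = [] := by decide +kernel

theorem decomp {g : Equiv.Perm Vt} (hg : g ∈ U) : ∃ i, ∃ s ∈ UA, g = mv i * s := by
  have key1 : ∀ g ∈ U, ∀ i, ∀ s ∈ UA, ∃ k, ∃ s' ∈ UA, g * (mv i * s) = mv k * s' := by
    intro g hg
    induction hg using Subgroup.closure_induction'' with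
    | one => intro i s hs; exact ⟨i, s, hs, one_mul _⟩
    | mem a ha =>
      obtain ⟨j, rfl⟩ := ha
      intro i s hs
      set k := pidx (tv (ctr j) (ctr i)) with hk
      have hm : (mv k)⁻¹ * tvP j * mv i ∈ UA := by
        refine mem_UA_of_key (mul_mem (mul_mem (inv_mem (mv_mem k)) (tvP_mem j)) (mv_mem i)) ?_
        have e : (mv k)⁻¹ * tvP j * mv i =
            wordP ((moveWord.getD k.val []).reverse ++ j.val :: moveWord.getD i.val []) := by
          rw [wordP_append, wordP_reverse, show wordP (j.val :: moveWord.getD i.val []) =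
            tvP (Fin.ofNat 45 j.val) * mv i from rfl, Fin.ofNat_eq_cast, Fin.cast_val_eq_self, ← mul_assoc]
          rfl
        rw [e, key_word, hk]
        exact List.contains_iff_mem.1
          (List.all_eq_true.1 (List.all_eq_true.1 schreier_ok i (List.mem_finRange i)) j (List.mem_finRange j))
      exact ⟨k, _, mul_mem hm hs, by group⟩
    | inv_mem a ha =>
      obtain ⟨j, rfl⟩ := ha
      intro i s hs
      rw [inv_eq_of_mul_eq_one_left (tvP_sq j)]
      set k := pidx (tv (ctr j) (ctr i)) with hk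
      have hm : (mv k)⁻¹ * tvP j * mv i ∈ UA := by
        refine mem_UA_of_key (mul_mem (mul_mem (inv_mem (mv_mem k)) (tvP_mem j)) (mv_mem i)) ?_
        have e : (mv k)⁻¹ * tvP j * mv i =
            wordP ((moveWord.getD k.val []).reverse ++ j.val :: moveWord.getD i.val []) := by
          rw [wordP_append, wordP_reverse, show wordP (j.val :: moveWord.getD i.val []) =
            tvP (Fin.ofNat 45 j.val) * mv i from rfl, Fin.ofNat_eq_cast, Fin.cast_val_eq_self, ← mul_assoc]
          rfl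
        rw [e, key_word, hk]
        exact List.contains_iff_mem.1
          (List.all_eq_true.1 (List.all_eq_true.1 schreier_ok i (List.mem_finRange i)) j (List.mem_finRange j))
      exact ⟨k, _, mul_mem hm hs, by group⟩
    | mul a b _ _ iha ihb =>
      intro i s hs
      obtain ⟨k, s', hs', e⟩ := ihb i s hs
      obtain ⟨l, s'', hs'', e'⟩ := iha k s' hs'
      exact ⟨l, s'', hs'', by rw [mul_assoc, e, e']⟩
  obtain ⟨k, s, hs, e⟩ := key1 g hg 0 1 (one_mem _)
  refine ⟨k, s, hs, ?_⟩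
  rw [← e, mul_one, show mv 0 = 1 by rw [mv, show ((0 : Fin 45) : ℕ) = 0 from rfl, mv_zero_eq]; rfl, mul_one]

theorem UA_gen_fix : ∀ w ∈ grpAGen, pidx (ev (wordK w) (ctr 0)) = 0 := by decide +kernel

theorem act45_mul {g g' : Equiv.Perm Vt} (hg : g ∈ U) (hg' : g' ∈ U) (i : Fin 45) :
    act45 (g * g') i = act45 g (act45 g' i) := by
  apply tvP_inj
  rw [← conj_tvP (mul_mem hg hg'), ← conj_tvP hg, ← conj_tvP hg']
  group

theorem act45_one (i : Fin 45) : act45 1 i = i := pidx_ctr i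

theorem UA_fix {s : Equiv.Perm Vt} (hs : s ∈ UA) : act45 s 0 = 0 := by
  have hle : ∀ x ∈ UA, x * tvP 0 * x⁻¹ = tvP 0 := by
    intro x hx
    induction hx using Subgroup.closure_induction with
    | mem a ha =>
      obtain ⟨w, hw, rfl⟩ := ha
      rw [conj_tvP (wordP_mem w), act45, ← ev_key (wordP_mem w), key_word, UA_gen_fix w hw]
    | one => simp
    | mul a b _ _ ha hb =>
      rw [show a * b * tvP 0 * (a * b)⁻¹ = a * (b * tvP 0 * b⁻¹) * a⁻¹ by group, hb, ha]
    | inv a _ ha =>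
      calc a⁻¹ * tvP 0 * a⁻¹⁻¹ = a⁻¹ * (a * tvP 0 * a⁻¹) * a⁻¹⁻¹ := by rw [ha]
        _ = tvP 0 := by group
  exact tvP_inj (by rw [← conj_tvP (UA_le hs).1]; exact hle s hs)

theorem card_U : Nat.card ↥U = 25920 := by
  let f : Fin 45 × ↥UA → ↥U := fun p => ⟨mv p.1 * p.2.1, mul_mem (mv_mem _) (UA_le p.2.2).1⟩
  have hb : Function.Bijective f := by
    refine ⟨fun p p' e => ?_, fun g => ?_⟩
    · have e' : mv p.1 * p.2.1 = mv p'.1 * p'.2.1 := congrArg Subtype.val e
      have e1 := congrArg (fun x => act45 x 0) e'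
      simp only [act45_mul (mv_mem _) (UA_le p.2.2).1, act45_mul (mv_mem _) (UA_le p'.2.2).1, UA_fix p.2.2,
        UA_fix p'.2.2, act45_mv] at e1
      refine Prod.ext e1 (Subtype.ext ?_)
      rw [e1] at e'
      exact mul_left_cancel e'
    · obtain ⟨i, s, hs, e⟩ := decomp g.2
      exact ⟨(i, ⟨s, hs⟩), Subtype.ext e.symm⟩
  rw [← Nat.card_congr (Equiv.ofBijective f hb), Nat.card_prod, Nat.card_fin, UA, card_closure grpA_ok, grpA_len.1]

theorem commute_tv0 {g : Equiv.Perm Vt} (hg : g ∈ U) (hc : g * tvP 0 = tvP 0 * g) : key g ∈ grpAKey := by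
  obtain ⟨i, s, hs, rfl⟩ := decomp hg
  have h0 : act45 (mv i * s) 0 = 0 := tvP_inj (by rw [← conj_tvP hg, hc, mul_inv_cancel_right])
  rw [act45_mul (mv_mem i) (UA_le hs).1, UA_fix hs, act45_mv] at h0
  subst h0
  rw [show mv 0 = 1 by rw [mv, show ((0 : Fin 45) : ℕ) = 0 from rfl, mv_zero_eq]; rfl, one_mul]
  exact (UA_le hs).2

/-- The first centre orthogonal to the first. -/
def d0 : Fin 45 := 15

/-- The product of two orthogonal transvections. -/
def R0 : Equiv.Perm Vt := tvP 0 * tvP d0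

/-- The key of a product. -/
def pairK (i j : Fin 45) : ℕ := wordK [i.val, j.val]

theorem key_pair (i j : Fin 45) : key (tvP i * tvP j) = pairK i j := by
  rw [pairK, ← key_word]
  simp [wordP]

theorem pair_unique : ∀ i j : Fin 45, i ≠ j → h (ctr i) (ctr j) = 0 → pairK i j = pairK 0 d0 →
    i = 0 ∧ j = d0 ∨ i = d0 ∧ j = 0 := by decide +kernel

theorem R0_cent_data : (grpAKey.all fun n =>
    decide (pidx (ev n (ctr d0)) = d0) == grpBKey.contains n) = true := by decide +kernel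

theorem UB_swap : ∃ w ∈ grpBKey, pidx (ev w (ctr 0)) = d0 ∧ pidx (ev w (ctr d0)) = 0 := by decide +kernel

theorem act45_ne {g : Equiv.Perm Vt} (hg : g ∈ U) {i j : Fin 45} (hij : i ≠ j) : act45 g i ≠ act45 g j := fun e => by
  have e2 : tvP (act45 g i) = tvP (act45 g j) := by rw [e]
  rw [← conj_tvP hg, ← conj_tvP hg] at e2
  exact hij (tvP_inj (mul_left_cancel (mul_right_cancel e2)))

theorem h_scalar_zero : ∀ i j : Fin 45, ∀ a b : Fin 4, a ≠ 0 → b ≠ 0 →
    (h (sm a.val (ctr i)) (sm b.val (ctr j)) = 0 ↔ h (ctr i) (ctr j) = 0) := by decide +kernel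

theorem act45_orth {g : Equiv.Perm Vt} (hg : g ∈ U) (i j : Fin 45) :
    h (ctr (act45 g i)) (ctr (act45 g j)) = 0 ↔ h (ctr i) (ctr j) = 0 := by
  have hl := lin_of_mem hg
  obtain ⟨a, ha, ea⟩ := pidx_spec (g (ctr i)).code (hl.ne_zero (ctr_iso i).2) (by rw [hl.map_h]; exact (ctr_iso i).1)
  obtain ⟨b, hb, eb⟩ := pidx_spec (g (ctr j)).code (hl.ne_zero (ctr_iso j).2) (by rw [hl.map_h]; exact (ctr_iso j).1)
  rw [← h_scalar_zero _ _ a b ha hb, act45, act45, ← ea, ← eb, hl.map_h]

theorem d0_orth : (0 : Fin 45) ≠ d0 ∧ h (ctr 0) (ctr d0) = 0 := by decide +kernel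

theorem commute_R0 {g : Equiv.Perm Vt} (hg : g ∈ U) (hc : g * R0 = R0 * g) : key g ∈ grpBKey := by
  have hp : act45 g 0 = 0 ∧ act45 g d0 = d0 ∨ act45 g 0 = d0 ∧ act45 g d0 = 0 := by
    refine pair_unique _ _ (act45_ne hg d0_orth.1) ((act45_orth hg _ _).2 d0_orth.2) ?_
    rw [← key_pair, ← key_pair, ← conj_tvP hg, ← conj_tvP hg,
      show g * tvP 0 * g⁻¹ * (g * tvP d0 * g⁻¹) = g * R0 * g⁻¹ by simp only [R0]; group, hc, mul_inv_cancel_right]
    rfl
  have fixd : ∀ g ∈ U, act45 g 0 = 0 → act45 g d0 = d0 → key g ∈ grpBKey := fun g hg h0 hd => by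
    have hA := commute_tv0 hg (by
      have := conj_tvP hg 0
      rw [h0] at this
      exact mul_inv_eq_iff_eq_mul.1 this)
    have := List.all_eq_true.1 R0_cent_data _ hA
    rw [beq_iff_eq, ev_key hg, show pidx (g (ctr d0)) = d0 from hd] at this
    exact List.contains_iff_mem.1 (by simpa using this.symm)
  rcases hp with ⟨h0, hd⟩ | ⟨h0, hd⟩
  · exact fixd g hg h0 hd
  · obtain ⟨w, hw, w1, w2⟩ := UB_swap
    obtain ⟨x, hx, e, hu⟩ := exists_of_mem_list grpB_ok hw
    have x1 : act45 x 0 = d0 := by rw [act45, ← ev_key hu, e]; exact w1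
    have x2 : act45 x d0 = 0 := by rw [act45, ← ev_key hu, e]; exact w2
    have hk := fixd (x * g) (mul_mem hu hg) (by rw [act45_mul hu hg, h0, x2]) (by rw [act45_mul hu hg, hd, x1])
    have hm : x * g ∈ UB := mem_UB_of_key (mul_mem hu hg) hk
    have := (UB_le (mul_mem (inv_mem (show x ∈ UB from hx)) hm)).2
    rwa [inv_mul_cancel_left] at this

theorem pairs_covered : (pairWordList.map fun w =>
    let a := pidx (ev (wordK w) (ctr 0)); let b := pidx (ev (wordK w) (ctr d0))
    (min a b, max a b)) = ((List.finRange 45).flatMap fun i => (List.finRange 45).filterMap fun j =>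
      if i < j ∧ h (ctr i) (ctr j) = 0 then some (i, j) else none) := by decide +kernel

theorem exists_move_pair {i j : Fin 45} (hij : i < j) (ho : h (ctr i) (ctr j) = 0) :
    ∃ g ∈ U, (act45 g 0 = i ∧ act45 g d0 = j) ∨ (act45 g 0 = j ∧ act45 g d0 = i) := by
  have hm : (i, j) ∈ pairWordList.map fun w =>
      let a := pidx (ev (wordK w) (ctr 0)); let b := pidx (ev (wordK w) (ctr d0))
      (min a b, max a b) := by
    rw [pairs_covered]
    exact List.mem_flatMap.2 ⟨i, List.mem_finRange i, List.mem_filterMap.2 ⟨j, List.mem_finRange j, by simp [hij, ho]⟩⟩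
  obtain ⟨w, -, e⟩ := List.mem_map.1 hm
  refine ⟨wordP w, wordP_mem w, ?_⟩
  simp only [Prod.mk.injEq] at e
  rw [act45, act45, ← ev_key (wordP_mem w), ← ev_key (wordP_mem w), key_word]
  rcases le_total (pidx (ev (wordK w) (ctr 0))) (pidx (ev (wordK w) (ctr d0))) with hh | hh
  · rw [min_eq_left hh, max_eq_right hh] at e; exact Or.inl e
  · rw [min_eq_right hh, max_eq_left hh] at e; exact Or.inr ⟨e.2, e.1⟩

theorem comm_orth : ∀ i j : Fin 45, (pairK i j == pairK j i) = (i == j || h (ctr i) (ctr j) == 0) := by decide +kernel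

theorem commute_iff (i j : Fin 45) : tvP i * tvP j = tvP j * tvP i ↔ i = j ∨ h (ctr i) (ctr j) = 0 := by
  have := comm_orth i j
  constructor
  · intro e
    rw [← key_pair, ← key_pair, e, beq_self_eq_true] at this
    have h' := this.symm
    simp only [Bool.or_eq_true, beq_iff_eq] at h'
    exact h'
  · intro e
    refine key_inj (mul_mem (tvP_mem i) (tvP_mem j)) (mul_mem (tvP_mem j) (tvP_mem i)) ?_
    rw [key_pair, key_pair]
    refine beq_iff_eq.1 (this.trans ?_)
    rcases e with e | e <;> simp [e]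

theorem conj_R0 {i j : Fin 45} (hij : i ≠ j) (ho : h (ctr i) (ctr j) = 0) :
    ∃ g ∈ U, g * R0 * g⁻¹ = tvP i * tvP j := by
  have gen : ∀ {i j : Fin 45}, i < j → h (ctr i) (ctr j) = 0 → ∃ g ∈ U, g * R0 * g⁻¹ = tvP i * tvP j := by
    intro i j hlt ho
    obtain ⟨g, hg, e⟩ := exists_move_pair hlt ho
    refine ⟨g, hg, ?_⟩
    rw [show g * R0 * g⁻¹ = (g * tvP 0 * g⁻¹) * (g * tvP d0 * g⁻¹) by simp only [R0]; group, conj_tvP hg, conj_tvP hg]
    rcases e with ⟨e1, e2⟩ | ⟨e1, e2⟩ <;> rw [e1, e2]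
    exact ((commute_iff i j).2 (Or.inr ho)).symm
  rcases lt_or_gt_of_ne hij with hlt | hlt
  · exact gen hlt ho
  · have hc := (commute_iff i j).2 (Or.inr ho)
    obtain ⟨g, hg, e⟩ := gen hlt (by
      rcases (commute_iff j i).1 hc.symm with h | h
      · exact absurd h.symm hij
      · exact h)
    exact ⟨g, hg, e.trans hc.symm⟩

theorem sylow_invols : (grpSKey.all fun n => mulK n n != idK || n == idK ||
    (List.finRange 45).any fun i => n == keyOf (tv (ctr i)) ||
      (List.finRange 45).any fun j => i != j && h (ctr i) (ctr j) == 0 && n == pairK i j) = true := by decide +kernel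

theorem US_le_U : US ≤ U := fun _ hx => (US_le hx).1

theorem invol_cases {g : Equiv.Perm Vt} (hg : g ∈ U) (h2 : g * g = 1) (h1 : g ≠ 1) :
    ∃ u ∈ U, g = u * tvP 0 * u⁻¹ ∨ g = u * R0 * u⁻¹ := by
  haveI : Fact (Nat.Prime 2) := ⟨Nat.prime_two⟩
  have hcard : Nat.card ↥(US.subgroupOf U) = 2 ^ (Nat.card ↥U).factorization 2 := by
    rw [Nat.card_congr (Subgroup.subgroupOfEquivOfLe US_le_U).toEquiv, US, card_closure grpS_ok, grpA_len.2.1, card_U,
      Nat.factorization_def _ Nat.prime_two, show (25920 : ℕ) = 2 ^ 6 * 405 by norm_num,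
      padicValNat.mul (by norm_num) (by norm_num), padicValNat.prime_pow, padicValNat.eq_zero_of_not_dvd (by norm_num)]
    rfl
  let P : Sylow 2 ↥U := Sylow.ofCard (US.subgroupOf U) hcard
  let x : ↥U := ⟨g, hg⟩
  have hx : IsPGroup 2 ↥(zpowers x) := IsPGroup.of_card (n := 1) (by
    rw [Nat.card_zpowers, pow_one]
    exact orderOf_eq_prime (Subtype.ext (by rw [pow_two]; exact h2)) fun e => h1 (congrArg Subtype.val e))
  obtain ⟨Q, hQ⟩ := hx.exists_le_sylow
  obtain ⟨y, hy⟩ := MulAction.exists_smul_eq ↥U Q P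
  have hm : y * x * y⁻¹ ∈ (P : Subgroup ↥U) := by
    rw [← hy]
    exact (Subgroup.mem_smul_pointwise_iff_exists _ _ _).2 ⟨x, hQ (mem_zpowers x), rfl⟩
  have hS : y.1 * g * y.1⁻¹ ∈ US := hm
  obtain ⟨hu, hk⟩ := US_le hS
  set n := y.1 * g * y.1⁻¹ with hn
  have n2 : n * n = 1 := by
    rw [hn, show y.1 * g * y.1⁻¹ * (y.1 * g * y.1⁻¹) = y.1 * (g * g) * y.1⁻¹ by group, h2]
    group
  have n1 : key n ≠ idK := fun e => h1 (by
    have := key_inj hu (one_mem _) (e.trans (rfl : idK = key (1 : Equiv.Perm Vt)))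
    rw [hn] at this
    exact conj_eq_one_iff.1 this)
  have := List.all_eq_true.1 sylow_invols _ hk
  simp only [Bool.or_eq_true, bne_iff_ne, ne_eq, beq_iff_eq, ← key_mul hu, n2, List.any_eq_true, List.mem_finRange,
    true_and, Bool.and_eq_true] at this
  rcases this with (h | h) | ⟨i, h | ⟨j, ⟨hij, ho⟩, h⟩⟩
  · exact absurd rfl h
  · exact absurd h n1
  · refine ⟨y.1⁻¹ * mv i, mul_mem (inv_mem y.2) (mv_mem i), Or.inl ?_⟩
    have e := key_inj hu (tvP_mem i) h
    rw [show y.1⁻¹ * mv i * tvP 0 * (y.1⁻¹ * mv i)⁻¹ = y.1⁻¹ * (mv i * tvP 0 * (mv i)⁻¹) * y.1 by group,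
      conj_tvP (mv_mem i), act45_mv, ← e, hn]
    group
  · obtain ⟨u, hu', e⟩ := conj_R0 hij ho
    refine ⟨y.1⁻¹ * u, mul_mem (inv_mem y.2) hu', Or.inr ?_⟩
    have e2 := key_inj hu (mul_mem (tvP_mem i) (tvP_mem j)) (h.trans (key_pair i j).symm)
    rw [show y.1⁻¹ * u * R0 * (y.1⁻¹ * u)⁻¹ = y.1⁻¹ * (u * R0 * u⁻¹) * y.1 by group, e, ← e2, hn]
    group

/-- An anisotropic vector. -/
def uvV (i : Fin 40) : Vt := vt (Cfsg.Lib.Classical.FortyPoints.uCode.getD i.val 0)

/-- The point of an anisotropic vector. -/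
def aidx (v : Vt) : Fin 40 :=
  ((List.finRange 40).find? fun i => v == uvV i || v == sm 2 (uvV i) || v == sm 3 (uvV i)).getD 0

theorem aidx_spec : ∀ v : Fin 256, h ⟨v⟩ ⟨v⟩ = 1 → ∃ a : Fin 4, a ≠ 0 ∧ (⟨v⟩ : Vt) = sm a.val (uvV (aidx ⟨v⟩)) := by
  decide +kernel

theorem aidx_sm : ∀ v : Fin 256, h ⟨v⟩ ⟨v⟩ = 1 → ∀ a : Fin 4, a ≠ 0 → aidx (sm a.val ⟨v⟩) = aidx ⟨v⟩ := by
  decide +kernel

theorem uvV_facts : ∀ i : Fin 40, h (uvV i) (uvV i) = 1 ∧ aidx (uvV i) = i := by decide +kernel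

/-- The action on the anisotropic points. -/
def act40 (g : Equiv.Perm Vt) (i : Fin 40) : Fin 40 := aidx (g (uvV i))

theorem act40_mul {g g' : Equiv.Perm Vt} (hg : g ∈ U) (hg' : g' ∈ U) (i : Fin 40) :
    act40 (g * g') i = act40 g (act40 g' i) := by
  have hl := lin_of_mem hg
  obtain ⟨a, ha, e⟩ := aidx_spec (g' (uvV i)).code (by rw [(lin_of_mem hg').map_h]; exact (uvV_facts i).1)
  rw [act40, Equiv.Perm.mul_apply]
  conv_lhs => rw [show g' (uvV i) = sm a.val (uvV (aidx (g' (uvV i)))) from e, hl.map_sm _ _ a.isLt]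
  exact aidx_sm _ ((hl.map_h _ _).trans (uvV_facts _).1) a ha

/-- The map to the permutations of the anisotropic points. -/
def toForty : ↥U →* Equiv.Perm (Fin 40) where
  toFun g := ⟨act40 g.1, act40 g.1⁻¹, fun i => by
      rw [← act40_mul (inv_mem g.2) g.2, inv_mul_cancel]; exact (uvV_facts i).2,
    fun i => by rw [← act40_mul g.2 (inv_mem g.2), mul_inv_cancel]; exact (uvV_facts i).2⟩
  map_one' := Equiv.ext fun i => (uvV_facts i).2
  map_mul' g g' := Equiv.ext fun i => act40_mul g.2 g'.2 i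

theorem forty_ok : ∀ i j : Fin 40,
    aidx (ev (wordK (fortyWord.getD i.val [])) (uvV j)) = Cfsg.Lib.Classical.FortyPoints.t i j := by decide +kernel

theorem equiv_forty {K : Type} [Field K] [Fintype K] (hK : Fintype.card K = 3) :
    Nonempty (↥U ≃* Cfsg.PSp 2 K) := by
  obtain ⟨hM, ⟨ψ⟩⟩ := Cfsg.Lib.Classical.FortyPoints.symplectic hK
  have hle : Cfsg.Lib.Classical.FortyPoints.model ≤ toForty.range := (Subgroup.closure_le _).2 (by
    rintro _ ⟨i, rfl⟩
    refine ⟨⟨wordP (fortyWord.getD i.val []), wordP_mem _⟩, Equiv.ext fun j => ?_⟩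
    show act40 (wordP (fortyWord.getD i.val [])) j = Cfsg.Lib.Classical.FortyPoints.t i j
    rw [act40, ← ev_key (wordP_mem _), key_word]
    exact forty_ok i j)
  have hs := toForty.rangeRestrict_surjective
  have h1 := Nat.card_le_card_of_surjective _ hs
  rw [card_U] at h1
  have h2 := Subgroup.card_le_of_le hle
  have heq : toForty.range = Cfsg.Lib.Classical.FortyPoints.model :=
    (Subgroup.eq_of_le_of_card_ge hle (by omega)).symm
  have hb : Function.Bijective toForty.rangeRestrict :=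
    (Nat.bijective_iff_surjective_and_card _).2 ⟨hs, by rw [card_U, heq, hM]⟩
  exact ⟨((MulEquiv.ofBijective _ hb).trans (MulEquiv.subgroupCongr heq)).trans ψ.symm⟩

end Cfsg.Lib.USixType
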