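import Cfsg.Agent.USixType.Weak
import Cfsg.Agent.USixType.Steps

/-!
# Two commuting conjugates of the centre
-/

set_option autoImplicit false
set_option Elab.async false

namespace Cfsg.Lib.USixType

open Subgroup

universe u

variable {G : Type u} [Group G] {z x : G} {J J' : Subgroup G}

/-- Two distinct commuting conjugates with coordinates, each weakly closed in its core. -/
structure Pr (c : Coord z J) (c' : Coord x J') : Prop where
  conj : IsConj z x
  comm : Commute x z
  ne : x ≠ z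
  closed : ∀ d, IsConj z d → d ∈ J → d = z
  closed' : ∀ d, IsConj z d → d ∈ J' → d = x

namespace Pr

variable {c : Coord z J} {c' : Coord x J'} (P : Pr c c')
include P

theorem symm : Pr c' c where
  conj := P.conj.symm
  comm := P.comm.symm
  ne := P.ne.symm
  closed d hd := P.closed' d (P.conj.trans hd)
  closed' d hd := P.closed d (P.conj.trans hd)

theorem twist (u v : Equiv.Perm Vt) (hu : u ∈ U) (hv : v ∈ U) : Pr (c.twist u hu) (c'.twist v hv) :=
  ⟨P.conj, P.comm, P.ne, P.closed, P.closed'⟩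

theorem x_notMem : x ∉ J := fun h => P.ne (P.closed x P.conj h)

theorem z_notMem : z ∉ J' := fun h => P.ne (P.closed' z (IsConj.refl z) h).symm

theorem x_sq : x * x = 1 := c'.z_sq

theorem x_inv : x⁻¹ = x := c'.z_inv

theorem πx_sq : c.π x * c.π x = 1 := by rw [← c.π_mul x x P.comm P.comm, P.x_sq, c.π_one]

theorem πx_ne : c.π x ≠ 1 := fun h => P.x_notMem ((c.π_ker x P.comm).1 h)

/-- The shift of `x` by an element of the core. -/
theorem shift {q : G} (hq : q ∈ J) :
    x * (q⁻¹ * x * q) ∈ J ∧ c.β (x * (q⁻¹ * x * q)) = c.π x (c.β q) + c.β q := by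
  have e : x * (q⁻¹ * x * q) = (x * q⁻¹ * x⁻¹) * q := by rw [P.x_inv]; group
  have hm := c.norm x P.comm q⁻¹ (inv_mem hq)
  rw [e]
  refine ⟨mul_mem hm hq, ?_⟩
  rw [c.β_mul _ hm q hq, c.equiv x P.comm _ (inv_mem hq), c.β_inv hq]

theorem conj_shift {q : G} : IsConj z (q⁻¹ * x * q) :=
  P.conj.trans (isConj_iff.2 ⟨q⁻¹, by rw [inv_inv]⟩)

/-- The commutator with `x` of a vector it fixes. -/
theorem fixed_comm {q : G} (hq : q ∈ J) (hf : c.π x (c.β q) = c.β q) : ∃ b, x * q * x = q * zp z b := by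
  obtain ⟨b, hb⟩ := c.eq_or_mul_z hq (c.norm x P.comm q hq) (by rw [c.equiv x P.comm q hq, hf])
  exact ⟨b, by rw [← hb, P.x_inv]⟩

theorem fixed_of_comm {q : G} (hq : q ∈ J) (h : Commute x q) : c.π x (c.β q) = c.β q := by
  rw [← c.equiv x P.comm q hq, h.eq, mul_inv_cancel_right]

theorem inter_comm {k : G} (hk : k ∈ J') : Commute x k := (c'.le k hk).symm

/-- Elements of the intersection commute with the elements of the core commuting with `x`. -/
theorem inter_central {k q : G} (hk : k ∈ J) (hk' : k ∈ J') (hq : q ∈ J) (hqx : Commute q x) : Commute k q := by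
  have h1 : k * q * k⁻¹ * q⁻¹ ∈ J' := by
    rw [show k * q * k⁻¹ * q⁻¹ = k * (q * k⁻¹ * q⁻¹) by group]
    exact mul_mem hk' (c'.norm q hqx k⁻¹ (inv_mem hk'))
  rw [c.comm k hk q hq] at h1
  refine (c.commute_iff hk hq).2 ?_
  cases hb : B (c.β k) (c.β q)
  · rfl
  · rw [hb] at h1; exact absurd h1 P.z_notMem

theorem inter_B {k q : G} (hk : k ∈ J) (hk' : k ∈ J') (hq : q ∈ J) (hqx : Commute q x) :
    B (c.β k) (c.β q) = false :=
  (c.commute_iff hk hq).1 (P.inter_central hk hk' hq hqx)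

theorem inter_Q {k : G} (hk : k ∈ J) (hk' : k ∈ J') : Q (c.β k) = false := by
  cases hb : Q (c.β k)
  · rfl
  · have := mul_mem hk' hk'
    rw [c.sq k hk, hb] at this
    exact absurd this P.z_notMem

theorem inter_inj {k l : G} (hk : k ∈ J ⊓ J') (hl : l ∈ J ⊓ J') (e : c.β k = c.β l) : k = l := by
  obtain ⟨b, hb⟩ := c.eq_or_mul_z hk.1 hl.1 e
  cases b
  · simp [zp] at hb; exact hb.symm
  · exfalso
    refine P.z_notMem ?_
    have := mul_mem (J'.inv_mem hk.2) hl.2
    rw [hb, inv_mul_cancel_left] at this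
    exact this

theorem inter_fixed {k : G} (hk : k ∈ J ⊓ J') : c.π x (c.β k) = c.β k := P.fixed_of_comm hk.1 (P.inter_comm hk.2)

/-- An element of the intersection never moves `x` inside its own class. -/
theorem no_step {k : G} (hk : k ∈ J') (hk1 : k ≠ 1) : ¬ IsConj z (x * k) := fun h => by
  have := P.closed' _ h (mul_mem c'.mem hk)
  exact hk1 (mul_eq_left.1 this)

/-- The other centraliser in the core. -/
theorem other_split [Finite G] : Nat.card ↥(J' ⊓ centralizer ({z} : Set G)) =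
    Nat.card ↥(J ⊓ J') * (c.π '' ((J' ⊓ centralizer ({z} : Set G) : Subgroup G) : Set G)).ncard := by
  rw [c.card_split (K := J' ⊓ centralizer ({z} : Set G)) fun h hh => mem_centralizer_singleton_iff.1 hh.2]
  rw [show J' ⊓ centralizer ({z} : Set G) ⊓ J = J ⊓ J' from le_antisymm (fun q hq => ⟨hq.2, hq.1.1⟩)
    fun q hq => ⟨⟨hq.2, mem_centralizer_singleton_iff.2 (c.le q hq.1).eq⟩, hq.1⟩]

theorem other_elem {a : G} (ha : a ∈ J') (haz : Commute a z) :
    c.π a * c.π x = c.π x * c.π a ∧ (c.π a * c.π a = 1 ∨ c.π a * c.π a = c.π x) := by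
  constructor
  · rw [← c.π_mul a x haz P.comm, ← c.π_mul x a P.comm haz, (c'.le a ha).eq]
  · rw [← c.π_mul a a haz haz, c'.sq a ha]
    cases Q (c'.β a)
    · exact Or.inl c.π_one
    · exact Or.inr rfl

theorem other_diff {a q : G} (ha : a ∈ J') (haz : Commute a z) (hq : q ∈ J) (hqx : Commute q x) :
    ∃ k ∈ J ⊓ J', c.π a (c.β q) + c.β q = c.β k := by
  refine ⟨a * q * a⁻¹ * q⁻¹, ⟨mul_mem (c.norm a haz q hq) (J.inv_mem hq), ?_⟩, ?_⟩
  · rw [show a * q * a⁻¹ * q⁻¹ = a * (q * a⁻¹ * q⁻¹) by group]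
    exact mul_mem ha (c'.norm q hqx a⁻¹ (inv_mem ha))
  · rw [c.β_mul _ (c.norm a haz q hq) _ (inv_mem hq), c.equiv a haz q hq, c.β_inv hq]

/-- The preimage of the vectors fixed by `x`. -/
def fixJ (_P : Pr c c') : Subgroup G where
  carrier := {q | q ∈ J ∧ c.π x (c.β q) = c.β q}
  one_mem' := ⟨one_mem J, by rw [c.β_one, (c.π_lin _P.comm).map_zero]⟩
  mul_mem' := fun {a b} ha hb => ⟨mul_mem ha.1 hb.1, by
    rw [c.β_mul a ha.1 b hb.1, (c.π_lin _P.comm).map_add, ha.2, hb.2]⟩
  inv_mem' := fun {a} ha => ⟨inv_mem ha.1, by rw [c.β_inv ha.1, ha.2]⟩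

theorem card_fixJ [Finite G] : Nat.card ↥P.fixJ = 2 * {v | c.π x v = v}.ncard := by
  rw [c.card_pre (K := P.fixJ) (fun q hq => hq.1) ⟨c.mem, by rw [c.β_z, (c.π_lin P.comm).map_zero]⟩]
  congr 2
  ext v
  constructor
  · rintro ⟨q, hq, rfl⟩; exact hq.2
  · intro hv
    obtain ⟨q, hq, rfl⟩ := c.β_surj v
    exact ⟨q, ⟨hq, hv⟩, rfl⟩

theorem fixJ_le_double [Finite G] : Nat.card ↥P.fixJ ≤ 2 * Nat.card ↥(J ⊓ centralizer ({x} : Set G)) := by
  classical
  have hmem : ∀ q ∈ J, Commute x q → q ∈ J ⊓ centralizer ({x} : Set G) := fun q hq h =>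
    ⟨hq, mem_centralizer_singleton_iff.2 h.eq.symm⟩
  by_cases hall : ∀ q ∈ P.fixJ, Commute x q
  · have := Subgroup.card_le_of_le (show P.fixJ ≤ J ⊓ centralizer ({x} : Set G) from fun q hq => hmem q hq.1 (hall q hq))
    omega
  · push Not at hall
    obtain ⟨q₀, hq₀, hne⟩ := hall
    have hswap : ∀ q ∈ P.fixJ, ¬ Commute x q → x * q * x = q * z := fun q hq hn => by
      obtain ⟨b, hb⟩ := P.fixed_comm hq.1 hq.2
      cases b
      · refine absurd ?_ hn
        show x * q = q * x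
        calc x * q = x * q * x * x := by rw [mul_assoc, P.x_sq, mul_one]
          _ = q * x := by rw [hb]; simp [zp]
      · simpa [zp] using hb
    let C := J ⊓ centralizer ({x} : Set G)
    let f : ↥P.fixJ → ↥C ⊕ ↥C := fun q =>
      if h : Commute x q.1 then Sum.inl ⟨q.1, hmem _ q.2.1 h⟩
      else Sum.inr ⟨q₀⁻¹ * q.1, hmem _ (mul_mem (inv_mem hq₀.1) q.2.1) (by
        have e1 := hswap q₀ hq₀ hne
        have e2 := hswap q.1 q.2 h
        have e : x * (q₀⁻¹ * q.1) * x = q₀⁻¹ * q.1 := by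
          have hzc : Commute (q₀⁻¹ * q.1) z := (c.le q₀ hq₀.1).inv_left.mul_left (c.le q.1 q.2.1)
          calc x * (q₀⁻¹ * q.1) * x = (x * q₀ * x)⁻¹ * (x * q.1 * x) := by
                rw [mul_inv_rev, mul_inv_rev, P.x_inv]
                simp only [mul_assoc]
                rw [← mul_assoc x x (q.1 * x), P.x_sq, one_mul]
            _ = z⁻¹ * (q₀⁻¹ * q.1) * z := by rw [e1, e2]; group
            _ = q₀⁻¹ * q.1 := by rw [mul_assoc, hzc.eq, inv_mul_cancel_left]
        show x * (q₀⁻¹ * q.1) = q₀⁻¹ * q.1 * x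
        calc x * (q₀⁻¹ * q.1) = x * (q₀⁻¹ * q.1) * x * x := by rw [mul_assoc _ x x, P.x_sq, mul_one]
          _ = q₀⁻¹ * q.1 * x := by rw [e])⟩
    have hinj : Function.Injective f := by
      intro a b e
      simp only [f] at e
      split at e <;> split at e
      · exact Subtype.ext (congrArg Subtype.val (Sum.inl.inj e) :)
      · exact absurd e Sum.inl_ne_inr
      · exact absurd e Sum.inr_ne_inl
      · exact Subtype.ext (mul_left_cancel (congrArg Subtype.val (Sum.inr.inj e) :))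
    have := Nat.card_le_card_of_injective f hinj
    rw [Nat.card_sum] at this
    simp only [C] at this
    omega

end Pr

/-- Any involution outside the core becomes one of two representatives in suitable coordinates. -/
theorem Coord.exists_rep (c : Coord z J) {x : G} (hx : Commute x z) (h2 : x * x = 1) (hn : x ∉ J) :
    ∃ u, ∃ hu : u ∈ U, (c.twist u hu).π x = tvP 0 ∨ (c.twist u hu).π x = R0 := by
  obtain ⟨u, hu, e⟩ := invol_cases (c.π_mem x hx) (by rw [← c.π_mul x x hx hx, h2, c.π_one])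
    (fun h => hn ((c.π_ker x hx).1 h))
  refine ⟨u⁻¹, inv_mem hu, ?_⟩
  rw [c.twist_π, inv_inv]
  rcases e with e | e
  · left; rw [e]; group
  · right; rw [e]; group

end Cfsg.Lib.USixType
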