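import Cfsg.Agent.USixType.PairShift

/-!
# Two products of orthogonal transvections do not form a pair
-/

set_option autoImplicit false
set_option Elab.async false

namespace Cfsg.Lib.USixType

open Subgroup

universe u

variable {G : Type u} [Group G] {z x : G} {J J' : Subgroup G}

namespace Pr

variable [Finite G] {c : Coord z J} {c' : Coord x J'} (P : Pr c c')
include P

section NoR

attribute [local irreducible] grpBKey fixR

set_option maxHeartbeats 1000000 in
/-- Two products of orthogonal transvections do not form a pair. -/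
theorem no_R (hR : c.π x = R0) (hR' : c'.π z = R0) : False := by
  classical
  set C := J ⊓ centralizer ({x} : Set G)
  have hC : ∀ a ∈ C, a ∈ J ∧ Commute a x := fun a ha => ⟨ha.1, mem_centralizer_singleton_iff.1 ha.2⟩
  have hCc := P.card_C_R hR
  have hsplit := P.symm.other_split
  rw [show Nat.card ↥(J ⊓ centralizer ({x} : Set G)) = 32 from hCc, P.card_inter_symm] at hsplit
  set n := (c'.π '' ((J ⊓ centralizer ({x} : Set G) : Subgroup G) : Set G)).ncard with hn
  have hkey : ∀ a ∈ C, key (c'.π a) ∈ grpBKey.filter (fun m => fixR.all fun v => ev m v == v) := fun a ha => by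
    exact List.mem_filter.2 (P.symm.R_other_fix hR' (hC a ha).1 (hC a ha).2)
  have hn16 : n ≤ 16 := by
    have := c'.ncard_keys_le (S := (C : Set G)) (fun a ha => (hC a ha).2) (L := grpBKey)
      (fun m => fixR.all fun v => ev m v == v) (fun a ha => List.mem_filter.1 (hkey a ha))
    rwa [fixL_count] at this
  have hk4 := P.R_inter_le hR
  have hpick : ∀ S : Finset G, S.card < Nat.card ↥(J ⊓ J') → ∃ k ∈ J ⊓ J', k ∉ S := fun S hS => by
    by_contra hno
    push Not at hno
    have := Nat.card_le_card_of_injective (fun k : ↥(J ⊓ J') => (⟨k.1, hno k.1 k.2⟩ : {g // g ∈ S}))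
      fun a b e => Subtype.ext (congrArg Subtype.val e :)
    rw [Nat.card_eq_fintype_card (α := {g // g ∈ S}), Fintype.card_coe] at this
    omega
  have h2k : 2 ≤ Nat.card ↥(J ⊓ J') := by
    by_contra hh
    have := Nat.mul_le_mul (Nat.le_of_lt_succ (not_le.1 hh)) hn16
    omega
  obtain ⟨k1, hk1, hk11⟩ := hpick {1} (by rw [Finset.card_singleton]; omega)
  rw [Finset.mem_singleton] at hk11
  have both : ¬ ((∃ a ∈ C, c'.π a = tvP 0) ∧ ∃ a ∈ C, c'.π a = tvP d0) := by
    rintro ⟨⟨a, ha, e0⟩, b, hb, ed⟩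
    have l0 := P.R_tv_line hR hR' (Or.inl rfl) (hC a ha).1 (hC a ha).2 e0 hk1 hk11
    have ld := P.R_tv_line hR hR' (Or.inr rfl) (hC b hb).1 (hC b hb).2 ed hk1 hk11
    exact hk11 (P.inter_inj' hk1 (one_mem _) (by rw [c'.β_one]; exact line_disjoint _ l0 ld))
  rcases (show Nat.card ↥(J ⊓ J') = 2 ∨ 3 ≤ Nat.card ↥(J ⊓ J') by omega) with h2 | h3
  · have h16 : n = 16 := by rw [h2] at hsplit; omega
    have hall : ∀ m ∈ grpBKey.filter (fun m => fixR.all fun v => ev m v == v), ∃ a ∈ C, key (c'.π a) = m := by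
      intro m hm
      by_contra hno
      push Not at hno
      have hsub : key '' (c'.π '' (C : Set G)) ⊆
          (↑((grpBKey.filter fun m => fixR.all fun v => ev m v == v).toFinset.erase m) : Set ℕ) := by
        rintro _ ⟨_, ⟨a, ha, rfl⟩, rfl⟩
        simp only [Finset.mem_coe, Finset.mem_erase, List.mem_toFinset]
        exact ⟨hno a ha, hkey a ha⟩
      have hle := Set.ncard_le_ncard hsub (Finset.finite_toSet _)
      rw [Set.InjOn.ncard_image (by
          rintro _ ⟨a, ha, rfl⟩ _ ⟨b, hb, rfl⟩ e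
          exact key_inj (c'.π_mem a (hC a ha).2) (c'.π_mem b (hC b hb).2) e),
        Set.ncard_coe_finset, Finset.card_erase_of_mem (List.mem_toFinset.2 hm)] at hle
      have hlen := List.toFinset_card_le (grpBKey.filter fun m => fixR.all fun v => ev m v == v)
      rw [← List.countP_eq_length_filter, fixL_count] at hlen
      change n ≤ _ at hle
      omega
    obtain ⟨a, ha, ea⟩ := hall _ pair_members.2.2.1
    obtain ⟨b, hb, eb⟩ := hall _ pair_members.2.2.2
    exact both ⟨⟨a, ha, key_inj (c'.π_mem a (hC a ha).2) (tvP_mem _) (ea.trans (key_tvP 0).symm)⟩,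
      b, hb, key_inj (c'.π_mem b (hC b hb).2) (tvP_mem _) (eb.trans (key_tvP d0).symm)⟩
  obtain ⟨k2, hk2, hk2'⟩ := hpick {1, k1} (Finset.card_le_two.trans_lt (by omega))
  simp only [Finset.mem_insert, Finset.mem_singleton, not_or] at hk2'
  have hk12 : k1 * k2 ≠ 1 := fun e => hk2'.2 (P.inter_inj hk2 hk1 (by
    rw [eq_inv_of_mul_eq_one_left e, c.β_inv hk2.1]))
  have hK4 : Nat.card ↥(J ⊓ J') = 4 := by
    obtain ⟨i, hi, ei⟩ := (Nat.dvd_prime_pow Nat.prime_two).1
      (c.card ▸ Subgroup.card_dvd_of_le (inf_le_left : J ⊓ J' ≤ J) : Nat.card ↥(J ⊓ J') ∣ 2 ^ 9)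
    rcases i with _ | _ | _ | i
    · omega
    · omega
    · exact ei
    · have : 2 ^ 3 ≤ 2 ^ (i + 1 + 1 + 1) := Nat.pow_le_pow_right (by norm_num) (by omega)
      omega
  have hn8 : n = 8 := by rw [hK4] at hsplit; omega
  have hzC : z ∈ C := ⟨c.mem, mem_centralizer_singleton_iff.2 P.comm.eq.symm⟩
  obtain ⟨j, a, ha, haj⟩ : ∃ j, ∃ a ∈ C, c'.π a = tvP j := by
    have hsplit' : ∀ S : Finset ℕ, S.card < 8 → ∃ a ∈ C, key (c'.π a) ∉ S := fun S hS => by
      by_contra hno
      push Not at hno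
      have hle := Set.ncard_le_ncard (s := key '' (c'.π '' (C : Set G))) (t := (S : Set ℕ))
        (by rintro _ ⟨_, ⟨a, ha, rfl⟩, rfl⟩; exact hno a ha) (Finset.finite_toSet _)
      rw [Set.InjOn.ncard_image (by
          rintro _ ⟨a, ha, rfl⟩ _ ⟨b, hb, rfl⟩ e
          exact key_inj (c'.π_mem a (hC a ha).2) (c'.π_mem b (hC b hb).2) e), Set.ncard_coe_finset] at hle
      change n ≤ _ at hle
      omega
    obtain ⟨e, he, he'⟩ := hsplit' {idK, R0K} (Finset.card_le_two.trans_lt (by norm_num))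
    set E := key (c'.π e) with hE
    obtain ⟨f, hf, hf'⟩ := hsplit' {idK, R0K, E, mulK E R0K} (Finset.card_le_four.trans_lt (by norm_num))
    simp only [Finset.mem_insert, Finset.mem_singleton, not_or] at he' hf'
    set F := key (c'.π f) with hF
    have hz' : key (c'.π z) = R0K := by rw [hR', key_R0]
    have hone : key (c'.π 1) = idK := by rw [c'.π_one]; rfl
    have km : ∀ a ∈ C, ∀ b ∈ C, key (c'.π (a * b)) = mulK (key (c'.π a)) (key (c'.π b)) := fun a ha b hb => by
      rw [c'.π_mul a b (hC a ha).2 (hC b hb).2, key_mul (c'.π_mem a (hC a ha).2)]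
    have hall : ∀ m ∈ [idK, R0K, E, mulK E R0K, F, mulK F R0K, mulK E F, mulK (mulK E F) R0K],
        ∃ a ∈ C, key (c'.π a) = m :=
      List.forall_mem_cons.2 ⟨⟨1, one_mem _, hone⟩, List.forall_mem_cons.2 ⟨⟨z, hzC, hz'⟩,
      List.forall_mem_cons.2 ⟨⟨e, he, hE.symm⟩, List.forall_mem_cons.2 ⟨⟨e * z, mul_mem he hzC, by rw [km e he z hzC, hz']⟩,
      List.forall_mem_cons.2 ⟨⟨f, hf, hF.symm⟩, List.forall_mem_cons.2 ⟨⟨f * z, mul_mem hf hzC, by rw [km f hf z hzC, hz']⟩,
      List.forall_mem_cons.2 ⟨⟨e * f, mul_mem he hf, by rw [km e he f hf]⟩,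
      List.forall_mem_cons.2 ⟨⟨e * f * z, mul_mem (mul_mem he hf) hzC, by rw [km _ (mul_mem he hf) z hzC, km e he f hf, hz']⟩,
      fun _ h => nomatch h⟩⟩⟩⟩⟩⟩⟩⟩
    have hLE := List.all_eq_true.1 (List.all_eq_true.1 fixL_group _ (hkey e he)) _ (hkey f hf)
    simp only [Bool.or_eq_true, Bool.not_eq_true', decide_eq_false_iff_not, List.any_eq_true, beq_iff_eq,
      List.mem_finRange, true_and] at hLE
    have hnd : [idK, R0K, E, mulK E R0K, F, mulK F R0K, mulK E F, mulK (mulK E F) R0K].Nodup := by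
      have h := List.all_eq_true.1 (List.all_eq_true.1 fixL_nodup _ (hkey e he)) _ (hkey f hf)
      simp only [← hE, ← hF, Bool.or_eq_true, beq_iff_eq, decide_eq_true_eq] at h
      rcases h with (((((h | h) | h) | h) | h) | h) | h
      exacts [absurd h he'.1, absurd h he'.2, absurd h hf'.1, absurd h hf'.2.1, absurd h hf'.2.2.1,
        absurd h hf'.2.2.2, h]
    obtain ⟨m, hm, j, hmj⟩ := hLE.resolve_left (fun h => h hnd)
    obtain ⟨a, ha, ea⟩ := hall m hm
    exact ⟨j, a, ha, key_inj (c'.π_mem a (hC a ha).2) (tvP_mem _) (by rw [ea, hmj, key_tvP])⟩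
  have hjd : j = 0 ∨ j = d0 := by
    obtain ⟨q, hq, hqj⟩ : ∃ q ∈ J, c'.π (x * (q⁻¹ * x * q)) = tvP j := by
      obtain ⟨q, hq, e | e⟩ := P.R_lift hR (hC a ha).1 (hC a ha).2
      · exact ⟨q, hq, e ▸ haj⟩
      · by_contra hno
        push Not at hno
        have heps : ∀ k ∈ J ⊓ J', k ≠ 1 → B (c.β k) (c.β q) = true := by
          intro k hk hk0
          obtain ⟨r, hr, her, -⟩ := P.R_step hR hk hk0
          cases hb : B (c.β k) (c.β q)
          · exfalso
            refine hno (r * q) (mul_mem hr hq) ?_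
            rw [P.R_move' hR hq hk her, e, hb]
            simp only [zp, Bool.false_eq_true, if_false, mul_one]
            rw [mul_assoc a z, ← mul_assoc z z, c.z_sq, one_mul, c'.π_mul a k (hC a ha).2 (c'.le k hk.2), haj,
              c'.π_of_mem hk.2, mul_one]
          · rfl
        have := heps _ (mul_mem hk1 hk2) hk12
        rw [c.β_mul k1 hk1.1 k2 hk2.1, B_add_left, heps k1 hk1 hk11, heps k2 hk2 hk2'.1] at this
        exact Bool.false_ne_true this
    have hqne : q⁻¹ * x * q ≠ x := fun e => by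
      rw [e, P.x_sq, c'.π_one] at hqj
      exact (show ∀ i : Fin 45, keyOf (tv (ctr i)) ≠ idK by decide +kernel) j (congrArg key hqj.symm)
    obtain ⟨p, hp, hp1, l, hl, hl1, hpl, hpj, hlj⟩ : ∃ p ∈ J ⊓ J', p ≠ 1 ∧ ∃ l ∈ J ⊓ J', l ≠ 1 ∧ p ≠ l ∧
        onLine (ctr j) (c'.β p) = true ∧ onLine (ctr j) (c'.β l) = true := by
      have line0 : ∀ k ∈ J ⊓ J', B (c.β k) (c.β q) = false → onLine (ctr j) (c'.β k) = true := fun k hk hb =>
        (P.R_eps hR hq hqne hqj hk).2 hb
      obtain ⟨k0, hk0, hk00, hb0, k, hk, hkk, hkne⟩ : ∃ k0 ∈ J ⊓ J', k0 ≠ 1 ∧ B (c.β k0) (c.β q) = false ∧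
          ∃ k ∈ J ⊓ J', k ≠ 1 ∧ k ≠ k0 := by
        cases hb1 : B (c.β k1) (c.β q)
        · exact ⟨k1, hk1, hk11, hb1, k2, hk2, hk2'.1, hk2'.2⟩
        · cases hb2 : B (c.β k2) (c.β q)
          · exact ⟨k2, hk2, hk2'.1, hb2, k1, hk1, hk11, Ne.symm hk2'.2⟩
          · refine ⟨k1 * k2, mul_mem hk1 hk2, hk12, ?_, k1, hk1, hk11, fun e => hk2'.1 (mul_eq_left.1 e.symm :)⟩
            rw [c.β_mul k1 hk1.1 k2 hk2.1, B_add_left, hb1, hb2]; rfl
      cases hb : B (c.β k) (c.β q)
      · exact ⟨k, hk, hkk, k0, hk0, hk00, hkne, line0 k hk hb, line0 k0 hk0 hb0⟩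
      · obtain ⟨r, hr, her, hrv⟩ := P.R_step hR hk hkk
        have hrq := mul_mem hr hq
        have e2 : c'.π (x * ((r * q)⁻¹ * x * (r * q))) = tvP j := by
          rw [P.R_move' hR hq hk her, hb]
          have hi := P.R_comm_shift hR hq
          simp only [zp, if_true]
          rw [show x * (q⁻¹ * x * q) * (z * k) * z = x * (q⁻¹ * x * q) * k by
            rw [mul_assoc _ (z * k), mul_assoc z k, (c.le k hk.1).eq, ← mul_assoc z z, c.z_sq, one_mul],
            c'.π_mul _ k hi.symm (c'.le k hk.2), hqj, c'.π_of_mem hk.2, mul_one]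
        have hne2 : (r * q)⁻¹ * x * (r * q) ≠ x := fun e => by
          rw [e, P.x_sq, c'.π_one] at e2
          exact (show ∀ i : Fin 45, keyOf (tv (ctr i)) ≠ idK by decide +kernel) j (congrArg key e2.symm)
        have hb' : B (c.β (k * k0)) (c.β (r * q)) = false := by
          rw [c.β_mul k hk.1 k0 hk0.1, c.β_mul r hr q hq, B_add_left, B_add_right, B_add_right, hb, hb0,
            P.R_step_pair hR hk0 hk hk00 (Ne.symm hkne) hr her,
            show B (c.β k) (c.β r) = false by rw [← hrv]; exact (R0_image (c.β r).code).2.2]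
          rfl
        refine ⟨k * k0, mul_mem hk hk0, fun e => hkne (P.inter_inj hk hk0 (by
          rw [eq_inv_of_mul_eq_one_left e, c.β_inv hk0.1])), k0, hk0, hk00, fun e => hkk (mul_eq_right.1 e :),
          (P.R_eps hR hrq hne2 e2 (mul_mem hk hk0)).2 hb', line0 k0 hk0 hb0⟩
    have hp0 : c'.β p ≠ 0 := fun e => hp1 (P.inter_inj' hp (one_mem _) (by rw [e, c'.β_one]))
    have hl0 : c'.β l ≠ 0 := fun e => hl1 (P.inter_inj' hl (one_mem _) (by rw [e, c'.β_one]))
    have honto : ∀ w : Vt, onLine (ctr j) w = true → w ≠ 0 → ∃ k ∈ J ⊓ J', c'.β k = w := fun w hw hw0 => by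
      rcases line_pick j (c'.β p).code (c'.β l).code hpj hlj hp0 hl0 (fun e => hpl (P.inter_inj' hp hl e)) w.code hw
        hw0 with e | e | e
      · exact ⟨p, hp, e.symm⟩
      · exact ⟨l, hl, e.symm⟩
      · exact ⟨p * l, mul_mem hp hl, by rw [c'.β_mul p hp.2 l hl.2]; exact e.symm⟩
    obtain ⟨s, hs, hsv⟩ := honto _ (line_ctr j).1 (ctr_iso j).2
    obtain ⟨t, ht, htv⟩ := honto _ (line_ctr j).2.1 (line_ctr j).2.2.1
    have ht1 : t ≠ 1 := fun e => (line_ctr j).2.2.1 (by rw [← htv, e, c'.β_one])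
    obtain ⟨r, hr, her, hrv⟩ := P.symm.R_step hR' ⟨ht.2, ht.1⟩ ht1
    have hst : s ≠ t := fun e => (line_ctr j).2.2.2 (by rw [← htv, ← hsv, e])
    have hs1 : s ≠ 1 := fun e => (ctr_iso j).2 (by rw [← hsv, e, c'.β_one])
    have hB := P.symm.R_step_pair hR' ⟨hs.2, hs.1⟩ ⟨ht.2, ht.1⟩ hs1 hst hr her
    rw [hsv] at hB
    have hpt : ev R0K (ctr j) = ctr j := R0_point j (by
      have := (P.symm.R_other_fix hR' (hC a ha).1 (hC a ha).2).2
      rwa [haj, key_tvP] at this)
    exact R0_special j hpt (c'.β r).code (hrv.trans htv) hB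
  refine both ?_
  have other : c'.π (a * z) = tvP j * R0 := by rw [c'.π_mul a z (hC a ha).2 P.comm.symm, haj, hR']
  rcases hjd with rfl | rfl
  · refine ⟨⟨a, ha, haj⟩, a * z, mul_mem ha hzC, ?_⟩
    rw [other]
    exact key_inj (mul_mem (tvP_mem _) R0_mem) (tvP_mem _) (by
      rw [key_mul (tvP_mem _), key_R0]; exact R0_pair_other.1)
  · refine ⟨⟨a * z, mul_mem ha hzC, ?_⟩, a, ha, haj⟩
    rw [other]
    exact key_inj (mul_mem (tvP_mem _) R0_mem) (tvP_mem _) (by
      rw [key_mul (tvP_mem _), key_R0]; exact R0_pair_other.2)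

end NoR

end Pr

end Cfsg.Lib.USixType
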