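import Cfsg.Agent.USixType.PairTv

/-!
# Shifts inside a commuting pair
-/

set_option autoImplicit false
set_option Elab.async false

namespace Cfsg.Lib.USixType

open Subgroup

universe u

variable {G : Type u} [Group G] {z x : G} {J J' : Subgroup G}

theorem pair_members : R0K ∈ grpBKey.filter (fun n => fixR.all fun v => ev n v == v) ∧
    idK ∈ grpBKey.filter (fun n => fixR.all fun v => ev n v == v) ∧
    keyOf (tv (ctr 0)) ∈ grpBKey.filter (fun n => fixR.all fun v => ev n v == v) ∧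
    keyOf (tv (ctr d0)) ∈ grpBKey.filter (fun n => fixR.all fun v => ev n v == v) := by decide +kernel

theorem line_pick_aux : ∀ (j : Fin 45) (p : Fin 256), onLine (ctr j) ⟨p⟩ = true → ∀ q : Fin 256,
    onLine (ctr j) ⟨q⟩ = true →
    (⟨p⟩ : Vt) ≠ 0 → (⟨q⟩ : Vt) ≠ 0 → (⟨p⟩ : Vt) ≠ ⟨q⟩ → ∀ w : Fin 256, onLine (ctr j) ⟨w⟩ = true → (⟨w⟩ : Vt) ≠ 0 →
    (⟨w⟩ : Vt) = ⟨p⟩ ∨ (⟨w⟩ : Vt) = ⟨q⟩ ∨ (⟨w⟩ : Vt) = ⟨p⟩ + ⟨q⟩ := by decide +kernel

theorem line_pick (j : Fin 45) (p q : Fin 256) (hp : onLine (ctr j) ⟨p⟩ = true) (hq : onLine (ctr j) ⟨q⟩ = true) :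
    (⟨p⟩ : Vt) ≠ 0 → (⟨q⟩ : Vt) ≠ 0 → (⟨p⟩ : Vt) ≠ ⟨q⟩ → ∀ w : Fin 256, onLine (ctr j) ⟨w⟩ = true → (⟨w⟩ : Vt) ≠ 0 →
    (⟨w⟩ : Vt) = ⟨p⟩ ∨ (⟨w⟩ : Vt) = ⟨q⟩ ∨ (⟨w⟩ : Vt) = ⟨p⟩ + ⟨q⟩ :=
  line_pick_aux j p hp q hq

theorem line_ctr : ∀ j : Fin 45, onLine (ctr j) (ctr j) = true ∧ onLine (ctr j) (sm 2 (ctr j)) = true ∧
    sm 2 (ctr j) ≠ 0 ∧ sm 2 (ctr j) ≠ ctr j := by decide +kernel

theorem fixL_nodup : (let L := grpBKey.filter fun n => fixR.all fun v => ev n v == v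
    L.all fun e => L.all fun f =>
      e == idK || e == R0K || f == idK || f == R0K || f == e || f == mulK e R0K ||
        decide ([idK, R0K, e, mulK e R0K, f, mulK f R0K, mulK e f, mulK (mulK e f) R0K].Nodup)) = true := by
  decide +kernel

namespace Pr

variable [Finite G] {c : Coord z J} {c' : Coord x J'} (P : Pr c c')
include P

theorem closed_map {q : G} (h : IsConj z x) :
    ∀ d, IsConj z d → d ∈ J'.map (MulAut.conj q).toMonoidHom → d = q * x * q⁻¹ := by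
  intro d hd hm
  have hq := c'.mem_conj.1 hm
  have := P.closed' _ (hd.trans (isConj_iff.2 ⟨q⁻¹, by rw [inv_inv]⟩)) hq
  rw [← this]
  group

/-- The pair formed by `x` and a shift of `x`. -/
theorem shifted {q : G} (hcomm : Commute (q⁻¹ * x * q⁻¹⁻¹) x) (hne : q⁻¹ * x * q⁻¹⁻¹ ≠ x) :
    Pr c' (c'.map q⁻¹) where
  conj := isConj_iff.2 ⟨q⁻¹, rfl⟩
  comm := hcomm
  ne := hne
  closed d hd hm := P.closed' d (P.conj.trans hd) hm
  closed' d hd hm := P.closed_map P.conj d (P.conj.trans hd) hm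

/-- What a shift mapped to a transvection on the other side says about the intersection. -/
theorem R_eps (hR : c.π x = R0) {q k : G} {j : Fin 45} (hq : q ∈ J) (hne : q⁻¹ * x * q ≠ x)
    (hj : c'.π (x * (q⁻¹ * x * q)) = tvP j) (hk : k ∈ J ⊓ J') :
    (B (c.β k) (c.β q) = true → O2cond j (key (c'.π z)) = true) ∧
    (B (c.β k) (c.β q) = false → onLine (ctr j) (c'.β k) = true) := by
  obtain ⟨hi, hb⟩ := P.shift hq
  obtain ⟨v, hv⟩ : ∃ v, v = c.β q := ⟨_, rfl⟩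
  have hic : Commute x (x * (q⁻¹ * x * q)) := P.shift_commute hq (by
    rw [hR, R0_apply]; exact (R0_image (c.β q).code).2.1)
  have hy : x * (x * (q⁻¹ * x * q)) = q⁻¹ * x * q⁻¹⁻¹ := by rw [← mul_assoc, P.x_sq, one_mul, inv_inv]
  have hxy : Commute (q⁻¹ * x * q⁻¹⁻¹) x := hy ▸ ((Commute.refl x).mul_right hic).symm
  have hP := P.shifted hxy (by rwa [inv_inv])
  have hπy : c'.π (q⁻¹ * x * q⁻¹⁻¹) = tvP j := by
    rw [← hy, c'.π_mul x _ (Commute.refl x) hic.symm, c'.π_of_mem c'.mem, one_mul, hj]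
  have hS := hP.tvSide hπy
  have hm : k * zp z (B (c.β k) (c.β q)) ∈ J'.map (MulAut.conj q⁻¹).toMonoidHom := by
    refine c'.mem_conj.2 ?_
    rw [inv_inv]
    have e : q * (k * zp z (B (c.β k) (c.β q))) * q⁻¹ = k := by
      calc q * (k * zp z (B (c.β k) (c.β q))) * q⁻¹
          = q * k * (zp z (B (c.β k) (c.β q)) * q⁻¹) := by group
        _ = q * k * (q⁻¹ * zp z (B (c.β k) (c.β q))) := by rw [(Coord.zp_comm (c.le q hq).inv_left _).eq]
        _ = (q * k * q⁻¹ * k⁻¹) * (k * zp z (B (c.β k) (c.β q))) := by group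
        _ = zp z (B (c.β q) (c.β k)) * (zp z (B (c.β k) (c.β q)) * k) := by
            rw [c.comm q hq k hk.1, (Coord.zp_comm (c.le k hk.1) _).eq]
        _ = k := by
            rw [← mul_assoc, c.zp_mul, show B (c.β q) (c.β k) = B (c.β k) (c.β q) by
              rw [← phi_swap, Bool.xor_comm, phi_swap]]
            simp [zp]
    rw [e]
    exact hk.2
  constructor
  · intro hb1
    rw [hb1] at hm
    simp only [zp, if_true] at hm
    have hcx : Commute (k * z) x := ((c'.le k hk.2).mul_left P.comm.symm)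
    have := hS.image _ hm hcx
    rwa [c'.π_mul k z (c'.le k hk.2) P.comm.symm, c'.π_of_mem hk.2, one_mul] at this
  · intro hb0
    rw [hb0] at hm
    simp only [zp, Bool.false_eq_true, if_false, mul_one] at hm
    exact hS.line k ⟨hk.2, hm⟩

/-- An element of the core commuting with `x` is a shift, up to the centre. -/
theorem R_lift (hR : c.π x = R0) {a : G} (ha : a ∈ J) (hax : Commute a x) :
    ∃ q ∈ J, x * (q⁻¹ * x * q) = a ∨ x * (q⁻¹ * x * q) = a * z := by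
  have hm : c.β a ∈ fixR := by rw [mem_fixR, ← R0_apply, ← hR]; exact P.fixed_of_comm ha hax.symm
  obtain ⟨v, -, hv⟩ := List.any_eq_true.1 (List.all_eq_true.1 R0_onto _ hm)
  rw [beq_iff_eq] at hv
  obtain ⟨q, hq, hqv⟩ := c.β_surj ⟨v⟩
  obtain ⟨hi, hb⟩ := P.shift hq
  obtain ⟨d, hd⟩ := c.eq_or_mul_z ha hi ((show c.β a = c.π x (c.β q) + c.β q by
    rw [hR, R0_apply, hqv]; exact hv.symm).trans hb.symm)
  refine ⟨q, hq, ?_⟩
  cases d
  · exact Or.inl (by simpa [zp] using hd)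
  · exact Or.inr (by simpa [zp] using hd)

theorem R_comm_shift (hR : c.π x = R0) {q : G} (hq : q ∈ J) : Commute x (x * (q⁻¹ * x * q)) :=
  P.shift_commute hq (by rw [hR, R0_apply]; exact (R0_image (c.β q).code).2.1)

theorem R_move' (hR : c.π x = R0) {q k r : G} (hq : q ∈ J) (hk : k ∈ J ⊓ J') (her : r⁻¹ * x * r = x * (z * k)) :
    x * ((r * q)⁻¹ * x * (r * q)) = x * (q⁻¹ * x * q) * (z * k) * zp z (B (c.β k) (c.β q)) := by
  rw [P.R_move her, ← mul_assoc x x, P.x_sq, one_mul, P.conj_zp_mul hq hk.1]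
  simp only [mul_assoc]

/-- A shift with image one transvection of the pair, times an element of the intersection. -/
theorem R_transfer (hR : c.π x = R0) (hR' : c'.π z = R0) {q k : G} {j : Fin 45} (hj : j = 0 ∨ j = d0) (hq : q ∈ J)
    (hne : q⁻¹ * x * q ≠ x) (hπ : c'.π (x * (q⁻¹ * x * q)) = tvP j) (hk : k ∈ J ⊓ J') :
    B (c.β k) (c.β q) = false ∧ onLine (ctr j) (c'.β k) = true := by
  have h := P.R_eps hR hq hne hπ hk
  have hb : B (c.β k) (c.β q) = false := by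
    cases hb : B (c.β k) (c.β q)
    · rfl
    · have := h.1 hb
      rw [hR', key_R0] at this
      rcases hj with rfl | rfl
      · rw [O2_R0.1] at this; exact absurd this Bool.false_ne_true
      · rw [O2_R0.2] at this; exact absurd this Bool.false_ne_true
  exact ⟨hb, h.2 hb⟩

theorem R_tv_line (hR : c.π x = R0) (hR' : c'.π z = R0) {a k : G} {j : Fin 45} (hj : j = 0 ∨ j = d0) (ha : a ∈ J)
    (hax : Commute a x) (hπ : c'.π a = tvP j) (hk : k ∈ J ⊓ J') (hk1 : k ≠ 1) :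
    onLine (ctr j) (c'.β k) = true := by
  have hcent : ∀ {q : G}, q ∈ J → c'.π (x * (q⁻¹ * x * q)) ≠ 1 → q⁻¹ * x * q ≠ x := fun hq h e => h (by
    rw [e, P.x_sq, c'.π_one])
  have tne : ∀ i : Fin 45, tvP i ≠ 1 := fun i e => by
    have := (show ∀ i : Fin 45, keyOf (tv (ctr i)) ≠ idK by decide +kernel) i
    exact this (congrArg key e)
  obtain ⟨q, hq, e | e⟩ := P.R_lift hR ha hax
  · exact (P.R_transfer hR hR' hj hq (hcent hq (by rw [e, hπ]; exact tne j)) (e ▸ hπ) hk).2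
  · obtain ⟨o, ho, hoj⟩ : ∃ o, (o = 0 ∨ o = d0) ∧ c'.π (x * (q⁻¹ * x * q)) = tvP o := by
      rw [e, c'.π_mul a z hax P.comm.symm, hπ, hR']
      rcases hj with rfl | rfl
      · exact ⟨d0, Or.inr rfl, key_inj (mul_mem (tvP_mem _) R0_mem) (tvP_mem _) (by
          rw [key_mul (tvP_mem _), key_R0]; exact R0_pair_other.1)⟩
      · exact ⟨0, Or.inl rfl, key_inj (mul_mem (tvP_mem _) R0_mem) (tvP_mem _) (by
          rw [key_mul (tvP_mem _), key_R0]; exact R0_pair_other.2)⟩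
    obtain ⟨r, hr, her, -⟩ := P.R_step hR hk hk1
    have hb := (P.R_transfer hR hR' ho hq (hcent hq (by rw [hoj]; exact tne o)) hoj hk).1
    have hrq := mul_mem hr hq
    have e2 : x * ((r * q)⁻¹ * x * (r * q)) = a * k := by
      rw [P.R_move' hR hq hk her, e, hb]
      simp only [zp, Bool.false_eq_true, if_false, mul_one]
      rw [mul_assoc a z, ← mul_assoc z z, c.z_sq, one_mul]
    have hπ2 : c'.π (x * ((r * q)⁻¹ * x * (r * q))) = tvP j := by
      rw [e2, c'.π_mul a k hax (c'.le k hk.2), hπ, c'.π_of_mem hk.2, mul_one]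
    exact (P.R_transfer hR hR' hj hrq (hcent hrq (by rw [hπ2]; exact tne j)) hπ2 hk).2

theorem inter_inj' {k l : G} (hk : k ∈ J ⊓ J') (hl : l ∈ J ⊓ J') (e : c'.β k = c'.β l) : k = l :=
  P.symm.inter_inj ⟨hk.2, hk.1⟩ ⟨hl.2, hl.1⟩ e

theorem card_inter_symm : Nat.card ↥(J' ⊓ J) = Nat.card ↥(J ⊓ J') := by rw [inf_comm]

end Pr

end Cfsg.Lib.USixType
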