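import Cfsg.Agent.USixType.PairBase

/-!
# The two kinds of a commuting conjugate, each seen from its side
-/

set_option autoImplicit false
set_option Elab.async false

namespace Cfsg.Lib.USixType

open Subgroup

universe u

variable {G : Type u} [Group G] {z x : G} {J J' : Subgroup G}

theorem mem_fix0 (v : Vt) : v ∈ fix0 ↔ tv ⟨5⟩ v = v := by
  obtain ⟨i⟩ := v
  simp [fix0]

theorem mem_fixR (v : Vt) : v ∈ fixR ↔ ev R0K v = v := by
  obtain ⟨i⟩ := v
  simp [fixR]

theorem tvP_zero_apply (v : Vt) : tvP 0 v = tv ⟨5⟩ v := by rw [tvP_apply, ctr_zero.1]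

theorem R0_mem : R0 ∈ U := mul_mem (tvP_mem _) (tvP_mem _)

theorem key_R0 : key R0 = R0K := key_pair 0 d0

theorem R0_apply (v : Vt) : R0 v = ev R0K v := by rw [← key_R0, ev_key R0_mem]

theorem unit_sum : ∀ m : Fin 16, vt (16 * m.val) =
    (if m.val.testBit 0 then vt 16 else 0) + (if m.val.testBit 1 then vt 32 else 0) +
      (if m.val.testBit 2 then vt 64 else 0) + (if m.val.testBit 3 then vt 128 else 0) := by decide +kernel

theorem line5_cases : ∀ a : Fin 4, sm a.val (⟨5⟩ : Vt) = 0 ∨ sm a.val (⟨5⟩ : Vt) = ⟨5⟩ ∨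
    sm a.val (⟨5⟩ : Vt) = ⟨10⟩ ∨ sm a.val (⟨5⟩ : Vt) = ⟨5⟩ + ⟨10⟩ := by decide +kernel

theorem line5_Q : ∀ a : Fin 4, Q (sm a.val (⟨5⟩ : Vt)) = false := by decide +kernel

theorem fix0_line_B : ∀ v : Fin 256, tv ⟨5⟩ ⟨v⟩ = ⟨v⟩ → ∀ a : Fin 4, B ⟨v⟩ (sm a.val ⟨5⟩) = false := by decide +kernel

theorem onLine5 : ∀ v : Fin 256, onLine ⟨5⟩ ⟨v⟩ = true → ∃ a : Fin 4, (⟨v⟩ : Vt) = sm a.val ⟨5⟩ := by decide +kernel

namespace Pr

variable [Finite G] {c : Coord z J} {c' : Coord x J'} (P : Pr c c')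
include P

/-- A shift with trivial square commutes with `x`. -/
theorem shift_commute {r : G} (hr : r ∈ J) (hQ : Q (c.π x (c.β r) + c.β r) = false) :
    Commute x (x * (r⁻¹ * x * r)) := by
  obtain ⟨hm, hb⟩ := P.shift hr
  set i := x * (r⁻¹ * x * r) with hi
  have h2 : i * i = 1 := by rw [c.sq i hm, hb, hQ]; rfl
  have e : (x * i) * (x * i) = 1 := by
    rw [hi, show x * (x * (r⁻¹ * x * r)) = (x * x) * (r⁻¹ * x * r) by group, P.x_sq, one_mul,
      show r⁻¹ * x * r * (r⁻¹ * x * r) = r⁻¹ * (x * x) * r by group, P.x_sq]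
    group
  show x * i = i * x
  calc x * i = (x * i)⁻¹ := (inv_eq_of_mul_eq_one_left e).symm
    _ = i * x := by rw [mul_inv_rev, P.x_inv, inv_eq_of_mul_eq_one_left h2]

theorem card_fix_T (hT : c.π x = tvP 0) : Nat.card ↥P.fixJ = 128 := by
  rw [P.card_fixJ, show {v | c.π x v = v} = (↑fix0.toFinset : Set Vt) by
      ext v; simp [hT, tvP_zero_apply, mem_fix0],
    Set.ncard_coe_finset, List.toFinset_card_of_nodup (by
      unfold fix0; exact ((List.nodup_finRange 256).map fun a b e => congrArg Vt.code e).filter _),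
    fix_len.1]

theorem card_fix_R (hR : c.π x = R0) : Nat.card ↥P.fixJ = 32 := by
  rw [P.card_fixJ, show {v | c.π x v = v} = (↑fixR.toFinset : Set Vt) by
      ext v; simp [hR, R0_apply, mem_fixR],
    Set.ncard_coe_finset, List.toFinset_card_of_nodup (by
      unfold fixR; exact ((List.nodup_finRange 256).map fun a b e => congrArg Vt.code e).filter _),
    fix_len.2]

/-- Every element fixed by the product of two transvections commutes with `x`. -/
theorem R_comm (hR : c.π x = R0) {q : G} (hq : q ∈ J) (hf : c.π x (c.β q) = c.β q) : Commute x q := by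
  have hm : c.β q ∈ fixR := by rw [mem_fixR, ← R0_apply, ← hR]; exact hf
  obtain ⟨v, -, hv⟩ := List.any_eq_true.1 (List.all_eq_true.1 R0_onto _ hm)
  rw [beq_iff_eq] at hv
  obtain ⟨r, hr, hrv⟩ := c.β_surj ⟨v⟩
  obtain ⟨hi, hb⟩ := P.shift hr
  have hb' : c.π x (c.β r) + c.β r = c.β q := by rw [hR, R0_apply, hrv]; exact hv
  have hc := P.shift_commute hr (by rw [hR, R0_apply, hrv]; exact (R0_image v).2.1)
  obtain ⟨b, rfl⟩ := c.eq_or_mul_z hi hq (hb.trans hb')
  exact hc.mul_right (Coord.zp_comm P.comm b)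

theorem card_C_R (hR : c.π x = R0) : Nat.card ↥(J ⊓ centralizer ({x} : Set G)) = 32 := by
  rw [← P.card_fix_R hR]
  congr 2
  exact le_antisymm (fun q hq => ⟨hq.1, P.fixed_of_comm hq.1 (mem_centralizer_singleton_iff.1 hq.2).symm⟩)
    fun q hq => ⟨hq.1, mem_centralizer_singleton_iff.2 (P.R_comm hR hq.1 hq.2).eq.symm⟩

/-- The centraliser in the core has at least `32` elements. -/
theorem card_C_ge : 32 ≤ Nat.card ↥(J ⊓ centralizer ({x} : Set G)) := by
  obtain ⟨u, hu, e | e⟩ := c.exists_rep P.comm P.x_sq P.x_notMem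
  · have h1 := (P.twist u 1 hu (one_mem U)).card_fix_T e
    have h2 := (P.twist u 1 hu (one_mem U)).fixJ_le_double
    omega
  · exact ((P.twist u 1 hu (one_mem U)).card_C_R e).ge

/-- Vectors fixed by a single transvection commute with `x`. -/
theorem T_comm (hT : c.π x = tvP 0) {q : G} (hq : q ∈ J) (hf : c.π x (c.β q) = c.β q) : Commute x q := by
  classical
  by_contra hne
  have hline : ∀ a : Fin 4, ∃ r ∈ J, c.π x (c.β r) + c.β r = sm a.val ⟨5⟩ := fun a => by
    obtain ⟨v, hv⟩ := tv0_onto a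
    obtain ⟨r, hr, hrv⟩ := c.β_surj ⟨v⟩
    exact ⟨r, hr, by rw [hT, tvP_zero_apply, hrv, hv]⟩
  let Pp : Fin 16 → Vt → Prop := fun b v => ∀ p ∈ J, c.β p = v → x * p * x = p * zp z (B v (vt (16 * b.val)))
  have hlift : ∀ (e : Bool) {v : Vt} {p : G}, p ∈ J → c.β p = v → x * p * x = p * zp z e →
      ∀ p' ∈ J, c.β p' = v → x * p' * x = p' * zp z e := by
    intro e v p hp hpv h p' hp' hp'v
    obtain ⟨d, rfl⟩ := c.eq_or_mul_z hp hp' (hpv.trans hp'v.symm)
    calc x * (p * zp z d) * x = x * p * (zp z d * x) := by group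
      _ = x * p * (x * zp z d) := by rw [(Coord.zp_comm P.comm d).eq]
      _ = (x * p * x) * zp z d := by group
      _ = p * (zp z e * zp z d) := by rw [h, mul_assoc]
      _ = p * zp z d * zp z e := by rw [c.zp_mul, Bool.xor_comm, ← c.zp_mul, mul_assoc]
  have hunit : ∀ m : Fin 16, ∃ e : Bool, ∀ p ∈ J, c.β p = vt (16 * m.val) → x * p * x = p * zp z e := fun m => by
    obtain ⟨p, hp, hpv⟩ := c.β_surj (vt (16 * m.val))
    obtain ⟨e, he⟩ := P.fixed_comm hp (by rw [hT, tvP_zero_apply, hpv]; exact fix0_units m)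
    exact ⟨e, hlift e hp hpv he⟩
  choose f hfm using hunit
  obtain ⟨b, b1, b2, b3, b4⟩ := b_table (f 1) (f 2) (f 4) (f 8)
  have hadd : ∀ u v, Pp b u → Pp b v → Pp b (u + v) := by
    intro u v hu hv
    obtain ⟨p, hp, hpu⟩ := c.β_surj u
    obtain ⟨p', hp', hpv⟩ := c.β_surj v
    refine hlift _ (mul_mem hp hp') (by rw [c.β_mul p hp p' hp', hpu, hpv]) ?_
    calc x * (p * p') * x = x * p * (x * x) * p' * x := by rw [P.x_sq]; group
      _ = (x * p * x) * (x * p' * x) := by group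
      _ = p * (zp z (B u (vt (16 * b.val))) * p') * zp z (B v (vt (16 * b.val))) := by
          rw [hu p hp hpu, hv p' hp' hpv]; group
      _ = p * p' * (zp z (B u (vt (16 * b.val))) * zp z (B v (vt (16 * b.val)))) := by
          rw [← (Coord.zp_comm (c.le p' hp') _).eq]; group
      _ = _ := by rw [c.zp_mul, B_add_left]
  have h0 : Pp b 0 := fun p hp hp0 => by
    have hb : B 0 (vt (16 * b.val)) = false := by simp [B, (h_zero _).1]
    rw [hb]
    rcases (c.β_ker p hp).1 hp0 with e | e <;> subst e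
    · simp [zp, P.x_sq]
    · simp only [zp, Bool.false_eq_true, if_false, mul_one]
      rw [P.comm.eq, mul_assoc, P.x_sq, mul_one]
  have hshift : ∀ a : Fin 4, ∀ p ∈ J, c.β p = sm a.val ⟨5⟩ → x * p * x = p * zp z false := by
    intro a
    obtain ⟨r, hr, e⟩ := hline a
    obtain ⟨hi, hb⟩ := P.shift hr
    refine hlift false hi (hb.trans e) ?_
    have hc := P.shift_commute hr (by rw [e]; exact line5_Q a)
    rw [hc.eq, mul_assoc, P.x_sq]
    simp [zp]
  have h5 : Pp b ⟨5⟩ := fun p hp hpv => by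
    rw [(b_line b).1]; exact hshift 1 p hp (hpv.trans (sm_one 5).symm)
  have h10 : Pp b ⟨10⟩ := fun p hp hpv => by
    rw [(b_line b).2]; exact hshift 2 p hp (hpv.trans ctr_zero.2.symm)
  have hall : ∀ v, tv ⟨5⟩ v = v → Pp b v := by
    intro v hv
    obtain ⟨a, m, e⟩ := fix0_decomp v.code hv
    rw [show v = (⟨v.code⟩ : Vt) from rfl, e]
    refine hadd _ _ ?_ ?_
    · rcases line5_cases a with e | e | e | e <;> rw [e]
      exacts [h0, h5, h10, hadd _ _ h5 h10]
    · rw [unit_sum]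
      refine hadd _ _ (hadd _ _ (hadd _ _ ?_ ?_) ?_) ?_ <;> split <;> first | exact h0 | skip
      · intro p hp hpv; rw [b1]; exact hfm 1 p hp hpv
      · intro p hp hpv; rw [b2]; exact hfm 2 p hp hpv
      · intro p hp hpv; rw [b3]; exact hfm 4 p hp hpv
      · intro p hp hpv; rw [b4]; exact hfm 8 p hp hpv
  have hqv : tv ⟨5⟩ (c.β q) = c.β q := by rw [← tvP_zero_apply, ← hT]; exact hf
  have hcom : ∀ p ∈ J, tv ⟨5⟩ (c.β p) = c.β p → B (c.β p) (vt (16 * b.val)) = false → Commute x p := by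
    intro p hp hv hb
    have := hall _ hv p hp rfl
    rw [hb] at this
    simp only [zp, Bool.false_eq_true, if_false, mul_one] at this
    show x * p = p * x
    calc x * p = x * p * x * x := by rw [mul_assoc _ x x, P.x_sq, mul_one]
      _ = p * x := by rw [this]
  have hbq : B (c.β q) (vt (16 * b.val)) = true := Bool.eq_true_of_not_eq_false fun e => hne (hcom q hq hqv e)
  have hb0 : b ≠ 0 := fun e => by
    rw [e, show vt (16 * ((0 : Fin 16) : ℕ)) = 0 from rfl] at hbq
    simp [B, (h_zero _).2] at hbq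
  have hq0 : x * q * x = q * z := by
    have := hall _ hqv q hq rfl
    rw [hbq] at this
    simpa [zp] using this
  have hker : ∀ k ∈ J ⊓ J', k ≠ 1 → c.β k ∈ radF b := by
    intro k hk hk1
    have hfk : tv ⟨5⟩ (c.β k) = c.β k := by rw [← tvP_zero_apply, ← hT]; exact P.inter_fixed hk
    have hbk : B (c.β k) (vt (16 * b.val)) = false := by
      apply c.zp_inj
      have := hall _ hfk k hk.1 rfl
      rw [(P.inter_comm hk.2).eq, mul_assoc, P.x_sq, mul_one] at this
      simpa [zp] using (left_eq_mul.1 this)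
    simp only [radF, kerF, List.mem_filter, mem_fix0, Bool.and_eq_true, Bool.not_eq_true', List.all_eq_true]
    refine ⟨⟨hfk, hbk⟩, ⟨?_, P.inter_Q hk.1 hk.2⟩, fun v hv => ?_⟩
    · by_contra hl
      obtain ⟨a, ha⟩ := onLine5 (c.β k).code (by simpa using hl)
      obtain ⟨r, hr, e⟩ := hline a
      obtain ⟨hi, hb⟩ := P.shift hr
      obtain ⟨d, hd⟩ := c.eq_or_mul_z hi hk.1 (hb.trans (e.trans ha.symm))
      refine P.no_step hk.2 hk1 ?_
      cases d
      · simp only [zp, Bool.false_eq_true, if_false, mul_one] at hd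
        rw [hd, show x * (x * (r⁻¹ * x * r)) = x * x * (r⁻¹ * x * r) by group, P.x_sq, one_mul]
        exact P.conj_shift
      · simp only [zp, if_true] at hd
        have hqi : Commute q (x * (r⁻¹ * x * r)) := by
          refine (c.commute_iff hq hi).2 ?_
          rw [hb, e]
          exact fix0_line_B (c.β q).code hqv a
        have : (r * q)⁻¹ * x * (r * q) = x * k := by
          have hxq : q⁻¹ * x * q = x * z := by
            calc q⁻¹ * x * q = q⁻¹ * (x * q * x) * x := by simp only [mul_assoc, P.x_sq, mul_one]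
              _ = z * x := by rw [hq0]; group
              _ = x * z := P.comm.eq.symm
          calc (r * q)⁻¹ * x * (r * q) = q⁻¹ * (r⁻¹ * x * r) * q := by group
            _ = q⁻¹ * (x * (x * (r⁻¹ * x * r))) * q := by rw [← mul_assoc x x, P.x_sq, one_mul]
            _ = (q⁻¹ * x * q) * (q⁻¹ * ((x * (r⁻¹ * x * r)) * q)) := by group
            _ = x * (z * (x * (r⁻¹ * x * r))) := by rw [hxq, ← hqi.eq]; group
            _ = x * k := by rw [hd, (c.le _ hi).eq]
        exact this ▸ P.conj_shift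
    · obtain ⟨p, hp, rfl⟩ := c.β_surj v
      exact P.inter_B hk.1 hk.2 hp (hcom p hp hv.1 hv.2).symm
  obtain ⟨p, hp, hsub⟩ : ∃ p ∈ 0 :: radF b, ∀ k ∈ J ⊓ J', c.β k = 0 ∨ c.β k = p := by
    by_cases hone : ∀ k ∈ J ⊓ J', k = 1
    · exact ⟨0, List.mem_cons_self, fun k hk => Or.inl (by rw [hone k hk, c.β_one])⟩
    · push Not at hone
      obtain ⟨k0, hk0, hk01⟩ := hone
      refine ⟨c.β k0, List.mem_cons_of_mem _ (hker k0 hk0 hk01), fun k hk => ?_⟩
      by_cases hk1 : k = 1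
      · exact Or.inl (by rw [hk1, c.β_one])
      · refine Or.inr ?_
        by_contra hd
        have h := List.all_eq_true.1 (List.all_eq_true.1 (radF_pair b hb0) _ (hker k hk hk1)) _ (hker k0 hk0 hk01)
        have hm := hker (k * k0) (mul_mem hk hk0) fun e => hd (by
          rw [eq_inv_of_mul_eq_one_left e, c.β_inv hk0.1])
        rw [c.β_mul k hk.1 k0 hk0.1] at hm
        simp [hm, hd] at h
  have hcard : Nat.card ↥(J ⊓ J') ≤ 2 := by
    have hinj : Set.InjOn c.β ((J ⊓ J' : Subgroup G) : Set G) := fun a ha b' hb' e => P.inter_inj ha hb' e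
    calc Nat.card ↥(J ⊓ J') = (c.β '' ((J ⊓ J' : Subgroup G) : Set G)).ncard := by
          rw [Set.ncard_image_of_injOn hinj, ← Nat.card_coe_set_eq]; rfl
      _ ≤ ({0, p} : Set Vt).ncard := Set.ncard_le_ncard (by rintro _ ⟨k, hk, rfl⟩; exact hsub k hk) (Set.toFinite _)
      _ ≤ 2 := (Set.ncard_insert_le _ _).trans (by rw [Set.ncard_singleton])
  have hcount := List.all_eq_true.1 (twisted_count b hb0) p hp
  rw [decide_eq_true_eq] at hcount
  have himg : (c.π '' ((J' ⊓ centralizer ({z} : Set G) : Subgroup G) : Set G)).ncard < 16 := by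
    refine lt_of_le_of_lt (c.ncard_keys_le (fun a ha => mem_centralizer_singleton_iff.1 ha.2) _ ?_) hcount
    rintro a ⟨ha, haz⟩
    have haz' : Commute a z := mem_centralizer_singleton_iff.1 haz
    obtain ⟨he1, he2⟩ := P.other_elem ha haz'
    have hm := c.π_mem a haz'
    refine ⟨commute_tv0 hm (by rwa [hT] at he1), ?_⟩
    simp only [Bool.and_eq_true, Bool.or_eq_true, beq_iff_eq, List.all_eq_true]
    refine ⟨?_, fun v hv => ?_⟩
    · rw [← key_mul hm]
      rcases he2 with e | e <;> rw [e]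
      · exact Or.inl rfl
      · exact Or.inr (by rw [hT, key_tvP, T0K])
    · simp only [kerF, List.mem_filter, mem_fix0, Bool.not_eq_true'] at hv
      obtain ⟨p', hp', rfl⟩ := c.β_surj v
      obtain ⟨k, hk, ek⟩ := P.other_diff ha haz' hp' (hcom p' hp' hv.1 hv.2).symm
      rw [ev_key hm, ek]
      exact hsub k hk
  have h32 := P.symm.card_C_ge
  rw [P.other_split] at h32
  have := Nat.mul_le_mul hcard (Nat.le_sub_one_of_lt himg)
  omega

theorem card_C_T (hT : c.π x = tvP 0) : Nat.card ↥(J ⊓ centralizer ({x} : Set G)) = 128 := by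
  rw [← P.card_fix_T hT]
  congr 2
  exact le_antisymm (fun q hq => ⟨hq.1, P.fixed_of_comm hq.1 (mem_centralizer_singleton_iff.1 hq.2).symm⟩)
    fun q hq => ⟨hq.1, mem_centralizer_singleton_iff.2 (P.T_comm hT hq.1 hq.2).eq.symm⟩

theorem R_no_z (hR : c.π x = R0) {r : G} (hr : r ∈ J) : r⁻¹ * x * r ≠ x * z := fun e => by
  obtain ⟨hi, hb⟩ := P.shift hr
  rw [e, ← mul_assoc, P.x_sq, one_mul, c.β_z, ← Vt.sub_eq_add', eq_comm, sub_eq_zero] at hb
  rw [mul_assoc, (P.R_comm hR hr hb).eq, inv_mul_cancel_left] at e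
  exact c.z_ne_one (left_eq_mul.1 e)

/-- Two shifts never differ by the centre. -/
theorem R_no_two (hR : c.π x = R0) {a b Y : G} (ha : a ∈ J) (hb : b ∈ J) (e1 : a⁻¹ * x * a = Y)
    (e2 : b⁻¹ * x * b = Y * z) : False := by
  refine P.R_no_z hR (mul_mem hb (inv_mem ha)) ?_
  calc (b * a⁻¹)⁻¹ * x * (b * a⁻¹) = a * (b⁻¹ * x * b) * a⁻¹ := by group
    _ = a * Y * (z * a⁻¹) := by rw [e2]; group
    _ = a * Y * (a⁻¹ * z) := by rw [((c.le a ha).inv_left).eq]
    _ = x * z := by rw [← e1]; group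

/-- An element of the intersection is one step times the centre. -/
theorem R_step (hR : c.π x = R0) {k : G} (hk : k ∈ J ⊓ J') (hk1 : k ≠ 1) :
    ∃ r ∈ J, r⁻¹ * x * r = x * (z * k) ∧ ev R0K (c.β r) + c.β r = c.β k := by
  have hm : c.β k ∈ fixR := by rw [mem_fixR, ← R0_apply, ← hR]; exact P.inter_fixed hk
  obtain ⟨v, -, hv⟩ := List.any_eq_true.1 (List.all_eq_true.1 R0_onto _ hm)
  rw [beq_iff_eq] at hv
  obtain ⟨r, hr, hrv⟩ := c.β_surj ⟨v⟩
  obtain ⟨hi, hb⟩ := P.shift hr
  have hb' : c.π x (c.β r) + c.β r = c.β k := by rw [hR, R0_apply, hrv]; exact hv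
  obtain ⟨d, hd⟩ := c.eq_or_mul_z hi hk.1 (hb.trans hb')
  refine ⟨r, hr, ?_, by rw [hrv]; exact hv⟩
  cases d
  · refine absurd ?_ (P.no_step hk.2 hk1)
    simp only [zp, Bool.false_eq_true, if_false, mul_one] at hd
    rw [hd, ← mul_assoc, P.x_sq, one_mul]
    exact P.conj_shift
  · simp only [zp, if_true] at hd
    rw [hd, show z * (x * (r⁻¹ * x * r) * z) = z * z * (x * (r⁻¹ * x * r)) by rw [(c.le _ hi).eq]; group, c.z_sq,
      one_mul, ← mul_assoc, P.x_sq, one_mul]

theorem R_move {r q Y : G} (hr : r⁻¹ * x * r = x * Y) :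
    (r * q)⁻¹ * x * (r * q) = x * ((x * (q⁻¹ * x * q)) * (q⁻¹ * Y * q)) := by
  rw [← mul_assoc x (x * (q⁻¹ * x * q)), ← mul_assoc x x, P.x_sq, one_mul]
  calc (r * q)⁻¹ * x * (r * q) = q⁻¹ * (r⁻¹ * x * r) * q := by group
    _ = _ := by rw [hr]; group

theorem conj_zp_mul {q p : G} (hq : q ∈ J) (hp : p ∈ J) :
    q⁻¹ * (z * p) * q = z * (p * zp z (B (c.β p) (c.β q))) := by
  calc q⁻¹ * (z * p) * q = (q⁻¹ * z) * (p * q) := by group
    _ = z * (q⁻¹ * (p * q)) := by rw [((c.le q hq).inv_left).eq]; group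
    _ = _ := by rw [c.swap hp hq]; group

/-- Steps of two different elements do not commute. -/
theorem R_step_pair (hR : c.π x = R0) {k l r : G} (hk : k ∈ J ⊓ J') (hl : l ∈ J ⊓ J') (hk1 : k ≠ 1) (hkl : k ≠ l)
    (hr : r ∈ J) (he : r⁻¹ * x * r = x * (z * l)) : B (c.β k) (c.β r) = true := by
  obtain ⟨s, hs, hes, -⟩ := P.R_step hR hk hk1
  cases hb : B (c.β k) (c.β r)
  · exfalso
    have e := P.R_move (q := r) hes
    rw [he, ← mul_assoc x x, P.x_sq, one_mul, P.conj_zp_mul hr hk.1, hb] at e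
    simp only [zp, Bool.false_eq_true, if_false, mul_one] at e
    have hzl : z * l * (z * k) = l * k := by
      calc z * l * (z * k) = z * (l * z) * k := by group
        _ = z * z * (l * k) := by rw [(c.le l hl.1).eq]; group
        _ = l * k := by rw [c.z_sq, one_mul]
    rw [hzl] at e
    refine P.no_step (mul_mem hl.2 hk.2) (fun h => hkl ?_) (e ▸ P.conj_shift)
    refine P.inter_inj hk hl ?_
    rw [eq_inv_of_mul_eq_one_left h, c.β_inv hk.1]
  · rfl

theorem R_inter_le (hR : c.π x = R0) : Nat.card ↥(J ⊓ J') ≤ 4 := by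
  classical
  by_contra hlt
  push Not at hlt
  haveI : Fintype ↥(J ⊓ J') := Fintype.ofFinite _
  rw [Nat.card_eq_fintype_card] at hlt
  have pick : ∀ S : Finset ↥(J ⊓ J'), S.card ≤ 4 → ∃ k, k ∉ S := fun S hS => by
    by_contra hc
    push Not at hc
    rw [show S = Finset.univ from Finset.eq_univ_iff_forall.2 hc, Finset.card_univ] at hS
    omega
  obtain ⟨a, ha⟩ := pick {1} (by simp)
  obtain ⟨b, hb⟩ := pick {1, a} (Finset.card_le_two.trans (by norm_num))
  obtain ⟨d, hd⟩ := pick {1, a, b, a * b} (Finset.card_le_four)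
  simp only [Finset.mem_insert, Finset.mem_singleton, not_or] at ha hb hd
  have inv_self : ∀ k : ↥(J ⊓ J'), k * k = 1 := fun k => Subtype.ext (by
    show (k : G) * k = 1
    rw [c.sq _ k.2.1, P.inter_Q k.2.1 k.2.2]; rfl)
  have hab : a * b ≠ 1 := fun e => hb.2 (by rw [← mul_left_cancel (e.trans (inv_self a).symm)])
  obtain ⟨r, hr, he, -⟩ := P.R_step hR d.2 (fun e => hd.1 (Subtype.ext e))
  have h1 := P.R_step_pair hR a.2 d.2 (fun e => ha (Subtype.ext e)) (fun e => hd.2.1 (Subtype.ext e).symm) hr he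
  have h2 := P.R_step_pair hR b.2 d.2 (fun e => hb.1 (Subtype.ext e)) (fun e => hd.2.2.1 (Subtype.ext e).symm) hr he
  have h3 := P.R_step_pair hR (a * b).2 d.2 (fun e => hab (Subtype.ext e))
    (fun e => hd.2.2.2 (Subtype.ext e).symm) hr he
  rw [Subgroup.coe_mul, c.β_mul _ a.2.1 _ b.2.1, B_add_left, h1, h2] at h3
  exact Bool.false_ne_true h3

theorem R_other_fix (hR : c.π x = R0) {a : G} (ha : a ∈ J') (haz : Commute a z) :
    key (c.π a) ∈ grpBKey ∧ (fixR.all fun v => ev (key (c.π a)) v == v) = true := by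
  have hm := c.π_mem a haz
  have hk := commute_R0 hm (by rw [← hR]; exact (P.other_elem ha haz).1)
  refine ⟨hk, ?_⟩
  have h := List.all_eq_true.1 fixL_only _ hk
  rw [Bool.or_eq_true] at h
  refine h.resolve_right fun h => ?_
  obtain ⟨v, -, hv⟩ := List.any_eq_true.1 h
  simp only [Bool.and_eq_true, bne_iff_ne, ne_eq, Bool.not_eq_true', ev_key hm, ← R0_apply, ← hR] at hv
  obtain ⟨hne, hB⟩ := hv
  obtain ⟨q, hq, hqv⟩ := c.β_surj ⟨v⟩
  rw [← hqv] at hne hB
  obtain ⟨hi, hb⟩ := P.shift hq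
  rw [← hb] at hne hB
  set i := x * (q⁻¹ * x * q) with hidef
  have hic : Commute x i := P.shift_commute hq (by rw [hR, R0_apply, hqv]; exact (R0_image v).2.1)
  have hkβ : c.β (a * i * a⁻¹ * i⁻¹) = c.π a (c.β i) + c.β i := by
    rw [c.β_mul _ (c.norm a haz i hi) _ (inv_mem hi), c.equiv a haz i hi, c.β_inv hi]
  have hk2 : a * i * a⁻¹ * i⁻¹ ∈ J ⊓ J' := by
    refine ⟨mul_mem (c.norm a haz i hi) (J.inv_mem hi), ?_⟩
    rw [show a * i * a⁻¹ * i⁻¹ = a * (i * a⁻¹ * i⁻¹) by group]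
    exact mul_mem ha (c'.norm i hic.symm a⁻¹ (inv_mem ha))
  set k := a * i * a⁻¹ * i⁻¹ with hkdef
  have hk1 : k ≠ 1 := fun e => hne (by
    rw [e, c.β_one, ← Vt.sub_eq_add', eq_comm, sub_eq_zero] at hkβ
    exact hkβ)
  obtain ⟨r, hr, her, -⟩ := P.R_step hR hk2 hk1
  have eq0 : B (c.β k) (c.β q) = false := by rw [hkβ]; exact hB
  have e1 := P.R_move (q := q) her
  rw [P.conj_zp_mul hq hk2.1, eq0] at e1
  simp only [zp, Bool.false_eq_true, if_false, mul_one, ← hidef] at e1
  have hax : a * x * a⁻¹ = x := by rw [(c'.le a ha).eq, mul_inv_cancel_right]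
  have hk_i : Commute k i := P.inter_central hk2.1 hk2.2 hi hic.symm
  have e2 : (a * q * a⁻¹)⁻¹ * x * (a * q * a⁻¹) = x * (i * k) := by
    calc (a * q * a⁻¹)⁻¹ * x * (a * q * a⁻¹) = a * (q⁻¹ * (a⁻¹ * x * a) * q) * a⁻¹ := by group
      _ = a * (q⁻¹ * x * q) * a⁻¹ := by
          rw [show a⁻¹ * x * a = x by rw [mul_assoc, ← (c'.le a ha).eq, inv_mul_cancel_left]]
      _ = a * (x * i) * a⁻¹ := by rw [hidef, ← mul_assoc x x, P.x_sq, one_mul]
      _ = (a * x * a⁻¹) * (k * i) := by rw [hkdef]; group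
      _ = _ := by rw [hax, hk_i.eq]
  refine P.R_no_two hR (c.norm a haz q hq) (mul_mem hr hq) e2 ?_
  rw [e1]
  calc x * (i * (z * k)) = x * (i * (k * z)) := by rw [(c.le k hk2.1).eq]
    _ = _ := by group

theorem R_other_le (hR : c.π x = R0) : Nat.card ↥(J' ⊓ centralizer ({z} : Set G)) ≤ 64 := by
  have h := c.ncard_keys_le (S := ((J' ⊓ centralizer ({z} : Set G) : Subgroup G) : Set G))
    (fun a ha => mem_centralizer_singleton_iff.1 ha.2) (L := grpBKey) (fun n => fixR.all fun v => ev n v == v)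
    (fun a ha => P.R_other_fix hR ha.1 (mem_centralizer_singleton_iff.1 ha.2))
  rw [fixL_count] at h
  rw [P.other_split]
  exact (Nat.mul_le_mul (P.R_inter_le hR) h).trans (by norm_num)

end Pr

end Cfsg.Lib.USixType
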