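import Cfsg.Agent.USixType.PairSides

/-!
# The transvection side of a commuting pair
-/

set_option autoImplicit false
set_option Elab.async false

namespace Cfsg.Lib.USixType

open Subgroup

universe u

variable {G : Type u} [Group G] {z x : G} {J J' : Subgroup G}

theorem line5_span : ∀ p q : Fin 256, onLine ⟨5⟩ ⟨p⟩ = true → onLine ⟨5⟩ ⟨q⟩ = true → (⟨p⟩ : Vt) ≠ 0 →
    (⟨q⟩ : Vt) ≠ 0 → (⟨p⟩ : Vt) ≠ ⟨q⟩ → ∀ v : Fin 256, onLine ⟨5⟩ ⟨v⟩ = true →
    (⟨v⟩ : Vt) = 0 ∨ (⟨v⟩ : Vt) = ⟨p⟩ ∨ (⟨v⟩ : Vt) = ⟨q⟩ ∨ (⟨v⟩ : Vt) = ⟨p⟩ + ⟨q⟩ := by decide +kernel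

theorem line_sm : ∀ (j : Fin 45) (a b : Fin 4), onLine (ctr j) (sm a.val (sm b.val (ctr j))) = true := by decide +kernel

theorem line_cases : ∀ (j : Fin 45) (v : Fin 256), onLine (ctr j) ⟨v⟩ = true →
    ∃ a : Fin 4, (⟨v⟩ : Vt) = sm a.val (ctr j) := by decide +kernel

theorem line_map {g : Equiv.Perm Vt} (hg : g ∈ U) {i : Fin 45} {v : Vt} (hv : onLine (ctr i) v = true) :
    onLine (ctr (act45 g i)) (g v) = true := by
  obtain ⟨a, ha⟩ := line_cases i v.code hv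
  have hl := lin_of_mem hg
  obtain ⟨b, -, hb⟩ := pidx_spec (g (ctr i)).code (hl.ne_zero (ctr_iso i).2) (by rw [hl.map_h]; exact (ctr_iso i).1)
  rw [show v = sm a.val (ctr i) from ha, hl.map_sm a.val _ a.isLt, show g (ctr i) = sm b.val _ from hb]
  exact line_sm _ a b

theorem fix_iff_h : ∀ (j : Fin 45) (v : Fin 256), (tv (ctr j) ⟨v⟩ = ⟨v⟩ ↔ h ⟨v⟩ (ctr j) = 0) := by decide +kernel

namespace Pr

variable [Finite G] {c : Coord z J} {c' : Coord x J'} (P : Pr c c')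
include P

theorem other_card_T (hT : c.π x = tvP 0) : Nat.card ↥(J' ⊓ centralizer ({z} : Set G)) = 128 := by
  obtain ⟨u, hu, e | e⟩ := c'.exists_rep P.comm.symm c.z_sq P.z_notMem
  · exact (P.symm.twist u 1 hu (one_mem U)).card_C_T e
  · have h := (P.symm.twist u 1 hu (one_mem U)).R_other_le e
    rw [P.card_C_T hT] at h
    omega

theorem T_inter_line (hT : c.π x = tvP 0) {k : G} (hk : k ∈ J ⊓ J') : onLine ⟨5⟩ (c.β k) = true := by
  have hf : c.β k ∈ fix0 := by rw [mem_fix0, ← tvP_zero_apply, ← hT]; exact P.inter_fixed hk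
  have := List.all_eq_true.1 rad0 _ hf
  rw [Bool.or_eq_true] at this
  refine this.resolve_right fun h => ?_
  obtain ⟨v, hv, hB⟩ := List.any_eq_true.1 h
  obtain ⟨p, hp, rfl⟩ := c.β_surj v
  rw [mem_fix0, ← tvP_zero_apply, ← hT] at hv
  rw [P.inter_B hk.1 hk.2 hp (P.T_comm hT hp hv).symm] at hB
  exact Bool.false_ne_true hB

theorem T_image (hT : c.π x = tvP 0) {a : G} (ha : a ∈ J') (haz : Commute a z) :
    O2cond 0 (key (c.π a)) = true := by
  simp only [O2cond, List.all_eq_true, Bool.or_eq_true, bne_iff_ne, ne_eq]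
  intro v _
  refine or_iff_not_imp_left.2 fun hv => ?_
  have hf : c.π x ⟨v⟩ = ⟨v⟩ := by
    rw [hT, tvP_zero_apply]; exact (tv0_fix_iff v).2 (by rw [← ctr_zero.1]; exact not_not.1 hv)
  obtain ⟨p, hp, hpv⟩ := c.β_surj ⟨v⟩
  rw [← hpv] at hf ⊢
  obtain ⟨k, hk, e⟩ := P.other_diff ha haz hp (P.T_comm hT hp hf).symm
  rw [ev_key (c.π_mem a haz), e, ctr_zero.1]
  exact P.T_inter_line hT hk

theorem T_onto (hT : c.π x = tvP 0) {v : Vt} (hv : onLine ⟨5⟩ v = true) : ∃ k ∈ J ⊓ J', c.β k = v := by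
  classical
  by_cases hsmall : ∃ p, onLine ⟨5⟩ p = true ∧ ∀ k ∈ J ⊓ J', c.β k = 0 ∨ c.β k = p
  · exfalso
    obtain ⟨p, hp, hsub⟩ := hsmall
    obtain ⟨a, rfl⟩ : ∃ a : Fin 4, p = sm a.val ⟨5⟩ := onLine5 p.code hp
    have hcard : Nat.card ↥(J ⊓ J') ≤ 2 := by
      have hinj : Set.InjOn c.β ((J ⊓ J' : Subgroup G) : Set G) := fun a ha b' hb' e => P.inter_inj ha hb' e
      calc Nat.card ↥(J ⊓ J') = (c.β '' ((J ⊓ J' : Subgroup G) : Set G)).ncard := by
            rw [Set.ncard_image_of_injOn hinj, ← Nat.card_coe_set_eq]; rfl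
        _ ≤ ({0, sm a.val ⟨5⟩} : Set Vt).ncard :=
            Set.ncard_le_ncard (by rintro _ ⟨k, hk, rfl⟩; exact hsub k hk) (Set.toFinite _)
        _ ≤ 2 := (Set.ncard_insert_le _ _).trans (by rw [Set.ncard_singleton])
    have hlt := small_count a
    have h := c.ncard_keys_le (S := ((J' ⊓ centralizer ({z} : Set G) : Subgroup G) : Set G))
      (fun b hb => mem_centralizer_singleton_iff.1 hb.2) (L := grpAKey)
      (fun n => fix0.all fun v => let w := ev n v + v; w == 0 || w == sm a.val ⟨5⟩) (fun b hb => by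
        have hbz : Commute b z := mem_centralizer_singleton_iff.1 hb.2
        have hm := c.π_mem b hbz
        refine ⟨commute_tv0 hm (by rw [← hT]; exact (P.other_elem hb.1 hbz).1), ?_⟩
        simp only [List.all_eq_true, Bool.or_eq_true, beq_iff_eq]
        intro v hv
        obtain ⟨q, hq, rfl⟩ := c.β_surj v
        rw [mem_fix0, ← tvP_zero_apply, ← hT] at hv
        obtain ⟨k, hk, e⟩ := P.other_diff hb.1 hbz hq (P.T_comm hT hq hv).symm
        rw [ev_key hm, e]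
        exact hsub k hk)
    have h128 := P.other_card_T hT
    rw [P.other_split] at h128
    have := Nat.mul_le_mul hcard h
    omega
  · push Not at hsmall
    obtain ⟨k, hk, hk0, -⟩ := hsmall 0 (by decide +kernel)
    obtain ⟨l, hl, hl0, hlk⟩ := hsmall (c.β k) (P.T_inter_line hT hk)
    rcases line5_span (c.β k).code (c.β l).code (P.T_inter_line hT hk) (P.T_inter_line hT hl) hk0 hl0
      (Ne.symm hlk) v.code hv with e | e | e | e
    · exact ⟨1, one_mem _, by rw [c.β_one]; exact e.symm⟩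
    · exact ⟨k, hk, e.symm⟩
    · exact ⟨l, hl, e.symm⟩
    · exact ⟨k * l, mul_mem hk hl, by rw [c.β_mul k hk.1 l hl.1]; exact e.symm⟩

/-- The pair seen from a transvection side with any centre. -/
structure TvSide (_P : Pr c c') (j : Fin 45) : Prop where
  comm : ∀ q ∈ J, h (c.β q) (ctr j) = 0 → Commute x q
  fixed : ∀ v : Vt, c.π x v = v → h v (ctr j) = 0
  line : ∀ k ∈ J ⊓ J', onLine (ctr j) (c.β k) = true
  onto : ∀ v, onLine (ctr j) v = true → ∃ k ∈ J ⊓ J', c.β k = v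
  image : ∀ a ∈ J', Commute a z → O2cond j (key (c.π a)) = true
  shifts : ∀ q ∈ J, onLine (ctr j) (c.π x (c.β q) + c.β q) = true
  shift_onto : ∀ v, onLine (ctr j) v = true → ∃ r ∈ J, c.π x (c.β r) + c.β r = v

theorem tvSide {j : Fin 45} (hj : c.π x = tvP j) : P.TvSide j := by
  have hg := mv_mem j
  have hu : (mv j)⁻¹ ∈ U := inv_mem hg
  set Q' := P.twist (mv j)⁻¹ 1 hu (one_mem U) with hQ'
  have hT : (c.twist (mv j)⁻¹ hu).π x = tvP 0 := by
    rw [c.twist_π, hj, inv_inv]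
    have := conj_tvP hg 0
    rw [act45_mv] at this
    rw [← this]
    group
  have hl := lin_of_mem hg
  have back : ∀ v : Vt, onLine (ctr j) v = true → onLine ⟨5⟩ ((mv j)⁻¹ v) = true := fun v hv => by
    have := line_map hu hv
    have hz : act45 (mv j)⁻¹ j = 0 := by
      rw [show act45 (mv j)⁻¹ j = act45 (mv j)⁻¹ (act45 (mv j) 0) by rw [act45_mv], ← act45_mul hu hg, inv_mul_cancel, act45_one]
    rwa [hz, ctr_zero.1] at this
  have forth : ∀ v : Vt, onLine ⟨5⟩ v = true → onLine (ctr j) (mv j v) = true := fun v hv => by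
    have := line_map hg (i := 0) (by rw [ctr_zero.1]; exact hv)
    rwa [act45_mv] at this
  have app : ∀ v, mv j ((mv j)⁻¹ v) = v := fun v => (mv j).apply_symm_apply v
  refine ⟨fun q hq hv => ?_, fun v hv => ?_, fun k hk => ?_, fun v hv => ?_, fun a ha haz => ?_, fun q hq => ?_,
    fun v hv => ?_⟩
  · refine Q'.T_comm hT hq ?_
    rw [c.twist_π, c.twist_β, Equiv.Perm.mul_apply, Equiv.Perm.mul_apply, inv_inv, app, hj, tvP_apply,
      (fix_iff_h j (c.β q).code).2 hv]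
  · rw [hj, tvP_apply] at hv
    exact (fix_iff_h j v.code).1 hv
  · have := forth _ (Q'.T_inter_line hT hk)
    rwa [c.twist_β, app] at this
  · obtain ⟨k, hk, e⟩ := Q'.T_onto hT (back v hv)
    exact ⟨k, hk, (mv j)⁻¹.injective e⟩
  · have himg := Q'.T_image hT ha haz
    simp only [O2cond, List.all_eq_true, Bool.or_eq_true, bne_iff_ne, ne_eq] at himg ⊢
    intro v _
    refine or_iff_not_imp_left.2 fun hv => ?_
    have hv0 : h ((mv j)⁻¹ ⟨v⟩) (ctr 0) = 0 := by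
      obtain ⟨b, -, hb⟩ := pidx_spec (mv j (ctr 0)).code (hl.ne_zero (ctr_iso 0).2)
        (by rw [hl.map_h]; exact (ctr_iso 0).1)
      rw [← hl.map_h, app, show mv j (ctr 0) = sm b.val (ctr (act45 (mv j) 0)) from hb, act45_mv]
      exact (show ∀ (j : Fin 45) (v : Fin 256) (b : Fin 4), h ⟨v⟩ (ctr j) = 0 → h ⟨v⟩ (sm b.val (ctr j)) = 0 by
        decide +kernel) j v b (not_not.1 hv)
    have := (himg ((mv j)⁻¹ (⟨v⟩ : Vt)).code (List.mem_finRange _)).resolve_left (not_not_intro hv0)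
    rw [ev_key ((c.twist _ hu).π_mem a haz), c.twist_π, Equiv.Perm.mul_apply, Equiv.Perm.mul_apply, inv_inv,
      ctr_zero.1, show (⟨((mv j)⁻¹ (⟨v⟩ : Vt)).code⟩ : Vt) = (mv j)⁻¹ ⟨v⟩ from rfl, app] at this
    have h2 := forth _ this
    rw [hl.map_add, app, app] at h2
    rw [ev_key (c.π_mem a haz)]
    exact h2
  · have := forth _ (by
      have := tv0_image ((mv j)⁻¹ (c.β q)).code
      exact this)
    rw [show tv ⟨5⟩ (⟨((mv j)⁻¹ (c.β q)).code⟩ : Vt) = tvP 0 ((mv j)⁻¹ (c.β q)) from (tvP_zero_apply _).symm,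
      ← hT, c.twist_π, Equiv.Perm.mul_apply, Equiv.Perm.mul_apply, inv_inv,
      show (⟨((mv j)⁻¹ (c.β q)).code⟩ : Vt) = (mv j)⁻¹ (c.β q) from rfl, app, hl.map_add, app, app] at this
    exact this
  · obtain ⟨a, ha⟩ := onLine5 ((mv j)⁻¹ v).code (back v hv)
    obtain ⟨w, hw⟩ := tv0_onto a
    obtain ⟨r, hr, hrv⟩ := c.β_surj (mv j ⟨w⟩)
    refine ⟨r, hr, ?_⟩
    have : (mv j)⁻¹ (c.π x (c.β r) + c.β r) = (mv j)⁻¹ v := by
      rw [(lin_of_mem hu).map_add, hrv, show (mv j)⁻¹ (mv j ⟨w⟩) = ⟨w⟩ from (mv j).symm_apply_apply _,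
        show (mv j)⁻¹ (c.π x (mv j ⟨w⟩)) = (c.twist (mv j)⁻¹ hu).π x ⟨w⟩ by rw [c.twist_π, inv_inv]; rfl, hT,
        tvP_zero_apply, hw]
      exact ha.symm
    exact (mv j)⁻¹.injective this

end Pr

end Cfsg.Lib.USixType
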