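import Cfsg.Agent.USixType.Safe
import Cfsg.Agent.USixType.PlaneData

/-!
The transvections with centres in a maximal isotropic plane generate an elementary abelian group, coded by masks;
a subgroup in none of the line parts fixes no point off the plane.
-/

set_option autoImplicit false
set_option Elab.async false

namespace Cfsg.Lib.USixType.Model

open Cfsg.Lib.FiPres Cfsg.Lib.CosetCert Cfsg.Lib.PermCert

/-- The mask of a point of the plane. -/
def msk (k : ℕ) : ℕ := planeMasks.getD k 0

/-- A point of the plane. -/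
def pp (k : ℕ) : Fin 693 := Fin.ofNat 693 (planePts.getD k 0)

/-- A basis point. -/
def bp (i : ℕ) : Fin 693 := pp (planeBasis.getD i 0)

/-- The element of a mask. -/
noncomputable def iota (u : ℕ) : W := ((List.range 9).map fun i => if u.testBit i then tv (bp i) else 1).prod

/-- The image of a point under the element of a mask. -/
def evM (u x : ℕ) : ℕ := (List.range 9).foldr (fun i y => if u.testBit i then ap (baseTabs.getD i 0) y else y) x

/-- The listed span of masks. -/
def spanL : List ℕ → List ℕ
  | [] => [0]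
  | g :: r => spanL r ++ (spanL r).map (g ^^^ ·)

theorem base_ok : ((List.range 9).all fun i => (List.range 693).all fun x =>
    ev (tvW (bp i)) x == ap (baseTabs.getD i 0) x) = true ∧
    ((List.range 9).all fun i => (List.range 21).all fun k =>
      ap (baseTabs.getD i 0) (pp k).val == (pp k).val) = true := by decide +kernel

theorem tab_apply {i : ℕ} (hi : i < 9) (x : Fin 693) :
    (((tv (bp i) : W) : Equiv.Perm (Fin 693)) x : ℕ) = ap (baseTabs.getD i 0) x.val := by
  have := List.all_eq_true.1 (List.all_eq_true.1 base_ok.1 i (List.mem_range.2 hi)) x.val (List.mem_range.2 x.isLt)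
  exact (wv_apply (letOK_tvW _) x).trans (beq_iff_eq.1 this)

theorem iota_apply (u : ℕ) (x : Fin 693) : (((iota u : W) : Equiv.Perm (Fin 693)) x : ℕ) = evM u x.val := by
  have h : ∀ l : List ℕ, (∀ i ∈ l, i < 9) →
      ((((l.map fun i => if u.testBit i then tv (bp i) else 1).prod : W) : Equiv.Perm (Fin 693)) x : ℕ) =
        l.foldr (fun i y => if u.testBit i then ap (baseTabs.getD i 0) y else y) x.val := by
    intro l
    induction l with
    | nil => exact fun _ => rfl
    | cons i r ih =>
      intro hl
      rw [List.map_cons, List.prod_cons, Subgroup.coe_mul, Equiv.Perm.mul_apply, List.foldr_cons,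
        ← ih fun j hj => hl j (List.mem_cons_of_mem i hj)]
      by_cases ht : u.testBit i
      · rw [if_pos ht, if_pos ht, tab_apply (hl i List.mem_cons_self)]
      · rw [if_neg ht, if_neg ht]
        rfl
  exact h _ fun i hi => List.mem_range.1 hi

theorem bp_commute {i j : ℕ} (hi : i < 9) (hj : j < 9) : Commute (tv (bp i)) (tv (bp j)) := by
  refine (commute_iff _ _).2 (Fin.ext ?_)
  rw [tab_apply hi]
  exact beq_iff_eq.1 (List.all_eq_true.1 (List.all_eq_true.1 base_ok.2 i (List.mem_range.2 hi)) _
    (List.mem_range.2 ((show ∀ j < 9, planeBasis.getD j 0 < 21 by decide) j hj)))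

theorem iota_xor (u v : ℕ) : iota (u ^^^ v) = iota u * iota v := by
  set f : ℕ → ℕ → W := fun u i => if u.testBit i then tv (bp i) else 1
  have hc : ∀ u v i j, i < 9 → j < 9 → Commute (f u i) (f v j) := fun u v i j hi hj => by
    by_cases h1 : u.testBit i <;> by_cases h2 : v.testBit j <;> simp [f, h1, h2, bp_commute hi hj]
  have h : ∀ l : List ℕ, (∀ i ∈ l, i < 9) →
      (l.map (f (u ^^^ v))).prod = (l.map (f u)).prod * (l.map (f v)).prod := by
    intro l
    induction l with
    | nil => exact fun _ => (mul_one 1).symm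
    | cons i r ih =>
      intro hl
      have hr : ∀ j ∈ r, j < 9 := fun j hj => hl j (List.mem_cons_of_mem i hj)
      have hcr : Commute (f v i) (r.map (f u)).prod := Commute.list_prod_right _ _ fun y hy => by
        obtain ⟨j, hj, rfl⟩ := List.mem_map.1 hy
        exact hc v u i j (hl i List.mem_cons_self) (hr j hj)
      have hf : f (u ^^^ v) i = f u i * f v i := by
        by_cases h1 : u.testBit i <;> by_cases h2 : v.testBit i <;> simp [f, Nat.testBit_xor, h1, h2, tv_sq]
      rw [List.map_cons, List.prod_cons, List.map_cons, List.prod_cons, List.map_cons, List.prod_cons, ih hr, hf]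
      calc f u i * f v i * ((r.map (f u)).prod * (r.map (f v)).prod)
          = f u i * (f v i * (r.map (f u)).prod) * (r.map (f v)).prod := by group
        _ = f u i * ((r.map (f u)).prod * f v i) * (r.map (f v)).prod := by rw [hcr.eq]
        _ = f u i * (r.map (f u)).prod * (f v i * (r.map (f v)).prod) := by group
  exact h _ fun i hi => List.mem_range.1 hi

theorem iota_zero : iota 0 = 1 := by simp [iota]

theorem iota_sq (u : ℕ) : iota u * iota u = 1 := by rw [← iota_xor, Nat.xor_self, iota_zero]

theorem mask_ok : ((List.range 512).all fun u => (u == 0) || basePts.any fun x => evM u x != x) = true ∧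
    ((List.range 21).all fun k => decide (msk k < 512) &&
      basePts.all fun x => evM (msk k) x == ev (tvW (pp k)) x) = true := by decide +kernel

theorem iota_inj {u v : ℕ} (hu : u < 512) (hv : v < 512) (h : iota u = iota v) : u = v := by
  have h1 : iota (u ^^^ v) = 1 := by rw [iota_xor, h, iota_sq]
  have hm := List.all_eq_true.1 mask_ok.1 _ (List.mem_range.2 (Nat.xor_lt_two_pow (n := 9) hu hv))
  rw [Bool.or_eq_true, beq_iff_eq] at hm
  rcases hm with hm | hm
  · exact Nat.xor_eq_zero_iff.1 hm
  · obtain ⟨x, hx, hx'⟩ := List.any_eq_true.1 hm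
    have hx693 : x < 693 := (show ∀ p ∈ basePts, p < 693 by decide) x hx
    have e := iota_apply (u ^^^ v) ⟨x, hx693⟩
    rw [h1] at e
    exact absurd e.symm (bne_iff_ne.1 hx')

theorem iota_msk {k : ℕ} (hk : k < 21) : iota (msk k) = tv (pp k) := by
  have h := List.all_eq_true.1 mask_ok.2 k (List.mem_range.2 hk)
  rw [Bool.and_eq_true] at h
  refine ext_base fun p hp => Fin.ext ?_
  rw [iota_apply, show tv (pp k) = wv (tvW (pp k)) from rfl, wv_apply (letOK_tvW _)]
  exact beq_iff_eq.1 (List.all_eq_true.1 h.2 _ hp)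

theorem msk_lt {k : ℕ} (hk : k < 21) : msk k < 512 := by
  have h := List.all_eq_true.1 mask_ok.2 k (List.mem_range.2 hk)
  rw [Bool.and_eq_true, decide_eq_true_eq] at h
  exact h.1

theorem iota_fix_pp (u : ℕ) {k : ℕ} (hk : k < 21) : ((iota u : W) : Equiv.Perm (Fin 693)) (pp k) = pp k := by
  refine Fin.ext ((iota_apply u (pp k)).trans ?_)
  have h : ∀ l : List ℕ, (∀ i ∈ l, i < 9) →
      l.foldr (fun i y => if u.testBit i then ap (baseTabs.getD i 0) y else y) (pp k).val = (pp k).val := by
    intro l
    induction l with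
    | nil => exact fun _ => rfl
    | cons i r ih =>
      intro hl
      rw [List.foldr_cons, ih fun j hj => hl j (List.mem_cons_of_mem i hj)]
      by_cases ht : u.testBit i
      · rw [if_pos ht]
        exact beq_iff_eq.1 (List.all_eq_true.1 (List.all_eq_true.1 base_ok.2 i
          (List.mem_range.2 (hl i List.mem_cons_self))) k (List.mem_range.2 hk))
      · rw [if_neg ht]
  exact h _ fun i hi => List.mem_range.1 hi

theorem spanL_lt : ∀ {gs : List ℕ}, (∀ g ∈ gs, g < 512) → ∀ u ∈ spanL gs, u < 512
  | [], _, u, hu => by rw [List.mem_singleton.1 hu]; norm_num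
  | g :: r, h, u, hu => by
    have ih := spanL_lt (gs := r) fun x hx => h x (List.mem_cons_of_mem g hx)
    rcases List.mem_append.1 hu with hu | hu
    · exact ih u hu
    · obtain ⟨v, hv, rfl⟩ := List.mem_map.1 hu
      exact Nat.xor_lt_two_pow (n := 9) (h g List.mem_cons_self) (ih v hv)

theorem spanL_zero : ∀ gs : List ℕ, 0 ∈ spanL gs
  | [] => List.mem_singleton.2 rfl
  | _ :: r => List.mem_append_left _ (spanL_zero r)

theorem spanL_xor : ∀ {gs : List ℕ} {u v : ℕ}, u ∈ spanL gs → v ∈ spanL gs → u ^^^ v ∈ spanL gs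
  | [], u, v, hu, hv => by rw [List.mem_singleton.1 hu, List.mem_singleton.1 hv]; exact List.mem_singleton.2 rfl
  | g :: r, u, v, hu, hv => by
    rcases List.mem_append.1 hu with hu | hu <;> rcases List.mem_append.1 hv with hv | hv
    · exact List.mem_append_left _ (spanL_xor hu hv)
    · obtain ⟨b, hb, rfl⟩ := List.mem_map.1 hv
      exact List.mem_append_right _ (List.mem_map.2 ⟨u ^^^ b, spanL_xor hu hb, Nat.xor_left_comm g u b⟩)
    · obtain ⟨a, ha, rfl⟩ := List.mem_map.1 hu
      exact List.mem_append_right _ (List.mem_map.2 ⟨a ^^^ v, spanL_xor ha hv, (Nat.xor_assoc g a v).symm⟩)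
    · obtain ⟨a, ha, rfl⟩ := List.mem_map.1 hu
      obtain ⟨b, hb, rfl⟩ := List.mem_map.1 hv
      refine List.mem_append_left _ ?_
      rw [show (g ^^^ a) ^^^ (g ^^^ b) = a ^^^ b by
        rw [Nat.xor_assoc, Nat.xor_left_comm a g b, ← Nat.xor_assoc, Nat.xor_self, Nat.zero_xor]]
      exact spanL_xor ha hb

theorem spanL_gen : ∀ {gs : List ℕ} {g : ℕ}, g ∈ gs → g ∈ spanL gs
  | h :: r, g, hg => by
    rcases List.mem_cons.1 hg with rfl | hg
    · exact List.mem_append_right _ (List.mem_map.2 ⟨0, spanL_zero r, Nat.xor_zero g⟩)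
    · exact List.mem_append_left _ (spanL_gen hg)

theorem spanL_le {gs : List ℕ} {S : List ℕ} (h0 : 0 ∈ spanL S) (h : ∀ g ∈ gs, g ∈ spanL S) :
    ∀ u ∈ spanL gs, u ∈ spanL S := by
  induction gs with
  | nil => intro u hu; rw [List.mem_singleton.1 hu]; exact h0
  | cons g r ih =>
    intro u hu
    have ih' := ih fun x hx => h x (List.mem_cons_of_mem g hx)
    rcases List.mem_append.1 hu with hu | hu
    · exact ih' u hu
    · obtain ⟨v, hv, rfl⟩ := List.mem_map.1 hu
      exact spanL_xor (h g List.mem_cons_self) (ih' v hv)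

/-- The subgroup of a list of masks. -/
noncomputable def mSub (gs : List ℕ) : Subgroup W where
  carrier := {x | ∃ u ∈ spanL gs, x = iota u}
  one_mem' := ⟨0, spanL_zero gs, iota_zero.symm⟩
  mul_mem' := by
    rintro _ _ ⟨u, hu, rfl⟩ ⟨v, hv, rfl⟩
    exact ⟨u ^^^ v, spanL_xor hu hv, (iota_xor u v).symm⟩
  inv_mem' := by
    rintro _ ⟨u, hu, rfl⟩
    exact ⟨u, hu, inv_eq_of_mul_eq_one_right (iota_sq u)⟩

theorem iota_mem {gs : List ℕ} {u : ℕ} (hu : u ∈ spanL gs) : iota u ∈ mSub gs := ⟨u, hu, rfl⟩

theorem mem_of_iota {gs : List ℕ} (hgs : ∀ g ∈ gs, g < 512) {u : ℕ} (hu : u < 512) (h : iota u ∈ mSub gs) :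
    u ∈ spanL gs := by
  obtain ⟨v, hv, e⟩ := h
  exact iota_inj hu (spanL_lt hgs v hv) e ▸ hv

theorem mSub_pGroup (gs : List ℕ) : IsPGroup 2 (mSub gs) := fun ⟨x, hx⟩ => by
  obtain ⟨u, -, rfl⟩ := hx
  exact ⟨1, Subtype.ext (by rw [SubmonoidClass.coe_pow, pow_one, sq]; exact iota_sq u)⟩

/-- The masks lie in none of the line parts. -/
def full (gs : List ℕ) : Bool := planeLines.all fun l => gs.any fun g => !(spanL l.2.1).contains g

theorem line_ok : (planeLines.all fun l => (l.2.1.all fun g => decide (g < 512)) &&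
    (l.2.2.all fun g => decide (g < 512)) &&
    ((spanL l.2.1).flatMap fun s => (spanL l.2.2).map (s ^^^ ·)).foldl (fun a x => a ||| 1 <<< x) 0 + 1 == 2 ^ 512) = true
    := by decide +kernel

theorem off_ok : ((List.range 693).all fun j => planePts.contains j ||
    (decide (lineOf.getD j 0 < planeLines.length) &&
      ((planeLines.getD (lineOf.getD j 0) ([], [], [])).2.1.all fun g => evM g j == j) &&
      ((spanL (planeLines.getD (lineOf.getD j 0) ([], [], [])).2.2).all fun c => (c == 0) || (evM c j != j)))) = true :=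
  by decide +kernel

theorem fixed_full {gs : List ℕ} (hgs : ∀ g ∈ gs, g < 512) (hf : full gs = true) {j : Fin 693}
    (hj : ∀ g ∈ gs, ((iota g : W) : Equiv.Perm (Fin 693)) j = j) : ∃ k < 21, j = pp k := by
  have h := List.all_eq_true.1 off_ok j.val (List.mem_range.2 j.isLt)
  rw [Bool.or_eq_true, List.contains_iff_mem] at h
  rcases h with h | h
  · obtain ⟨k, hk, e⟩ := List.getElem_of_mem h
    refine ⟨k, (show planePts.length = 21 from rfl) ▸ hk, Fin.ext ?_⟩
    rw [pp, List.getD_eq_getElem _ _ hk, e, Fin.val_ofNat, Nat.mod_eq_of_lt j.isLt]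
  exfalso
  simp only [Bool.and_eq_true, decide_eq_true_eq] at h
  obtain ⟨⟨hlt, hfix⟩, hmove⟩ := h
  set l := planeLines.getD (lineOf.getD j.val 0) ([], [], [])
  have hl : l ∈ planeLines := by
    rw [show l = planeLines[lineOf.getD j.val 0] from List.getD_eq_getElem _ _ hlt]
    exact List.getElem_mem hlt
  obtain ⟨g, hg, hgl⟩ := List.any_eq_true.1 (List.all_eq_true.1 hf l hl)
  have hb := List.all_eq_true.1 line_ok l hl
  simp only [Bool.and_eq_true, List.all_eq_true, decide_eq_true_eq, beq_iff_eq] at hb
  have hmem : g ∈ (spanL l.2.1).flatMap fun s => (spanL l.2.2).map (s ^^^ ·) := by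
    have key : ∀ (L : List ℕ) (a : ℕ), (L.foldl (fun a x => a ||| 1 <<< x) a).testBit g = true →
        a.testBit g = true ∨ g ∈ L := by
      intro L
      induction L with
      | nil => exact fun a ha => Or.inl ha
      | cons x r ih =>
        intro a ha
        rcases ih _ ha with h1 | h1
        · rw [Nat.testBit_or, Nat.one_shiftLeft, Nat.testBit_two_pow, Bool.or_eq_true, decide_eq_true_eq] at h1
          exact h1.imp id fun e => List.mem_cons.2 (Or.inl e.symm)
        · exact Or.inr (List.mem_cons_of_mem x h1)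
    refine (key _ 0 ?_).resolve_left (by simp)
    rw [Nat.eq_sub_of_add_eq hb.2, Nat.testBit_two_pow_sub_one]
    simpa using hgs g hg
  obtain ⟨s, hs, hsc⟩ := List.mem_flatMap.1 hmem
  obtain ⟨c, hc, rfl⟩ := List.mem_map.1 hsc
  have hsfix : ((iota s : W) : Equiv.Perm (Fin 693)) j = j := by
    have hle : ∀ u ∈ spanL l.2.1, ((iota u : W) : Equiv.Perm (Fin 693)) j = j := by
      have : ∀ (bs : List ℕ), (∀ b ∈ bs, evM b j.val = j.val) →
          ∀ u ∈ spanL bs, ((iota u : W) : Equiv.Perm (Fin 693)) j = j := by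
        intro bs
        induction bs with
        | nil => intro _ u hu; rw [List.mem_singleton.1 hu, iota_zero]; rfl
        | cons b r ih =>
          intro hb u hu
          rcases List.mem_append.1 hu with hu | hu
          · exact ih (fun x hx => hb x (List.mem_cons_of_mem b hx)) u hu
          · obtain ⟨v, hv, rfl⟩ := List.mem_map.1 hu
            rw [iota_xor, Subgroup.coe_mul, Equiv.Perm.mul_apply, ih (fun x hx => hb x (List.mem_cons_of_mem b hx)) v hv]
            exact Fin.ext ((iota_apply b j).trans (hb b List.mem_cons_self))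
      exact this _ fun b hb' => beq_iff_eq.1 (List.all_eq_true.1 hfix b hb')
    exact hle s hs
  have hcfix : evM c j.val = j.val := by
    rw [← iota_apply]
    have := hj _ hg
    rw [iota_xor, Subgroup.coe_mul, Equiv.Perm.mul_apply] at this
    exact congrArg Fin.val (((iota s : W) : Equiv.Perm (Fin 693)).injective (this.trans hsfix.symm))
  have := List.all_eq_true.1 hmove c hc
  rw [Bool.or_eq_true, beq_iff_eq, bne_iff_ne] at this
  rw [Bool.not_eq_true', ← Bool.not_eq_true, List.contains_iff_mem] at hgl
  exact hgl (by rw [this.resolve_right (not_not.2 hcfix), Nat.xor_zero]; exact hs)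

end Cfsg.Lib.USixType.Model
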