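import Cfsg.Agent.USixType.Plane

/-!
The recursion over the subgroups of the plane: a subgroup on whose centralised transvections two different colours
survive is safe as soon as the extensions given by products with chosen transvections are.
-/

set_option autoImplicit false
set_option Elab.async false

namespace Cfsg.Lib.USixType.Model

open Cfsg.Lib.FiPres Cfsg.Lib.CosetCert Cfsg.Lib.PermCert

universe u

variable {G : Type u} [Group G] {φ : W →* G}

theorem triangle_check : ((List.range 693).all fun j =>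
    (ev (tvW 0) j == j) || (ev (tvW 0) j == ev (tvW (Fin.ofNat 693 j)) 0)) = true := by decide +kernel

/-- Two transvections that do not commute have a product of order three. -/
theorem tv_cube {i j : Fin 693} (h : ¬ Commute (tv i) (tv j)) : (tv i * tv j) ^ 3 = 1 := by
  have key : ((tv i : W) : Equiv.Perm (Fin 693)) j = ((tv j : W) : Equiv.Perm (Fin 693)) i := by
    set g : W := (wv (ptW i))⁻¹
    have hgi : (g : Equiv.Perm (Fin 693)) i = 0 := Equiv.Perm.inv_eq_iff_eq.2 (ptW_zero i).symm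
    set k := (g : Equiv.Perm (Fin 693)) j with hk
    refine (g : Equiv.Perm (Fin 693)).injective ?_
    have hne : ((tv 0 : W) : Equiv.Perm (Fin 693)) k ≠ k := fun e => h ((commute_iff i j).2 ?_)
    · have hc := List.all_eq_true.1 triangle_check k.val (List.mem_range.2 k.isLt)
      rw [Bool.or_eq_true, beq_iff_eq, beq_iff_eq, Fin.ofNat_eq_cast, Fin.cast_val_eq_self] at hc
      have hv : ((tv 0 : W) : Equiv.Perm (Fin 693)) k = ((tv k : W) : Equiv.Perm (Fin 693)) 0 :=
        Fin.ext ((wv_apply (letOK_tvW 0) k).trans ((hc.resolve_left fun e =>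
          hne (Fin.ext ((wv_apply (letOK_tvW 0) k).trans e))).trans (wv_apply (letOK_tvW k) 0).symm))
      rw [← hgi, hk, ← tv_conj, ← tv_conj] at hv
      simpa using hv
    · rw [← hgi, ← tv_conj, hk] at e
      exact (g : Equiv.Perm (Fin 693)).injective (by simpa using e)
  have e1 : tv i * tv j * tv i = tv j * tv i * tv j := by
    have a := tv_conj (tv i) j
    have b := tv_conj (tv j) i
    rw [tv_inv] at a b
    rw [a, b, key]
  calc (tv i * tv j) ^ 3 = (tv i * tv j * tv i) * (tv j * tv i * tv j) := by simp [pow_succ, mul_assoc]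
    _ = (tv j * tv i * tv j) * (tv j * tv i * tv j) := by rw [e1]
    _ = tv j * tv i * (tv j * tv j) * tv i * tv j := by group
    _ = tv j * (tv i * tv i) * tv j := by rw [tv_sq]; group
    _ = 1 := by rw [tv_sq, mul_one, tv_sq]

/-- The dihedral step at a centralised transvection of the model. -/
theorem Emb.tv_step [Finite G] (E : Emb φ) {P : Subgroup W} (hP : IsPGroup 2 P) {d : G} (hd : TvClass φ d)
    (hdP : ∀ p ∈ P, Commute d (φ p)) (hdM : d ∉ φ.range) {i : Fin 693}
    (hi : ∀ p ∈ P, (p : Equiv.Perm (Fin 693)) i = i) :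
    ∃ (e : Fin 693) (n : G), n ∈ Subgroup.normalizer ((P.map φ : Subgroup G) : Set G) ∧
      n * d * n⁻¹ = φ (tv e) ∧ (∀ p ∈ P, (p : Equiv.Perm (Fin 693)) e = e) ∧
      (tv i * tv e ∈ P ∨ Commute (tv i) (tv e) ∧ tv i * tv e ∉ P ∧
        ¬ Safe φ (P ⊔ Subgroup.zpowers (tv i * tv e))) := by
  have hN : tv i ∈ Subgroup.normalizer (P : Set W) := Subgroup.mem_normalizer_iff.2 fun x => by
    constructor
    · intro hx
      rw [((commute_of_fix (hi x hx)).symm).eq, mul_inv_cancel_right]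
      exact hx
    · intro hx
      have hc := (commute_of_fix (hi _ hx)).eq
      have : tv i * x * (tv i)⁻¹ = x := by
        calc tv i * x * (tv i)⁻¹ = (tv i)⁻¹ * (tv i * x * (tv i)⁻¹ * tv i) * (tv i * x * (tv i)⁻¹)⁻¹ *
              (tv i * x * (tv i)⁻¹) := by rw [hc]; group
          _ = x := by group
      rwa [this] at hx
  obtain ⟨e, n, hn, hne, hfix, hor⟩ := E.step hP hd hdP hdM (w := tv i) (by rw [tv_sq]; exact P.one_mem) hN
    (E.safe_tv (Subgroup.mem_sup_right (Subgroup.mem_zpowers _)))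
  refine ⟨e, n, hn, hne, hfix, ?_⟩
  rcases hor with h | ⟨k, h1, h2, h3⟩
  · exact Or.inl h
  by_cases hc : Commute (tv i) (tv e)
  · right
    have hk : k = 0 := by
      by_contra hk
      obtain ⟨l, rfl⟩ := Nat.exists_eq_succ_of_ne_zero hk
      refine h1 ?_
      have hsq : (tv i * tv e) ^ 2 = 1 := by
        rw [sq, mul_assoc, ← mul_assoc (tv e), ← hc.eq, mul_assoc (tv i) (tv e) (tv e), tv_sq, mul_one, tv_sq]
      rw [pow_succ', pow_mul, hsq, one_pow]
      exact P.one_mem
    subst hk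
    rw [pow_zero, pow_one] at h1 h3
    exact ⟨hc, h1, h3⟩
  · left
    have h4 : ((tv i * tv e) ^ 2 ^ (k + 1)) ^ 2 ^ (k + 1) = tv i * tv e := by
      rw [← pow_mul, ← mul_pow, show (2 * 2 : ℕ) = 4 from rfl, pow_eq_pow_mod _ (tv_cube hc), Nat.pow_mod,
        show 4 % 3 = 1 from rfl, one_pow, Nat.one_mod, pow_one]
    exact h4 ▸ P.pow_mem h2 _

/-- A permutation of the points that carries the subgroup to itself and permutes the transvections. -/
structure Carries (P : Subgroup W) (π : Equiv.Perm (Fin 693)) : Prop where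
  mem : ∀ x ∈ P, ∃ x' ∈ P, (x' : Equiv.Perm (Fin 693)) = π * (x : Equiv.Perm (Fin 693)) * π⁻¹
  tv : ∀ j, π * ((tv j : W) : Equiv.Perm (Fin 693)) * π⁻¹ = ((tv (π j) : W) : Equiv.Perm (Fin 693))

theorem Emb.carries_act (E : Emb φ) {P : Subgroup W} (g : Nm φ)
    (hg : (g : G) ∈ Subgroup.normalizer ((P.map φ : Subgroup G) : Set G)) : Carries P (E.act g) := by
  refine ⟨fun x hx => ?_, fun j => ?_⟩
  · obtain ⟨x', e, e'⟩ := E.act_conj g x
    obtain ⟨y, hy, hye⟩ := (Subgroup.mem_normalizer_iff.1 hg (φ x)).1 ⟨x, hx, rfl⟩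
    exact ⟨x', E.inj (hye.trans e) ▸ hy, e'⟩
  · obtain ⟨x', e, e'⟩ := E.act_conj g (tv j)
    rw [← e', E.inj (e.symm.trans (E.act_spec g j))]

/-- Two images of one outside transvection differ by a permutation carrying the subgroup to itself. -/
theorem Emb.carried (E : Emb φ) {P : Subgroup W} {d : G} {e e' : Fin 693} {n n' : G}
    (hn : n ∈ Subgroup.normalizer ((P.map φ : Subgroup G) : Set G))
    (hn' : n' ∈ Subgroup.normalizer ((P.map φ : Subgroup G) : Set G)) (he : n * d * n⁻¹ = φ (tv e))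
    (he' : n' * d * n'⁻¹ = φ (tv e')) :
    ∃ π : Equiv.Perm (Fin 693), (Carries P π ∧ Carries P π⁻¹) ∧ π e = e' := by
  have hg : (n' * n⁻¹) * φ (tv e) * (n' * n⁻¹)⁻¹ = φ (tv e') := by rw [← he, ← he']; group
  have hgN : n' * n⁻¹ ∈ Nm φ := E.back (j := e) (hg.symm ▸ map_mem_Nm (tv e'))
  refine ⟨E.act ⟨_, hgN⟩, ⟨E.carries_act ⟨_, hgN⟩ (mul_mem hn' (inv_mem hn)), ?_⟩,
    tv_inj (E.inj ((E.act_spec ⟨_, hgN⟩ e).symm.trans hg))⟩
  rw [← map_inv]
  exact E.carries_act ⟨_, hgN⟩⁻¹ (inv_mem (mul_mem hn' (inv_mem hn)))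

/-- The colour of a centralised transvection: the number of centralised ones congruent to it. -/
noncomputable def colourG (P : Subgroup W) (e : Fin 693) : ℕ :=
  {f : Fin 693 | (∀ p ∈ P, (p : Equiv.Perm (Fin 693)) f = f) ∧ tv e * tv f ∈ P}.ncard

theorem colourG_le {P : Subgroup W} {π : Equiv.Perm (Fin 693)} (hπ : Carries P π) (hπ' : Carries P π⁻¹)
    (e : Fin 693) : colourG P e ≤ colourG P (π e) := by
  rw [colourG, colourG, ← Set.ncard_image_of_injective _ π.injective]
  refine Set.ncard_le_ncard ?_ (Set.toFinite _)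
  rintro _ ⟨f, ⟨hf, hef⟩, rfl⟩
  refine ⟨fun p hp => ?_, ?_⟩
  · obtain ⟨q, hq, e1⟩ := hπ'.mem p hp
    have h := hf q hq
    rw [e1, Equiv.Perm.mul_apply, Equiv.Perm.mul_apply, inv_inv] at h
    exact π⁻¹.injective (h.trans (Equiv.symm_apply_apply π f).symm)
  · obtain ⟨y, hy, e1⟩ := hπ.mem _ hef
    convert hy using 1
    refine Subtype.ext ?_
    rw [e1, Subgroup.coe_mul, Subgroup.coe_mul, ← hπ.tv, ← hπ.tv]
    group

theorem colourG_inv {P : Subgroup W} {π : Equiv.Perm (Fin 693)} (hπ : Carries P π ∧ Carries P π⁻¹)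
    {e e' : Fin 693} (h : π e = e') : colourG P e' = colourG P e := by
  subst h
  refine le_antisymm ?_ (colourG_le hπ.1 hπ.2 e)
  have := colourG_le hπ.2 (by rw [inv_inv]; exact hπ.1) (π e)
  rwa [show π⁻¹ (π e) = e from Equiv.symm_apply_apply π e] at this

/-- An automorphism of the masks: it permutes the point masks and the line parts. -/
structure PAut (f : ℕ → ℕ) : Prop where
  lt : ∀ u < 512, f u < 512
  xor : ∀ u v, f (u ^^^ v) = f u ^^^ f v
  inj : ∀ u v, u < 512 → v < 512 → f u = f v → u = v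
  pts : ∃ σ : Fin 21 → Fin 21, σ.Bijective ∧ ∀ k : Fin 21, f (msk k) = msk (σ k)
  line : ∀ l ∈ planeLines, ∃ l' ∈ planeLines, ∀ u ∈ spanL l.2.1, ∃ v ∈ spanL l'.2.1, f v = u

theorem line_lt {l : List ℕ × List ℕ × List ℕ} (hl : l ∈ planeLines) : ∀ g ∈ l.2.1, g < 512 := fun g hg => by
  have hb := List.all_eq_true.1 line_ok l hl
  simp only [Bool.and_eq_true, List.all_eq_true, decide_eq_true_eq] at hb
  exact hb.1.1 g hg

theorem PAut.comp {f h : ℕ → ℕ} (F : PAut f) (H : PAut h) : PAut (f ∘ h) := by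
  obtain ⟨σ, hσ, eσ⟩ := F.pts
  obtain ⟨τ, hτ, eτ⟩ := H.pts
  refine ⟨fun u hu => F.lt _ (H.lt u hu), fun u v => by simp [H.xor, F.xor],
    fun u v hu hv e => H.inj u v hu hv (F.inj _ _ (H.lt u hu) (H.lt v hv) e),
    ⟨σ ∘ τ, hσ.comp hτ, fun k => by simp [eτ, eσ]⟩, fun l hl => ?_⟩
  obtain ⟨l1, hl1, e1⟩ := F.line l hl
  obtain ⟨l2, hl2, e2⟩ := H.line l1 hl1
  refine ⟨l2, hl2, fun u hu => ?_⟩
  obtain ⟨v, hv, rfl⟩ := e1 u hu
  obtain ⟨x, hx, rfl⟩ := e2 v hv
  exact ⟨x, hx, rfl⟩

theorem PAut.zero {f : ℕ → ℕ} (F : PAut f) : f 0 = 0 := by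
  have := F.xor 0 0
  rwa [Nat.xor_self, Nat.xor_self] at this

theorem PAut.span {f : ℕ → ℕ} (F : PAut f) : ∀ gs : List ℕ, spanL (gs.map f) = (spanL gs).map f
  | [] => by simp [spanL, F.zero]
  | g :: r => by
    rw [List.map_cons, spanL, spanL, PAut.span F r, List.map_append, List.map_map, List.map_map]
    simp [Function.comp_def, F.xor]

theorem PAut.mem_iff {f : ℕ → ℕ} (F : PAut f) {gs : List ℕ} (hgs : ∀ g ∈ gs, g < 512) {u : ℕ} (hu : u < 512) :
    f u ∈ spanL (gs.map f) ↔ u ∈ spanL gs := by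
  rw [F.span, List.mem_map]
  exact ⟨fun ⟨v, hv, e⟩ => F.inj v u (spanL_lt hgs v hv) hu e ▸ hv, fun h => ⟨u, h, rfl⟩⟩

theorem PAut.full {f : ℕ → ℕ} (F : PAut f) {gs : List ℕ} (hgs : ∀ g ∈ gs, g < 512) (h : full gs = true) :
    full (gs.map f) = true := by
  rw [Model.full, List.all_eq_true] at h ⊢
  intro l hl
  obtain ⟨l', hl', e⟩ := F.line l hl
  obtain ⟨g, hg, hgl⟩ := List.any_eq_true.1 (h l' hl')
  rw [Bool.not_eq_true', ← Bool.not_eq_true, List.contains_iff_mem] at hgl
  refine List.any_eq_true.2 ⟨f g, List.mem_map_of_mem hg, ?_⟩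
  rw [Bool.not_eq_true', ← Bool.not_eq_true, List.contains_iff_mem]
  intro hm
  obtain ⟨v, hv, ev'⟩ := e _ hm
  exact hgl (F.inj v g (spanL_lt (line_lt hl') v hv) (hgs g hg) ev' ▸ hv)

/-- The colour of a point of the plane on masks. -/
def col (gs : List ℕ) (k : ℕ) : ℕ :=
  (List.range 21).countP fun f => (spanL gs).contains (msk k ^^^ msk f)

theorem col_eq_card (gs : List ℕ) (k : ℕ) :
    col gs k = (Finset.univ.filter fun i : Fin 21 => msk k ^^^ msk i ∈ spanL gs).card := by
  rw [col, show List.range 21 = (List.finRange 21).map Fin.val by decide, List.countP_map, List.countP_eq_length_filter, Finset.card_def, Finset.filter_val,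
    Fin.univ_def]
  simp [Function.comp_def]

theorem PAut.col {f : ℕ → ℕ} (F : PAut f) {gs : List ℕ} (hgs : ∀ g ∈ gs, g < 512) {σ : Fin 21 → Fin 21}
    (hσ : σ.Bijective) (e : ∀ k : Fin 21, f (msk k) = msk (σ k)) (k : Fin 21) :
    col (gs.map f) (σ k) = col gs k := by
  rw [col_eq_card, col_eq_card]
  refine (Finset.card_bij (fun i _ => σ i) (fun i hi => ?_) (fun a _ b _ h => hσ.1 h) fun j hj => ?_).symm
  · rw [Finset.mem_filter] at hi ⊢
    exact ⟨Finset.mem_univ _, by rw [← e, ← e, ← F.xor]; exact (F.mem_iff hgs (Nat.xor_lt_two_pow (n := 9)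
      (msk_lt k.isLt) (msk_lt i.isLt))).2 hi.2⟩
  · obtain ⟨i, rfl⟩ := hσ.2 j
    rw [Finset.mem_filter] at hj
    refine ⟨i, Finset.mem_filter.2 ⟨Finset.mem_univ _, ?_⟩, rfl⟩
    rw [← e, ← e, ← F.xor] at hj
    exact (F.mem_iff hgs (Nat.xor_lt_two_pow (n := 9) (msk_lt k.isLt) (msk_lt i.isLt))).1 hj.2

theorem colourG_col {gs : List ℕ} (hgs : ∀ g ∈ gs, g < 512) (hf : full gs = true) (k : Fin 21) :
    colourG (mSub gs) (pp k) = col gs k := by
  have hpp : Function.Injective fun i : Fin 21 => pp i := by decide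
  rw [col_eq_card, colourG, ← Set.ncard_coe_finset, ← Set.ncard_image_of_injective _ hpp]
  congr 1
  ext f
  simp only [Set.mem_ofPred_eq, Set.mem_image, Finset.coe_filter, Finset.mem_univ, true_and]
  constructor
  · rintro ⟨hfix, hm⟩
    obtain ⟨i, hi, rfl⟩ := fixed_full hgs hf fun g hg => hfix _ (iota_mem (spanL_gen hg))
    rw [← iota_msk k.isLt, ← iota_msk hi, ← iota_xor] at hm
    exact ⟨⟨i, hi⟩, mem_of_iota hgs (Nat.xor_lt_two_pow (n := 9) (msk_lt k.isLt) (msk_lt hi)) hm, rfl⟩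
  · rintro ⟨i, hi, rfl⟩
    refine ⟨fun p hp => ?_, ?_⟩
    · obtain ⟨u, -, rfl⟩ := hp
      exact iota_fix_pp u i.isLt
    · rw [← iota_msk k.isLt, ← iota_msk i.isLt, ← iota_xor]
      exact iota_mem hi

/-- The linear extension of a permutation of the plane points. -/
def linOf (p : List ℕ) (u : ℕ) : ℕ :=
  ((List.range 9).map fun i => if u.testBit i then msk (p.getD (planeBasis.getD i 0) 0) else 0).foldr (· ^^^ ·) 0

/-- A listed permutation gives an automorphism. -/
def autOK (p : List ℕ) : Bool :=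
  ((List.range 21).all fun k => decide (p.getD k 0 < 21) && (linOf p (msk k) == msk (p.getD k 0))) &&
    ((List.range 21).all fun j => (List.range 21).any fun k => p.getD k 0 == j) &&
    ((List.range 512).all fun u => (u == 0) || (linOf p u != 0)) &&
    (planeLines.all fun l => planeLines.any fun l' => l.2.1.all fun g => ((spanL l'.2.1).map (linOf p)).contains g)

theorem linOf_xor (p : List ℕ) (u v : ℕ) : linOf p (u ^^^ v) = linOf p u ^^^ linOf p v := by
  set F : ℕ → ℕ → ℕ := fun u i => if u.testBit i then msk (p.getD (planeBasis.getD i 0) 0) else 0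
  have h : ∀ l : List ℕ, (l.map (F (u ^^^ v))).foldr (· ^^^ ·) 0 =
      (l.map (F u)).foldr (· ^^^ ·) 0 ^^^ (l.map (F v)).foldr (· ^^^ ·) 0 := by
    intro l
    induction l with
    | nil => exact (Nat.xor_self 0).symm
    | cons i r ih =>
      have hi : F (u ^^^ v) i = F u i ^^^ F v i := by
        by_cases h1 : u.testBit i <;> by_cases h2 : v.testBit i <;> simp [F, Nat.testBit_xor, h1, h2]
      simp only [List.map_cons, List.foldr_cons, ih, hi]
      rw [Nat.xor_assoc, Nat.xor_assoc, Nat.xor_left_comm (F v i)]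
  exact h _

theorem linOf_lt {p : List ℕ} (hp : ∀ k < 21, p.getD k 0 < 21) (u : ℕ) : linOf p u < 512 := by
  have h : ∀ l : List ℕ, (∀ i ∈ l, i < 512) → l.foldr (· ^^^ ·) 0 < 512 := by
    intro l
    induction l with
    | nil => intro _; norm_num
    | cons a r ih =>
      intro hl
      rw [List.foldr_cons]
      exact Nat.xor_lt_two_pow (n := 9) (hl a List.mem_cons_self) (ih fun i hi => hl i (List.mem_cons_of_mem a hi))
  refine h _ fun i hi => ?_
  obtain ⟨j, hj, rfl⟩ := List.mem_map.1 hi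
  split
  · exact msk_lt (hp _ ((show ∀ j < 9, planeBasis.getD j 0 < 21 by decide) j (List.mem_range.1 hj)))
  · norm_num

theorem autOK_sound {p : List ℕ} (h : autOK p = true) : PAut (linOf p) := by
  simp only [autOK, Bool.and_eq_true, List.all_eq_true, decide_eq_true_eq, beq_iff_eq, List.any_eq_true,
    List.mem_range, Bool.or_eq_true, bne_iff_ne, List.contains_iff_mem] at h
  obtain ⟨⟨⟨hp, hsurj⟩, hinj⟩, hline⟩ := h
  refine ⟨fun u _ => linOf_lt (fun k hk => (hp k hk).1) u, linOf_xor p, fun u v hu hv e => ?_,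
    ⟨fun k => ⟨p.getD k.val 0, (hp k k.isLt).1⟩, ?_, fun k => (hp k k.isLt).2⟩, fun l hl => ?_⟩
  · rcases hinj _ (Nat.xor_lt_two_pow (n := 9) hu hv) with h | h
    · exact Nat.xor_eq_zero_iff.1 h
    · exact absurd (by rw [linOf_xor, e, Nat.xor_self]) h
  · refine Finite.surjective_iff_bijective.1 fun j => ?_
    obtain ⟨k, hk, e⟩ := hsurj j j.isLt
    exact ⟨⟨k, hk⟩, Fin.ext e⟩
  · obtain ⟨l', hl', hg⟩ := hline l hl
    refine ⟨l', hl', fun u hu => ?_⟩
    have hmap : ∀ a b, a ∈ (spanL l'.2.1).map (linOf p) → b ∈ (spanL l'.2.1).map (linOf p) →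
        a ^^^ b ∈ (spanL l'.2.1).map (linOf p) := by
      intro a b ha hb
      obtain ⟨x, hx, rfl⟩ := List.mem_map.1 ha
      obtain ⟨y, hy, rfl⟩ := List.mem_map.1 hb
      exact List.mem_map.2 ⟨x ^^^ y, spanL_xor hx hy, linOf_xor p x y⟩
    have hall : ∀ bs : List ℕ, (∀ g ∈ bs, g ∈ (spanL l'.2.1).map (linOf p)) →
        ∀ u ∈ spanL bs, u ∈ (spanL l'.2.1).map (linOf p) := by
      intro bs
      induction bs with
      | nil =>
        intro _ u hu
        rw [List.mem_singleton.1 hu]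
        exact List.mem_map.2 ⟨0, spanL_zero _, by have := linOf_xor p 0 0; rwa [Nat.xor_self, Nat.xor_self] at this⟩
      | cons g r ih =>
        intro hb u hu
        have ih' := ih fun x hx => hb x (List.mem_cons_of_mem g hx)
        rcases List.mem_append.1 hu with hu | hu
        · exact ih' u hu
        · obtain ⟨v, hv, rfl⟩ := List.mem_map.1 hu
          exact hmap _ _ (hb g List.mem_cons_self) (ih' v hv)
    exact List.mem_map.1 (hall _ hg u hu)

/-- A node: masks and, for each colour, a chosen point with the certificates of the extensions. -/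
abbrev Node : Type := List ℕ × List (ℕ × ℕ × List (ℕ × (ℕ ⊕ ℕ × List ℕ)))

/-- The certificate of an extension. -/
def kidOK (nodes : List Node) (i : ℕ) (gs : List ℕ) : ℕ ⊕ ℕ × List ℕ → Bool
  | Sum.inl q => decide (q < 21) && (spanL gs).contains (msk q)
  | Sum.inr (j, p) => decide (j < i) && autOK p &&
      (nodes.getD j ([], [])).1.all fun g => (spanL gs).contains (linOf p g)

/-- A node is correct. -/
def nodeOK (nodes : List Node) (i : ℕ) : Bool :=
  let nd := nodes.getD i ([], [])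
  (nd.1.all fun g => decide (g < 512)) && full nd.1 &&
    (List.range 21).all fun k => nd.2.any fun o => (o.1 == col nd.1 k) && decide (o.2.1 < 21) &&
      (List.range 21).all fun k' => (col nd.1 k' != o.1) ||
        (!(spanL nd.1).contains (msk o.2.1 ^^^ msk k') &&
          o.2.2.any fun c => (c.1 == k') && kidOK nodes i (nd.1 ++ [msk o.2.1 ^^^ msk k']) c.2)

theorem nodes_ok : ((List.range planeNodes.length).all (nodeOK planeNodes)) = true := by decide +kernel

set_option maxHeartbeats 400000 in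
theorem Emb.node_safe [Finite G] (E : Emb φ) : ∀ i, i < planeNodes.length → ∀ f, PAut f →
    Safe φ (mSub ((planeNodes.getD i ([], [])).1.map f)) := by
  intro i
  induction i using Nat.strong_induction_on with
  | _ i ih =>
  intro hi f F d hd hdP
  by_contra hdM
  have hok := List.all_eq_true.1 nodes_ok i (List.mem_range.2 hi)
  simp only [nodeOK, Bool.and_eq_true, List.all_eq_true, decide_eq_true_eq, List.any_eq_true, List.mem_range,
    beq_iff_eq, Bool.or_eq_true, bne_iff_ne, Bool.not_eq_true'] at hok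
  obtain ⟨⟨hlt, hfull⟩, hopt⟩ := hok
  set gs := (planeNodes.getD i ([], [])).1
  set P := mSub (gs.map f)
  have hlt' : ∀ g ∈ gs.map f, g < 512 := fun g hg => by
    obtain ⟨x, hx, rfl⟩ := List.mem_map.1 hg
    exact F.lt x (hlt x hx)
  have hfull' := F.full hlt hfull
  obtain ⟨σ, hσ, eσ⟩ := F.pts
  have hfixpp : ∀ (k : Fin 21), ∀ p ∈ P, (p : Equiv.Perm (Fin 693)) (pp k) = pp k := fun k p hp => by
    obtain ⟨u, -, rfl⟩ := hp
    exact iota_fix_pp u k.isLt
  have hP := mSub_pGroup (gs.map f)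
  have getk : ∀ {e : Fin 693}, (∀ p ∈ P, (p : Equiv.Perm (Fin 693)) e = e) →
      ∃ k : Fin 21, e = pp (σ k) := fun {e} he => by
    obtain ⟨j, hj, rfl⟩ := fixed_full hlt' hfull' fun g hg => he _ (iota_mem (spanL_gen hg))
    obtain ⟨k, hk⟩ := hσ.2 ⟨j, hj⟩
    exact ⟨k, by rw [hk]⟩
  obtain ⟨e0, n0, hn0, he0, hf0, -⟩ := E.tv_step hP hd hdP hdM (i := pp (σ 0)) (hfixpp (σ 0))
  obtain ⟨k0, rfl⟩ := getk hf0
  obtain ⟨o, -, ⟨hov, how⟩, hkids⟩ := hopt k0.val k0.isLt
  set w : Fin 21 := ⟨o.2.1, how⟩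
  obtain ⟨e, n, hn, he, hfe, hor⟩ := E.tv_step hP hd hdP hdM (i := pp (σ w)) (hfixpp (σ w))
  obtain ⟨k, rfl⟩ := getk hfe
  obtain ⟨m, hm, hme⟩ := E.carried hn0 hn he0 he
  have hcol : col gs k = o.1 := by
    rw [hov, ← F.col hlt hσ eσ k, ← F.col hlt hσ eσ k0, ← colourG_col hlt' hfull', ← colourG_col hlt' hfull',
      colourG_inv hm hme]
  obtain ⟨hnot, c, -, hck, hkid⟩ := (hkids k.val k.isLt).resolve_left (not_not.2 hcol)
  set z := msk o.2.1 ^^^ msk k.val
  have hz : z < 512 := Nat.xor_lt_two_pow (n := 9) (msk_lt how) (msk_lt k.isLt)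
  have hiota : tv (pp (σ w)) * tv (pp (σ k)) = iota (f z) := by
    rw [← iota_msk (σ w).isLt, ← iota_msk (σ k).isLt, ← iota_xor, ← eσ, ← eσ, ← F.xor]
  have hzP : tv (pp (σ w)) * tv (pp (σ k)) ∉ P := by
    rw [hiota]
    intro hmem
    have h2 := (F.mem_iff hlt hz).1 (mem_of_iota hlt' (F.lt z hz) hmem)
    rw [← Bool.not_eq_true, List.contains_iff_mem] at hnot
    exact hnot h2
  rcases hor with h | ⟨-, -, hns⟩
  · exact hzP h
  refine hns ?_
  set gs' := gs ++ [z]
  have hle : mSub (gs'.map f) ≤ P ⊔ Subgroup.zpowers (tv (pp (σ w)) * tv (pp (σ k))) := by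
    rintro _ ⟨u, hu, rfl⟩
    have hgen : ∀ g ∈ gs'.map f,
        iota g ∈ P ⊔ Subgroup.zpowers (tv (pp (σ w)) * tv (pp (σ k))) := fun g hg => by
      obtain ⟨x, hx, rfl⟩ := List.mem_map.1 hg
      rcases List.mem_append.1 hx with hx | hx
      · exact Subgroup.mem_sup_left (iota_mem (spanL_gen (List.mem_map_of_mem hx)))
      · rw [List.mem_singleton.1 hx, ← hiota]
        exact Subgroup.mem_sup_right (Subgroup.mem_zpowers _)
    have : ∀ bs : List ℕ, (∀ g ∈ bs, iota g ∈ P ⊔ Subgroup.zpowers (tv (pp (σ w)) * tv (pp (σ k)))) →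
        ∀ u ∈ spanL bs, iota u ∈ P ⊔ Subgroup.zpowers (tv (pp (σ w)) * tv (pp (σ k))) := by
      intro bs
      induction bs with
      | nil => intro _ u hu; rw [List.mem_singleton.1 hu, iota_zero]; exact one_mem _
      | cons b r ih' =>
        intro hb u hu
        rcases List.mem_append.1 hu with hu | hu
        · exact ih' (fun x hx => hb x (List.mem_cons_of_mem b hx)) u hu
        · obtain ⟨v, hv, rfl⟩ := List.mem_map.1 hu
          rw [iota_xor]
          exact mul_mem (hb b List.mem_cons_self) (ih' (fun x hx => hb x (List.mem_cons_of_mem b hx)) v hv)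
    exact this _ hgen u hu
  refine Safe.mono ?_ hle
  rcases hc : c.2 with q | ⟨j, p⟩
  · rw [hc] at hkid
    simp only [kidOK, Bool.and_eq_true, decide_eq_true_eq, List.contains_iff_mem] at hkid
    refine E.safe_tv (j := pp (σ ⟨q, hkid.1⟩)) ?_
    rw [← iota_msk (σ ⟨q, hkid.1⟩).isLt, ← eσ]
    refine iota_mem ?_
    rw [F.span]
    exact List.mem_map_of_mem hkid.2
  · rw [hc] at hkid
    simp only [kidOK, Bool.and_eq_true, decide_eq_true_eq, List.all_eq_true, List.contains_iff_mem] at hkid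
    obtain ⟨⟨hji, hp⟩, hsub⟩ := hkid
    refine Safe.mono (ih j hji (hji.trans hi) (f ∘ linOf p) (F.comp (autOK_sound hp))) ?_
    rintro _ ⟨u, hu, rfl⟩
    refine iota_mem (spanL_le (spanL_zero _) (fun g hg => ?_) u hu)
    obtain ⟨x, hx, rfl⟩ := List.mem_map.1 hg
    rw [F.span]
    exact List.mem_map.2 ⟨_, hsub x hx, rfl⟩

end Cfsg.Lib.USixType.Model
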