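import Cfsg.Agent.USixType.Tv

/-!
Subgroups of the embedded unitary group whose centralised transvections stay inside, and the dihedral argument that
propagates this property from larger subgroups to smaller ones.
-/

set_option autoImplicit false

namespace Cfsg.Lib.USixType.Model

universe u

variable {G : Type u} [Group G] (φ : W →* G)

/-- The class of the transvections in the group. -/
def TvClass (d : G) : Prop := IsConj (φ (tv 0)) d

/-- Every transvection of the group centralising the subgroup lies in the model. -/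
def Safe (P : Subgroup W) : Prop := ∀ d, TvClass φ d → (∀ p ∈ P, Commute d (φ p)) → d ∈ φ.range

/-- The normaliser of the model in the group. -/
def Nm : Subgroup G := Subgroup.normalizer ((φ.range : Subgroup G) : Set G)

/-- The hypotheses on the embedding: centralisers of transvections normalise the model, and the class of the
transvections meets the normaliser in the transvections only. -/
structure Emb : Prop where
  inj : Function.Injective φ
  cen : ∀ j, Subgroup.centralizer ({φ (tv j)} : Set G) ≤ Nm φ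
  nofus : ∀ g ∈ Nm φ, TvClass φ g → ∃ j, g = φ (tv j)

variable {φ}

theorem tvClass_tv (j : Fin 693) : TvClass φ (φ (tv j)) := by
  refine isConj_iff.2 ⟨φ (wv (ptW j)), ?_⟩
  rw [← map_inv, ← map_mul, ← map_mul, tv_conj, ptW_zero]

theorem TvClass.conj {d : G} (h : TvClass φ d) (g : G) : TvClass φ (g * d * g⁻¹) :=
  h.trans (isConj_iff.2 ⟨g, rfl⟩)

theorem TvClass.sq {d : G} (h : TvClass φ d) : d * d = 1 := by
  obtain ⟨g, rfl⟩ := isConj_iff.1 h
  calc g * φ (tv 0) * g⁻¹ * (g * φ (tv 0) * g⁻¹) = g * φ (tv 0 * tv 0) * g⁻¹ := by rw [map_mul]; group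
    _ = 1 := by rw [tv_sq, map_one]; group

theorem map_mem_Nm (x : W) : φ x ∈ Nm φ := Subgroup.le_normalizer ⟨x, rfl⟩

theorem exists_move (i j : Fin 693) : ∃ h : W, h * tv j * h⁻¹ = tv i := by
  refine ⟨wv (ptW i) * (wv (ptW j))⁻¹, ?_⟩
  rw [tv_conj]
  congr 1
  show ((wv (ptW i) : W) : Equiv.Perm (Fin 693)) (((wv (ptW j) : W) : Equiv.Perm (Fin 693))⁻¹ j) = i
  rw [show ((wv (ptW j) : W) : Equiv.Perm (Fin 693))⁻¹ j = 0 from
    Equiv.Perm.inv_eq_iff_eq.2 (ptW_zero j).symm, ptW_zero]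

theorem emb_of_normal (hinj : Function.Injective φ) {t : W} (ht : IsTv t)
    (hC : Subgroup.centralizer ({φ t} : Set G) ≤ Nm φ)
    (hF : ∀ g ∈ Nm φ, IsConj (φ t) g → ∃ w : W, IsTv w ∧ g = φ w) : Emb φ := by
  obtain ⟨i, rfl⟩ := isTv_iff.1 ht
  refine ⟨hinj, fun j g hg => ?_, fun g hg hcl => ?_⟩
  · rw [Subgroup.mem_centralizer_singleton_iff] at hg
    obtain ⟨h, e⟩ := exists_move i j
    have : φ h * g * (φ h)⁻¹ ∈ Nm φ := hC (Subgroup.mem_centralizer_singleton_iff.2 (by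
      rw [← e, map_mul, map_mul, map_inv]
      calc φ h * g * (φ h)⁻¹ * (φ h * φ (tv j) * (φ h)⁻¹) = φ h * (g * φ (tv j)) * (φ h)⁻¹ := by group
        _ = φ h * φ (tv j) * (φ h)⁻¹ * (φ h * g * (φ h)⁻¹) := by rw [hg]; group))
    have h2 := (Nm φ).mul_mem ((Nm φ).mul_mem ((Nm φ).inv_mem (map_mem_Nm h)) this) (map_mem_Nm (φ := φ) h)
    rwa [show (φ h)⁻¹ * (φ h * g * (φ h)⁻¹) * φ h = g by group] at h2
  · obtain ⟨w, hw, e⟩ := hF g hg ((tvClass_tv i).symm.trans hcl)
    obtain ⟨k, rfl⟩ := isTv_iff.1 hw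
    exact ⟨k, e⟩

theorem emb_of_hyp (hinj : Function.Injective φ) {t : W} (ht : IsTv t)
    (hC : Subgroup.centralizer ({φ t} : Set G) ≤ φ.range) (hF : ∀ w : W, IsConj (φ t) (φ w) → IsTv w) : Emb φ := by
  obtain ⟨i, rfl⟩ := isTv_iff.1 ht
  have hC' : ∀ j, Subgroup.centralizer ({φ (tv j)} : Set G) ≤ φ.range := by
    intro j g hg
    rw [Subgroup.mem_centralizer_singleton_iff] at hg
    obtain ⟨h, e⟩ := exists_move i j
    obtain ⟨x, hx⟩ : φ h * g * (φ h)⁻¹ ∈ φ.range := hC (Subgroup.mem_centralizer_singleton_iff.2 (by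
      rw [← e, map_mul, map_mul, map_inv]
      calc φ h * g * (φ h)⁻¹ * (φ h * φ (tv j) * (φ h)⁻¹) = φ h * (g * φ (tv j)) * (φ h)⁻¹ := by group
        _ = φ h * φ (tv j) * (φ h)⁻¹ * (φ h * g * (φ h)⁻¹) := by rw [hg]; group))
    exact ⟨h⁻¹ * x * h, by rw [map_mul, map_mul, map_inv, hx]; group⟩
  refine emb_of_normal hinj (isTv_tv i) ((hC' i).trans Subgroup.le_normalizer) fun g hg hcl => ?_
  -- an involution normalising the model centralises one of its transvections
  have hg2 : g * g = 1 := TvClass.sq ((tvClass_tv i).trans hcl)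
  have hσ : ∀ j, ∃ k, g * φ (tv j) * g⁻¹ = φ (tv k) := fun j => by
    obtain ⟨w, hw⟩ := (Subgroup.mem_normalizer_iff.1 hg (φ (tv j))).1 ⟨tv j, rfl⟩
    obtain ⟨k, rfl⟩ := isTv_iff.1 (hF w ((tvClass_tv i).symm.trans (hw ▸ (tvClass_tv j).conj g)))
    exact ⟨k, hw.symm⟩
  choose σ hσ using hσ
  have hσ2 : ∀ j, σ (σ j) = j := fun j => tv_inj (hinj (by
    rw [← hσ, ← hσ, inv_eq_of_mul_eq_one_right hg2,
      show g * (g * φ (tv j) * g) * g = (g * g) * φ (tv j) * (g * g) by group, hg2, one_mul, mul_one]))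
  have : Fact (Nat.Prime 2) := ⟨Nat.prime_two⟩
  obtain ⟨j, hj⟩ := Equiv.Perm.exists_fixed_point_of_prime (p := 2) (n := 1) (σ := (⟨σ, σ, hσ2, hσ2⟩ :
    Equiv.Perm (Fin 693))) (by rw [Fintype.card_fin]; decide) (Equiv.ext fun j => hσ2 j)
  have hc : g * φ (tv j) = φ (tv j) * g := by
    have := hσ j
    rw [show σ j = j from hj] at this
    rwa [mul_inv_eq_iff_eq_mul] at this
  obtain ⟨w, hw⟩ := hC' j (Subgroup.mem_centralizer_singleton_iff.2 hc)
  exact ⟨w, hF w (hw.symm ▸ hcl), hw.symm⟩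

theorem Emb.mem_range (E : Emb φ) {g : G} (hg : g ∈ Nm φ) (hcl : TvClass φ g) : g ∈ φ.range :=
  ⟨_, (E.nofus g hg hcl).choose_spec.symm⟩

theorem Emb.back (E : Emb φ) {g : G} {j : Fin 693} (h : g * φ (tv j) * g⁻¹ ∈ Nm φ) : g ∈ Nm φ := by
  obtain ⟨i, hw⟩ := E.nofus _ h ((tvClass_tv j).conj g)
  obtain ⟨m, e⟩ := exists_move i j
  have hx : (φ m)⁻¹ * g ∈ Nm φ := E.cen j (Subgroup.mem_centralizer_singleton_iff.2 (by
    rw [← e, map_mul, map_mul, map_inv] at hw
    calc (φ m)⁻¹ * g * φ (tv j) = (φ m)⁻¹ * (g * φ (tv j) * g⁻¹) * g := by group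
      _ = φ (tv j) * ((φ m)⁻¹ * g) := by rw [hw]; group))
  have := (Nm φ).mul_mem (map_mem_Nm (φ := φ) m) hx
  rwa [mul_inv_cancel_left] at this

theorem Emb.conj_tv (E : Emb φ) (g : Nm φ) (j : Fin 693) : ∃ k, (g : G) * φ (tv j) * (g : G)⁻¹ = φ (tv k) :=
  E.nofus _ ((Nm φ).mul_mem ((Nm φ).mul_mem g.2 (map_mem_Nm _)) ((Nm φ).inv_mem g.2)) ((tvClass_tv j).conj _)

theorem Emb.act_aux (E : Emb φ) (g : Nm φ) : ∃ π : Equiv.Perm (Fin 693),
    ∀ j, (g : G) * φ (tv j) * (g : G)⁻¹ = φ (tv (π j)) := by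
  choose σ hσ using E.conj_tv g
  refine ⟨Equiv.ofBijective σ (Finite.injective_iff_bijective.1 fun a b h => tv_inj (E.inj ?_)), hσ⟩
  have := (hσ a).trans ((congrArg (fun i => φ (tv i)) h).trans (hσ b).symm)
  exact mul_left_cancel (mul_right_cancel this)

/-- The action of the normaliser on the transvections. -/
noncomputable def Emb.act (E : Emb φ) : Nm φ →* Equiv.Perm (Fin 693) :=
  MonoidHom.mk' (fun g => (E.act_aux g).choose) fun g h => Equiv.ext fun j => tv_inj (E.inj (by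
    rw [← (E.act_aux (g * h)).choose_spec j, Equiv.Perm.mul_apply, ← (E.act_aux g).choose_spec,
      ← (E.act_aux h).choose_spec, Subgroup.coe_mul]
    group))

theorem Emb.act_spec (E : Emb φ) (g : Nm φ) (j : Fin 693) :
    (g : G) * φ (tv j) * (g : G)⁻¹ = φ (tv (E.act g j)) := (E.act_aux g).choose_spec j

/-- Conjugation by an element of the normaliser is conjugation of permutations. -/
theorem Emb.act_conj (E : Emb φ) (g : Nm φ) (x : W) : ∃ x' : W, (g : G) * φ x * (g : G)⁻¹ = φ x' ∧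
    (x' : Equiv.Perm (Fin 693)) = E.act g * (x : Equiv.Perm (Fin 693)) * (E.act g)⁻¹ := by
  obtain ⟨x', hx'⟩ := (Subgroup.mem_normalizer_iff.1 g.2 (φ x)).1 ⟨x, rfl⟩
  refine ⟨x', hx'.symm, eq_mul_inv_iff_mul_eq.2 (Equiv.ext fun j => tv_inj (E.inj ?_))⟩
  rw [Equiv.Perm.mul_apply, Equiv.Perm.mul_apply, ← tv_conj, map_mul, map_mul, map_inv, hx', ← E.act_spec,
    ← E.act_spec, ← tv_conj, map_mul, map_mul, map_inv]
  group

theorem Emb.safe_tv (E : Emb φ) {P : Subgroup W} {j : Fin 693} (h : tv j ∈ P) : Safe φ P :=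
  fun _ hcl hd => E.mem_range (E.cen j (Subgroup.mem_centralizer_singleton_iff.2 (hd _ h).eq)) hcl

theorem Safe.mono {P Q : Subgroup W} (h : Safe φ Q) (hle : Q ≤ P) : Safe φ P :=
  fun d hd hc => h d hd fun q hq => hc q (hle hq)

theorem Safe.of_conj {P Q : Subgroup W} (h : Safe φ Q) (g : W) (hg : ∀ q ∈ Q, g * q * g⁻¹ ∈ P) : Safe φ P := by
  intro d hd hc
  obtain ⟨x, hx⟩ := h ((φ g)⁻¹ * d * ((φ g)⁻¹)⁻¹) (hd.conj _) fun q hq => by
    have := (hc _ (hg q hq)).map (MulAut.conj (φ g)⁻¹).toMonoidHom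
    simpa [MulAut.conj_apply, mul_assoc] using this
  exact ⟨g * x * g⁻¹, by rw [map_mul, map_mul, map_inv, hx]; group⟩

theorem exists_fixed {P : Subgroup W} (hP : IsPGroup 2 P) :
    ∃ j, ∀ p ∈ P, (p : Equiv.Perm (Fin 693)) j = j := by
  have : Fact (Nat.Prime 2) := ⟨Nat.prime_two⟩
  obtain ⟨j, hj⟩ := hP.nonempty_fixed_point_of_prime_not_dvd_card (Fin 693) (by rw [Nat.card_fin]; decide)
  exact ⟨j, fun p hp => hj ⟨p, hp⟩⟩

theorem commute_of_fix {p : W} {j : Fin 693} (h : (p : Equiv.Perm (Fin 693)) j = j) : Commute p (tv j) := by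
  have := tv_conj p j
  rwa [h, mul_inv_eq_iff_eq_mul] at this

theorem fix_of_commute {p : W} {j : Fin 693} (h : Commute p (tv j)) : (p : Equiv.Perm (Fin 693)) j = j :=
  tv_inj (by rw [← tv_conj, h.eq, mul_inv_cancel_right])

/-- An element normalising a two-subgroup of the normaliser that contains a safe subgroup lies in the normaliser. -/
theorem Emb.normalizer_mem (E : Emb φ) {Q : Subgroup W} (hQ : Safe φ Q) {K : Subgroup G} (hle : Q.map φ ≤ K)
    (hK : K ≤ Nm φ) (h2 : IsPGroup 2 K) {g : G} (hg : ∀ k ∈ K, g⁻¹ * k * g ∈ K) : g ∈ Nm φ := by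
  have : Fact (Nat.Prime 2) := ⟨Nat.prime_two⟩
  have h2' : IsPGroup 2 ((K.subgroupOf (Nm φ)).map E.act) :=
    (h2.of_equiv (Subgroup.subgroupOfEquivOfLe hK).symm).map _
  obtain ⟨j, hj⟩ := h2'.nonempty_fixed_point_of_prime_not_dvd_card (Fin 693) (by rw [Nat.card_fin]; decide)
  refine E.back (j := j) ?_
  suffices hc : ∀ q ∈ Q, Commute (g * φ (tv j) * g⁻¹) (φ q) by
    obtain ⟨x, hx⟩ := hQ _ ((tvClass_tv j).conj g) hc
    exact hx ▸ map_mem_Nm x
  intro q hq
  have hk := hg _ (hle ⟨q, hq, rfl⟩)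
  have hfix : E.act ⟨_, hK hk⟩ j = j := hj ⟨_, ⟨⟨_, hK hk⟩, hk, rfl⟩⟩
  have h := E.act_spec ⟨_, hK hk⟩ j
  rw [hfix, mul_inv_eq_iff_eq_mul] at h
  have hc : Commute (g⁻¹ * φ q * g) (φ (tv j)) := h
  have hc2 := hc.symm.map (MulAut.conj g).toMonoidHom
  simpa [MulAut.conj_apply, mul_assoc] using hc2

theorem pGroup_sup_zpowers {H : Type*} [Group H] {P : Subgroup H} (hP : IsPGroup 2 P) {y : H}
    (hN : y ∈ Subgroup.normalizer (P : Set H)) {k : ℕ} (hk : y ^ (2 ^ k) ∈ P) :
    IsPGroup 2 (P ⊔ Subgroup.zpowers y : Subgroup H) := by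
  rw [sup_comm]
  refine IsPGroup.to_sup_of_normal_right' ?_ hP ((Subgroup.zpowers_le).2 hN)
  rintro ⟨z, hz⟩
  obtain ⟨n, rfl⟩ := Subgroup.mem_zpowers_iff.1 hz
  obtain ⟨j, hj⟩ := hP ⟨_, hk⟩
  refine ⟨k + j, Subtype.ext ?_⟩
  have e : (y ^ (2 ^ k)) ^ (2 ^ j) = 1 := congrArg Subtype.val hj
  show (y ^ n) ^ (2 ^ (k + j)) = 1
  rw [← zpow_natCast, ← zpow_mul, mul_comm, zpow_mul, zpow_natCast, pow_add, pow_mul, e, one_zpow]

theorem invert_pow {H : Type*} [Group H] {a x : H} (h : a * x * a⁻¹ = x⁻¹) (n : ℕ) :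
    a * x ^ n * a⁻¹ = (x ^ n)⁻¹ := by
  rw [← conj_pow, h, inv_pow]

set_option maxHeartbeats 800000 in
/-- The dihedral argument: an outside transvection centralising the subgroup is carried, normalising it, to a
transvection of the model whose product with a given element either lies in the subgroup or gives an unsafe
extension. -/
theorem Emb.step [Finite G] (E : Emb φ) {P : Subgroup W} (hP : IsPGroup 2 P) {d : G} (hd : TvClass φ d)
    (hdP : ∀ p ∈ P, Commute d (φ p)) (hdM : d ∉ φ.range) {w : W} (hw2 : w * w ∈ P)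
    (hwN : w ∈ Subgroup.normalizer (P : Set W)) (hws : Safe φ (P ⊔ Subgroup.zpowers w)) :
    ∃ (e : Fin 693) (n : G), n ∈ Subgroup.normalizer ((P.map φ : Subgroup G) : Set G) ∧
      n * d * n⁻¹ = φ (tv e) ∧ (∀ p ∈ P, (p : Equiv.Perm (Fin 693)) e = e) ∧
      (w * tv e ∈ P ∨ ∃ k, (w * tv e) ^ (2 ^ k) ∉ P ∧ (w * tv e) ^ (2 ^ (k + 1)) ∈ P ∧
        ¬ Safe φ (P ⊔ Subgroup.zpowers ((w * tv e) ^ (2 ^ k)))) := by
  set N : Subgroup G := Subgroup.normalizer ((P.map φ : Subgroup G) : Set G)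
  set Q : Subgroup N := (P.map φ).subgroupOf N with hQ
  have hQn : Q.Normal := Subgroup.normal_in_normalizer
  set π := QuotientGroup.mk' Q
  have hmem : ∀ x : W, x ∈ Subgroup.normalizer (P : Set W) → φ x ∈ N := fun x hx =>
    Subgroup.le_normalizer_map φ ⟨x, hx, rfl⟩
  have hback : ∀ x : W, φ x ∈ N → x ∈ Subgroup.normalizer (P : Set W) := fun x hx => by
    refine Subgroup.mem_normalizer_iff.2 fun p => ?_
    rw [← Subgroup.mem_map_iff_mem E.inj (K := P) (x := p), ← Subgroup.mem_map_iff_mem E.inj (K := P) (x := x * p * x⁻¹),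
      map_mul, map_mul, map_inv]
    exact Subgroup.mem_normalizer_iff.1 hx _
  have hπ : ∀ (x : W) (hx : φ x ∈ N), π ⟨φ x, hx⟩ = 1 ↔ x ∈ P := fun x hx => by
    show ((⟨φ x, hx⟩ : N) : N ⧸ Q) = 1 ↔ _
    rw [QuotientGroup.eq_one_iff, hQ, Subgroup.mem_subgroupOf]
    exact Subgroup.mem_map_iff_mem E.inj
  have hdN : d ∈ N := Subgroup.mem_normalizer_iff.2 fun x => by
    constructor
    · rintro ⟨p, hp, rfl⟩
      exact ⟨p, hp, by rw [(hdP p hp).eq, mul_inv_cancel_right]⟩
    · rintro ⟨p, hp, e⟩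
      exact ⟨p, hp, by rw [← mul_left_cancel_iff (a := d), (hdP p hp).eq, e, inv_mul_cancel_right]⟩
  set a : N := ⟨φ w, hmem w hwN⟩
  set b : N := ⟨d, hdN⟩
  set r : N := a * b
  have ha : π a * π a = 1 := by
    rw [← map_mul]
    exact ((show a * a = (⟨φ (w * w), hmem _ (mul_mem hwN hwN)⟩ : N) from Subtype.ext (map_mul φ w w).symm) ▸
      (hπ _ _).2 hw2)
  have hb : π b * π b = 1 := by
    rw [← map_mul, show b * b = 1 from Subtype.ext hd.sq, map_one]
  have hai : (π a)⁻¹ = π a := inv_eq_of_mul_eq_one_right ha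
  have hbi : (π b)⁻¹ = π b := inv_eq_of_mul_eq_one_right hb
  have hinv : π a * π r * (π a)⁻¹ = (π r)⁻¹ := by
    rw [map_mul, mul_inv_rev, hai, hbi, ← mul_assoc (π a) (π a), ha, one_mul]
  obtain ⟨i, q, hq, hiq⟩ := Nat.exists_eq_two_pow_mul_odd (show orderOf (π r) ≠ 0 from (orderOf_pos _).ne')
  obtain ⟨l, rfl⟩ := hq
  set s : N := r ^ (2 * l + 1) with hs
  have hsi : π s ^ (2 ^ i) = 1 := by
    rw [hs, map_pow, ← pow_mul, mul_comm, ← hiq, pow_orderOf_eq_one]
  have key : ∀ m, m ≤ i → ((s ^ (2 ^ (i - m)) : N) : G) ∈ Nm φ := by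
    intro m
    induction m with
    | zero =>
      intro _
      rw [Nat.sub_zero]
      have h : (s ^ (2 ^ i) : N) ∈ Q := by
        rw [← QuotientGroup.eq_one_iff]
        exact (map_pow π s _).trans hsi
      obtain ⟨p, -, e⟩ := Subgroup.mem_subgroupOf.1 h
      exact e ▸ map_mem_Nm p
    | succ m ih =>
      intro hm
      set x : N := s ^ (2 ^ (i - (m + 1))) with hx
      have hxx : x * x = s ^ (2 ^ (i - m)) := by
        rw [hx, ← pow_add, ← two_mul, ← pow_succ', show i - (m + 1) + 1 = i - m by omega]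
      set y : N := x * x
      have hyNm : (y : G) ∈ Nm φ := hxx ▸ ih (by omega)
      set P' : Subgroup G := P.map φ
      have hyP : (y : G) ^ (2 ^ m) ∈ P' := by
        have h : y ^ (2 ^ m) ∈ Q := by
          rw [← QuotientGroup.eq_one_iff]
          show π (y ^ (2 ^ m)) = 1
          rw [hxx, map_pow, map_pow, ← pow_mul, ← pow_add, show i - m + m = i by omega, hsi]
        rw [hQ, Subgroup.mem_subgroupOf, SubmonoidClass.coe_pow] at h
        exact h
      have hay : a * y * a⁻¹ * y ∈ Q := by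
        rw [← QuotientGroup.eq_one_iff]
        show π (a * y * a⁻¹ * y) = 1
        rw [map_mul, map_mul, map_mul, map_inv,
          show π y = π r ^ ((2 * l + 1) * 2 ^ (i - m)) by rw [hxx, hs, map_pow, map_pow, pow_mul],
          invert_pow hinv, inv_mul_cancel]
      rw [hQ, Subgroup.mem_subgroupOf] at hay
      set K : Subgroup G := P' ⊔ Subgroup.zpowers (y : G)
      have haK : (a : G) ∈ Subgroup.normalizer (K : Set G) := by
        have hwy : (a : G) * y * (a : G)⁻¹ ∈ K := by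
          rw [show (a : G) * y * (a : G)⁻¹ = ((a * y * a⁻¹ * y : N) : G) * (y : G)⁻¹ by
            simp only [Subgroup.coe_mul, Subgroup.coe_inv]; group]
          exact K.mul_mem (Subgroup.mem_sup_left hay)
            (Subgroup.mem_sup_right (inv_mem (Subgroup.mem_zpowers _)))
        refine Subgroup.mem_normalizer_fintype fun z hz => ?_
        have hle : K ≤ K.comap (MulAut.conj (a : G)).toMonoidHom := sup_le
          (fun p hp => Subgroup.mem_sup_left ((Subgroup.mem_normalizer_iff.1 a.2 p).1 hp))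
          ((Subgroup.zpowers_le).2 hwy)
        exact hle hz
      have h2K : IsPGroup 2 K := pGroup_sup_zpowers (hP.map φ) y.2 hyP
      refine E.normalizer_mem hws (K := K ⊔ Subgroup.zpowers (a : G)) ?_ ?_ (pGroup_sup_zpowers h2K haK (k := 1)
        (Subgroup.mem_sup_left ⟨w * w, hw2, by rw [map_mul, pow_one, sq]⟩)) fun z hz => ?_
      · rw [Subgroup.map_sup, MonoidHom.map_zpowers]
        exact sup_le_sup_right le_sup_left _
      · refine sup_le (sup_le ?_ ((Subgroup.zpowers_le).2 hyNm)) ((Subgroup.zpowers_le).2 (map_mem_Nm w))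
        rintro _ ⟨p, -, rfl⟩
        exact map_mem_Nm p
      set K3 : Subgroup G := K ⊔ Subgroup.zpowers (a : G)
      have hle : K3 ≤ K3.comap (MulAut.conj (x : G)⁻¹).toMonoidHom := by
        refine sup_le (sup_le ?_ ((Subgroup.zpowers_le).2 ?_)) ((Subgroup.zpowers_le).2 ?_)
        · intro p hp
          rw [Subgroup.mem_comap]
          exact Subgroup.mem_sup_left (Subgroup.mem_sup_left ((Subgroup.mem_normalizer_iff.1 (inv_mem x.2) p).1 hp))
        · rw [Subgroup.mem_comap, MulEquiv.coe_toMonoidHom, MulAut.conj_apply, inv_inv,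
            show (x : G)⁻¹ * (y : G) * (x : G) = (y : G) by simp only [y, Subgroup.coe_mul]; group]
          exact Subgroup.mem_sup_left (Subgroup.mem_sup_right (Subgroup.mem_zpowers _))
        · rw [Subgroup.mem_comap, MulEquiv.coe_toMonoidHom, MulAut.conj_apply, inv_inv]
          have h1 : (x⁻¹ * a * x) * (a * y)⁻¹ ∈ Q := by
            rw [← QuotientGroup.eq_one_iff]
            show π (x⁻¹ * a * x * (a * (x * x))⁻¹) = 1
            rw [map_mul, map_inv, mul_inv_eq_one, map_mul, map_mul, map_mul, map_inv, map_mul,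
              show π x = π r ^ ((2 * l + 1) * 2 ^ (i - (m + 1))) by rw [hx, hs, map_pow, map_pow, pow_mul],
              ← invert_pow hinv, hai]
            rw [show ∀ X : N ⧸ Q, π a * X * π a * π a * X = π a * X * (π a * π a) * X from fun X => by group, ha,
              mul_one, mul_assoc]
          rw [hQ, Subgroup.mem_subgroupOf] at h1
          rw [show (x : G)⁻¹ * (a : G) * (x : G) = ((x⁻¹ * a * x * (a * y)⁻¹ : N) : G) * ((a : G) * (y : G)) by
            simp only [Subgroup.coe_mul, Subgroup.coe_inv]; group]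
          exact mul_mem (Subgroup.mem_sup_left (Subgroup.mem_sup_left h1))
            (mul_mem (Subgroup.mem_sup_right (Subgroup.mem_zpowers _))
              (Subgroup.mem_sup_left (Subgroup.mem_sup_right (Subgroup.mem_zpowers _))))
      have := Subgroup.mem_comap.1 (hle hz)
      simpa [MulAut.conj_apply] using this
  have hsNm : ((s : N) : G) ∈ Nm φ := by simpa using key i le_rfl
  set n : N := (r ^ l)⁻¹
  have hrb : π b * π r * (π b)⁻¹ = (π r)⁻¹ := by
    rw [map_mul, mul_inv_rev, hai, hbi, mul_assoc (π b) (π a * π b), mul_assoc (π a), hb, mul_one]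
  have hconj : π (n * b * n⁻¹) = π (a * s) := by
    rw [map_mul, map_mul, map_inv, inv_inv, map_mul, map_pow, hs, map_pow, ← invert_pow hrb l]
    rw [show ∀ X : N ⧸ Q, π b * X * (π b)⁻¹ * π b * X = π b * X * X from fun X => by group]
    rw [show π b = π a * π r by rw [map_mul, ← mul_assoc, ha, one_mul], mul_assoc, mul_assoc, ← pow_add,
      ← pow_succ', show l + l + 1 = 2 * l + 1 by omega]
  have hq1 : (n * b * n⁻¹) * (a * s)⁻¹ ∈ Q := by
    rw [← QuotientGroup.eq_one_iff]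
    show π (n * b * n⁻¹ * (a * s)⁻¹) = 1
    rw [map_mul, map_inv, hconj, mul_inv_cancel]
  obtain ⟨p, hp, hpe⟩ := Subgroup.mem_subgroupOf.1 hq1
  have he : φ p * (φ w * (s : G)) = (n : G) * d * (n : G)⁻¹ := by
    rw [hpe]
    simp only [Subgroup.coe_mul, Subgroup.coe_inv, b, a]
    group
  obtain ⟨e, hee⟩ := E.nofus ((n : G) * d * (n : G)⁻¹)
    (he ▸ mul_mem (map_mem_Nm p) (mul_mem (map_mem_Nm w) hsNm)) (hd.conj (n : G))
  have hfix : ∀ p ∈ P, (p : Equiv.Perm (Fin 693)) e = e := fun p' hp' => by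
    obtain ⟨p'', hp'', e''⟩ := (Subgroup.mem_normalizer_iff.1 (inv_mem n.2) (φ p')).1 ⟨p', hp', rfl⟩
    refine fix_of_commute (show Commute p' (tv e) from E.inj ?_)
    have hc := (hdP p'' hp'').map (MulAut.conj (n : G)).toMonoidHom
    simp only [MulEquiv.coe_toMonoidHom, MulAut.conj_apply] at hc
    rw [hee, e'', show (n : G) * ((n : G)⁻¹ * φ p' * (n : G)⁻¹⁻¹) * (n : G)⁻¹ = φ p' by group] at hc
    rw [map_mul, map_mul]
    exact hc.eq.symm
  refine ⟨e, n, n.2, hee, hfix, ?_⟩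
  have hwe : φ (w * tv e) ∈ N := by
    rw [map_mul, ← hee]
    exact mul_mem (hmem w hwN) (mul_mem (mul_mem n.2 hdN) (inv_mem n.2))
  set T : N := ⟨φ (w * tv e), hwe⟩
  have hT : π T = π s := by
    rw [show T = a * (n * b * n⁻¹) from Subtype.ext (by
      show φ (w * tv e) = φ w * ((n : G) * d * (n : G)⁻¹)
      rw [map_mul, ← hee]), map_mul, hconj, map_mul, ← mul_assoc, ha, one_mul]
  have hTp : ∀ k, ((w * tv e) ^ k ∈ P ↔ π s ^ k = 1) := fun k => by
    rw [← hT, ← map_pow, ← hπ _ (by rw [map_pow]; exact pow_mem hwe k)]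
    exact Iff.of_eq (congrArg (fun z => π z = 1) (Subtype.ext ((map_pow φ _ k).trans (SubmonoidClass.coe_pow T k).symm)))
  rcases Classical.em (w * tv e ∈ P) with h | h
  · exact Or.inl h
  refine Or.inr ?_
  have hex : ∃ k, π s ^ (2 ^ k) = 1 := ⟨i, hsi⟩
  classical
  have h0 : Nat.find hex ≠ 0 := fun e0 => h (by
    have := Nat.find_spec hex
    rw [e0] at this
    simpa using (hTp 1).2 (by simpa using this))
  obtain ⟨k, hk⟩ := Nat.exists_eq_succ_of_ne_zero h0
  have hk1 : (w * tv e) ^ (2 ^ (k + 1)) ∈ P := (hTp _).2 (by have := Nat.find_spec hex; rwa [hk] at this)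
  refine ⟨k, fun hc => Nat.find_min hex (by omega : k < Nat.find hex) ((hTp _).1 hc), hk1, fun hsafe => hdM ?_⟩
  set y := (w * tv e) ^ (2 ^ k) with hydef
  refine E.mem_range (E.normalizer_mem hsafe (K := (P ⊔ Subgroup.zpowers y).map φ) le_rfl
    (fun g hg => by obtain ⟨x, -, rfl⟩ := hg; exact map_mem_Nm x)
    ((pGroup_sup_zpowers hP (hback y (by rw [hydef, map_pow]; exact pow_mem hwe _))
      (k := 1) (by rw [hydef, pow_one, ← pow_mul, ← pow_succ]; exact hk1)).map φ) fun z' hz' => ?_) hd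
  obtain ⟨z, hz, rfl⟩ := hz'
  set K4 : Subgroup W := P ⊔ Subgroup.zpowers y
  have hle : K4 ≤ (K4.map φ).comap ((MulAut.conj d⁻¹).toMonoidHom.comp φ) := by
    refine sup_le ?_ ((Subgroup.zpowers_le).2 ?_)
    · intro p' hp'
      rw [Subgroup.mem_comap]
      exact ⟨p', Subgroup.mem_sup_left hp', by
        simp only [MonoidHom.coe_comp, Function.comp_apply, MulEquiv.coe_toMonoidHom, MulAut.conj_apply, inv_inv]
        rw [mul_assoc, ← (hdP p' hp').eq, inv_mul_cancel_left]⟩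
    · rw [Subgroup.mem_comap]
      have h1 : (b⁻¹ * T ^ (2 ^ k) * b) * T ^ (2 ^ k) ∈ Q := by
        rw [← QuotientGroup.eq_one_iff]
        show π (b⁻¹ * T ^ (2 ^ k) * b * T ^ (2 ^ k)) = 1
        rw [map_mul, map_mul, map_mul, map_inv, map_pow, hT, hs, map_pow, ← pow_mul, hbi]
        conv_lhs => arg 1; arg 2; rw [← hbi]
        rw [invert_pow hrb, inv_mul_cancel]
      obtain ⟨p', hp', e'⟩ := Subgroup.mem_subgroupOf.1 h1
      refine ⟨p' * y⁻¹, mul_mem (Subgroup.mem_sup_left hp')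
        (Subgroup.mem_sup_right (inv_mem (Subgroup.mem_zpowers y))), ?_⟩
      simp only [MonoidHom.coe_comp, Function.comp_apply, MulEquiv.coe_toMonoidHom, MulAut.conj_apply, inv_inv]
      rw [map_mul, e', map_inv, hydef, map_pow]
      simp only [Subgroup.coe_mul, Subgroup.coe_inv, SubmonoidClass.coe_pow, b, T]
      group
  have h := Subgroup.mem_comap.1 (hle hz)
  simpa [MulAut.conj_apply] using h

end Cfsg.Lib.USixType.Model
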