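import Mathlib

/-!
# The unitary space of dimension four over four elements, by codes

A vector is a byte, two bits for each coordinate, addition is exclusive or and `2` stands for a primitive cube root of
unity.
-/

set_option autoImplicit false
set_option Elab.async false

namespace Cfsg.Lib.USixType

/-- A vector. -/
structure Vt where
  /-- The code. -/
  code : Fin 256
  deriving DecidableEq

namespace Vt

/-- Vectors by codes. -/
def equivFin : Vt ≃ Fin 256 := ⟨code, Vt.mk, fun _ => rfl, fun _ => rfl⟩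

instance : Fintype Vt := Fintype.ofEquiv (Fin 256) equivFin.symm

theorem forall_iff {P : Vt → Prop} : (∀ a, P a) ↔ ∀ i : Fin 256, P ⟨i⟩ := ⟨fun h _ => h _, fun h a => h a.code⟩

theorem card_eq : Fintype.card Vt = 256 := by rw [Fintype.card_congr equivFin, Fintype.card_fin]

theorem ext' {u v : Vt} (h : u.code.val = v.code.val) : u = v := by
  cases u; cases v; exact congrArg Vt.mk (Fin.ext h)

instance : Zero Vt := ⟨⟨0⟩⟩

instance : Neg Vt := ⟨fun u => u⟩

instance : Add Vt := ⟨fun u v => ⟨⟨u.code.val ^^^ v.code.val,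
  Nat.xor_lt_two_pow (n := 8) u.code.isLt v.code.isLt⟩⟩⟩

theorem code_add (u v : Vt) : (u + v).code.val = u.code.val ^^^ v.code.val := rfl

instance : AddCommGroup Vt where
  add_assoc u v w := ext' (by simp only [code_add, Nat.xor_assoc])
  zero_add u := ext' (by simp [code_add, show (0 : Vt).code.val = 0 from rfl])
  add_zero u := ext' (by simp [code_add, show (0 : Vt).code.val = 0 from rfl])
  add_comm u v := ext' (by simp only [code_add, Nat.xor_comm])
  neg_add_cancel u := ext' (by simp [code_add, show (-u).code.val = u.code.val from rfl, show (0 : Vt).code.val = 0 from rfl])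
  nsmul := nsmulRec
  zsmul := zsmulRec

theorem neg_eq (u : Vt) : -u = u := rfl

theorem add_self (u : Vt) : u + u = 0 := ext' (by simp [code_add, show (0 : Vt).code.val = 0 from rfl])

theorem sub_eq_add' (u v : Vt) : u - v = u + v := by rw [sub_eq_add_neg, neg_eq]

end Vt

/-- A vector from a number. -/
def vt (n : ℕ) : Vt := ⟨⟨n % 256, Nat.mod_lt _ (by norm_num)⟩⟩

/-- A coordinate. -/
def co (v : Vt) (i : ℕ) : ℕ := (v.code.val >>> (2 * i)) % 4

theorem co_lt (v : Vt) (i : ℕ) : co v i < 4 := Nat.mod_lt _ (by norm_num)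

theorem co_add (u v : Vt) (i : ℕ) : co (u + v) i = co u i ^^^ co v i := by
  simp only [co, Vt.code_add, Nat.shiftRight_xor_distrib]
  exact Nat.xor_mod_two_pow (n := 2)

/-- The product of a scalar and the conjugate of a scalar. -/
def hc (a b : ℕ) : ℕ :=
  (([0, 0, 0, 0, 0, 1, 3, 2, 0, 2, 1, 3, 0, 3, 2, 1] : List ℕ).foldr (fun x r => x + 4 * r) 0 >>> (2 * (4 * a + b))) % 4

/-- The product of two scalars. -/
def mc (a b : ℕ) : ℕ :=
  (([0, 0, 0, 0, 0, 1, 2, 3, 0, 2, 3, 1, 0, 3, 1, 2] : List ℕ).foldr (fun x r => x + 4 * r) 0 >>> (2 * (4 * a + b))) % 4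

/-- The hermitian form. -/
def h (u v : Vt) : ℕ := hc (co u 0) (co v 0) ^^^ hc (co u 1) (co v 1) ^^^ hc (co u 2) (co v 2) ^^^ hc (co u 3) (co v 3)

/-- The alternating form. -/
def B (u v : Vt) : Bool := decide (2 ≤ h u v)

/-- The quadratic form. -/
def Q (v : Vt) : Bool := h v v == 1

/-- The cocycle. -/
def phi (u v : Vt) : Bool := h u v == 1 || h u v == 2

/-- A multiple. -/
def sm (a : ℕ) (v : Vt) : Vt :=
  vt (mc a (co v 0) + 4 * mc a (co v 1) + 16 * mc a (co v 2) + 64 * mc a (co v 3))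

/-- The transvection with centre `c`. -/
def tv (c v : Vt) : Vt := v + sm (h v c) c

theorem hc_lt (a b : ℕ) : hc a b < 4 := Nat.mod_lt _ (by norm_num)

theorem h_lt (u v : Vt) : h u v < 4 :=
  Nat.xor_lt_two_pow (n := 2) (Nat.xor_lt_two_pow (n := 2) (Nat.xor_lt_two_pow (n := 2) (hc_lt _ _) (hc_lt _ _)) (hc_lt _ _))
    (hc_lt _ _)

theorem hc_add : ∀ a < 4, ∀ b < 4, ∀ c < 4, hc (a ^^^ b) c = hc a c ^^^ hc b c ∧ hc c (a ^^^ b) = hc c a ^^^ hc c b := by
  decide +kernel

theorem h_add_left (u v w : Vt) : h (u + v) w = h u w ^^^ h v w := by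
  simp only [h, co_add, (hc_add _ (co_lt u _) _ (co_lt v _) _ (co_lt w _)).1]
  apply Nat.eq_of_testBit_eq
  intro i
  simp only [Nat.testBit_xor]
  simp only [Bool.xor_assoc, Bool.xor_left_comm]

theorem h_add_right (u v w : Vt) : h w (u + v) = h w u ^^^ h w v := by
  simp only [h, co_add, (hc_add _ (co_lt u _) _ (co_lt v _) _ (co_lt w _)).2]
  apply Nat.eq_of_testBit_eq
  intro i
  simp only [Nat.testBit_xor]
  simp only [Bool.xor_assoc, Bool.xor_left_comm]

theorem bit_xor : ∀ a < 4, ∀ b < 4, decide (2 ≤ a ^^^ b) = ((decide (2 ≤ a)).xor (decide (2 ≤ b))) ∧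
    ((a ^^^ b == 1 || a ^^^ b == 2) = ((a == 1 || a == 2).xor (b == 1 || b == 2))) := by decide +kernel

theorem B_add_left (u v w : Vt) : B (u + v) w = (B u w).xor (B v w) := by
  simp only [B, h_add_left, (bit_xor _ (h_lt u w) _ (h_lt v w)).1]

theorem B_add_right (u v w : Vt) : B w (u + v) = (B w u).xor (B w v) := by
  simp only [B, h_add_right, (bit_xor _ (h_lt w u) _ (h_lt w v)).1]

theorem phi_add_left (u v w : Vt) : phi (u + v) w = (phi u w).xor (phi v w) := by
  simp only [phi, h_add_left, (bit_xor _ (h_lt u w) _ (h_lt v w)).2]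

theorem phi_add_right (u v w : Vt) : phi w (u + v) = (phi w u).xor (phi w v) := by
  simp only [phi, h_add_right, (bit_xor _ (h_lt w u) _ (h_lt w v)).2]

theorem h_self_small : ∀ i : Fin 256, h ⟨i⟩ ⟨i⟩ < 2 ∧ phi ⟨i⟩ ⟨i⟩ = Q ⟨i⟩ := by decide +kernel

/-- The basis vectors. -/
def bas (k : Fin 8) : Vt := vt (2 ^ k.val)

theorem sum_bas : ∀ i : Fin 256,
    (⟨i⟩ : Vt) = ((List.finRange 8).filter fun k => i.val.testBit k.val).foldr (fun k r => bas k + r) 0 := by
  decide +kernel

theorem induct_bas {P : Vt → Prop} (h0 : P 0) (hadd : ∀ u v, P u → P v → P (u + v)) (hb : ∀ k, P (bas k)) (v : Vt) :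
    P v := by
  obtain ⟨i⟩ := v
  rw [sum_bas i]
  induction ((List.finRange 8).filter fun k => i.val.testBit k.val) with
  | nil => exact h0
  | cons a l ih => exact hadd _ _ (hb a) ih

theorem phi_swap_bas : ∀ i j : Fin 8, (phi (bas i) (bas j)).xor (phi (bas j) (bas i)) = B (bas i) (bas j) := by
  decide +kernel

theorem h_zero_left : ∀ v : Fin 256, h 0 ⟨v⟩ = 0 ∧ h ⟨v⟩ 0 = 0 := by decide +kernel

theorem phi_swap (u v : Vt) : (phi u v).xor (phi v u) = B u v := by
  induction v using induct_bas with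
  | h0 =>
    obtain ⟨i⟩ := u
    simp [phi, B, (h_zero_left i).1, (h_zero_left i).2]
  | hadd a b ha hb =>
    rw [phi_add_left, phi_add_right, B_add_right, ← ha, ← hb]
    cases phi u a <;> cases phi u b <;> cases phi a u <;> cases phi b u <;> rfl
  | hb k =>
    induction u using induct_bas with
    | h0 =>
      simp [phi, B, (h_zero_left (bas k).code).1, (h_zero_left (bas k).code).2]
    | hadd a b ha hb =>
      rw [phi_add_left, phi_add_right, B_add_left, ← ha, ← hb]
      cases phi a (bas k) <;> cases phi b (bas k) <;> cases phi (bas k) a <;> cases phi (bas k) b <;> rfl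
    | hb j => exact phi_swap_bas j k

end Cfsg.Lib.USixType
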