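import Cfsg.Agent.USixType.Api

/-!
# The transvection is weakly closed in its core
-/

set_option autoImplicit false
set_option Elab.async false

namespace Cfsg.Lib.USixType

open Subgroup

universe u

variable {G : Type u} [Group G] {z : G} {J : Subgroup G}

theorem ncard_vt (p : Vt → Bool) : {v : Vt | p v = true}.ncard = (List.finRange 256).countP fun i => p ⟨i⟩ := by
  classical
  rw [Set.ncard_eq_toFinset_card', List.countP_eq_length_filter,
    ← List.toFinset_card_of_nodup ((List.nodup_finRange 256).filter _)]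
  refine Finset.card_bij (fun v _ => v.code) (fun v hv => ?_) (fun a _ b _ e => Vt.ext' (by rw [e])) fun i hi => ?_
  · simpa using hv
  · exact ⟨⟨i⟩, by simpa using hi, rfl⟩

theorem nodup_of_ok {L : List ℕ} {P : List (ℕ × ℕ)} {G : List (List ℕ)} (hL : groupOK L P G = true) : L.Nodup := by
  simp only [groupOK, Bool.and_eq_true, decide_eq_true_eq] at hL
  exact hL.2

theorem fix5_key {g : Equiv.Perm Vt} (hg : g ∈ U) (e : g ⟨5⟩ = ⟨5⟩) : key g ∈ grpAKey := by
  refine commute_tv0 hg ?_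
  have h := conj_tvP hg 0
  rw [show act45 g 0 = 0 by rw [act45, ctr_zero.1, e, ← ctr_zero.1, pidx_ctr]] at h
  exact mul_inv_eq_iff_eq_mul.1 h

theorem fixed_le {g : Equiv.Perm Vt} (hg : g ∈ U) (h2 : g * g = 1) (h1 : g ≠ 1) : {v | g v = v}.ncard ≤ 64 := by
  have key : ∀ (a : Equiv.Perm Vt) (L : List Vt), L.length ≤ 64 → (∀ i : Fin 256, a ⟨i⟩ = ⟨i⟩ → (⟨i⟩ : Vt) ∈ L) →
      ∀ u : Equiv.Perm Vt, g = u * a * u⁻¹ → {v | g v = v}.ncard ≤ 64 := by
    intro a L hL hmem u e
    classical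
    subst e
    refine le_trans (Set.ncard_le_ncard (t := u '' (L.toFinset : Set Vt)) ?_ (Set.toFinite _))
      ((Set.ncard_image_le (Set.toFinite _)).trans ?_)
    · intro v hv
      refine ⟨u⁻¹ v, ?_, u.apply_symm_apply v⟩
      have : a (u⁻¹ v) = u⁻¹ v := u.injective (hv.trans (u.apply_symm_apply v).symm)
      generalize u⁻¹ v = w at this ⊢
      obtain ⟨i⟩ := w
      simpa using hmem i this
    · rw [Set.ncard_coe_finset]
      exact (List.toFinset_card_le L).trans hL
  obtain ⟨u, hu, e | e⟩ := invol_cases hg h2 h1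
  · refine key _ fix0 fix_len.1.le (fun i hi => ?_) u e
    rw [tvP_apply, ctr_zero.1] at hi
    simp [fix0, hi]
  · refine key _ fixR (by rw [fix_len.2]; norm_num) (fun i hi => ?_) u e
    have hm : R0 ∈ U := mul_mem (tvP_mem _) (tvP_mem _)
    rw [← ev_key hm, show USixType.key R0 = R0K from key_pair 0 d0] at hi
    simp [fixR, hi]

theorem h_self_cases (v : Vt) : h v v = 0 ∨ h v v = 1 := by
  obtain ⟨i⟩ := v
  have := (h_self_small i).1
  omega

namespace Coord

variable [Finite G]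

omit [Finite G] in
/-- The image of a subgroup of the centraliser has order dividing that of the unitary group. -/
theorem image_dvd (c : Coord z J) {K : Subgroup G} (hK : ∀ h ∈ K, Commute h z) :
    (c.π '' (K : Set G)).ncard ∣ 25920 := by
  let f : ↥K →* ↥U :=
    { toFun := fun h => ⟨c.π h, c.π_mem h (hK h h.2)⟩
      map_one' := Subtype.ext c.π_one
      map_mul' := fun p q => Subtype.ext (c.π_mul p q (hK p p.2) (hK q q.2)) }
  rw [← card_U, show (c.π '' (K : Set G)).ncard = Nat.card f.range from ?_]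
  · exact Subgroup.card_subgroup_dvd_card _
  · rw [← Nat.card_coe_set_eq]
    refine Nat.card_congr (Equiv.ofBijective (fun v => ⟨⟨v.1, ?_⟩, ?_⟩) ⟨fun a b e => ?_, fun b => ?_⟩)
    · obtain ⟨q, hq, e⟩ := v.2
      exact e ▸ c.π_mem q (hK q hq)
    · obtain ⟨q, hq, e⟩ := v.2
      exact ⟨⟨q, hq⟩, Subtype.ext e⟩
    · exact Subtype.ext (congrArg (fun x => (x.1.1 : Equiv.Perm Vt)) e)
    · obtain ⟨q, hq⟩ := b.2
      exact ⟨⟨b.1.1, q.1, q.2, congrArg Subtype.val hq⟩, Subtype.ext (Subtype.ext rfl)⟩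

/-- The centraliser in the core of a noncentral element has order `256`. -/
theorem card_centralizer_mem (c : Coord z J) {s : G} (hs : s ∈ J) (hne : c.β s ≠ 0) :
    Nat.card ↥(J ⊓ centralizer ({s} : Set G)) = 256 := by
  rw [c.card_pre inf_le_left ⟨c.mem, mem_centralizer_singleton_iff.2 (c.le s hs).eq.symm⟩]
  have himg : c.β '' ((J ⊓ centralizer ({s} : Set G) : Subgroup G) : Set G) =
      {v | (!B (c.β s) v) = true} := by
    ext v
    constructor
    · rintro ⟨q, hq, rfl⟩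
      have hcq : Commute s q := (mem_centralizer_singleton_iff.1 hq.2).symm
      have := (c.commute_iff hs hq.1).1 hcq
      simp [this]
    · intro hv
      obtain ⟨q, hq, rfl⟩ := c.β_surj v
      refine ⟨q, ⟨hq, mem_centralizer_singleton_iff.2 ?_⟩, rfl⟩
      exact ((c.commute_iff hs hq).2 (by simpa using hv)).eq.symm
  rw [himg, ncard_vt, show (List.finRange 256).countP (fun i => !B (c.β s) ⟨i⟩) = 128 from half_count _ hne]

section rotated

variable (c : Coord z J) {g : G} (hs : g * z * g⁻¹ ∈ J) (hv : c.β (g * z * g⁻¹) = ⟨5⟩)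

theorem beta5_ne : (⟨5⟩ : Vt) ≠ 0 := by decide

omit [Finite G] in
include hs hv in
theorem fix5 : ∀ h, Commute h z → Commute h (g * z * g⁻¹) → c.π h ⟨5⟩ = ⟨5⟩ := fun h h1 h2 => by
  rw [← hv, ← c.equiv h h1 _ hs, show h * (g * z * g⁻¹) * h⁻¹ = g * z * g⁻¹ by rw [h2.eq, mul_inv_cancel_right]]

omit [Finite G] in
include hs hv in
theorem adjust5 : ∀ w ∈ U, w ⟨5⟩ = ⟨5⟩ → ∃ h, Commute h z ∧ Commute h (g * z * g⁻¹) ∧ c.π h = w := by
  generalize hsdef : g * z * g⁻¹ = s at hs hv ⊢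
  intro w hw e5
  obtain ⟨h, hh, rfl⟩ := c.π_surj w hw
  obtain ⟨b, hb⟩ := c.eq_or_mul_z hs (c.norm h hh s hs) (by rw [c.equiv h hh s hs, hv, e5])
  cases b
  · refine ⟨h, hh, mul_inv_eq_iff_eq_mul.1 (hb.trans ?_), rfl⟩
    simp [zp]
  · obtain ⟨i, hi⟩ := functional_ne (⟨5⟩ : Vt).code (by decide)
    obtain ⟨q, hq, hqv⟩ := c.β_surj ⟨i⟩
    have hqs : q * s * q⁻¹ = s * z := by
      have hBt : B (c.β q) (c.β s) = true := by
        rw [hqv, hv, ← phi_swap, Bool.xor_comm, phi_swap]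
        exact hi
      rw [c.swap hq hs, hBt]
      simp only [zp, if_true]
      rw [mul_assoc s q z, (c.le q hq).eq]
      group
    refine ⟨q⁻¹ * h, (c.le q hq).inv_left.mul_left hh, ?_, ?_⟩
    · refine mul_inv_eq_iff_eq_mul.1 ?_
      calc q⁻¹ * h * s * (q⁻¹ * h)⁻¹ = q⁻¹ * (h * s * h⁻¹) * q := by group
        _ = q⁻¹ * (q * s * q⁻¹) * q := by
            rw [hqs]
            simp only [zp, if_true] at hb
            rw [hb]
        _ = s := by group
    · rw [c.π_mul _ _ (c.le q hq).inv_left hh, c.π_of_mem (inv_mem hq), one_mul]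

set_option maxHeartbeats 1000000 in
include hs hv in
theorem other_mem : z ∈ J.map (MulAut.conj g).toMonoidHom := by
  classical
  have hadj := c.adjust5 hs hv
  have h5 := c.fix5 hs hv
  set s := g * z * g⁻¹ with hsdef
  set J' := J.map (MulAut.conj g).toMonoidHom
  let c' : Coord s J' := c.map g
  have hne : c.β s ≠ 0 := by rw [hv]; exact beta5_ne
  have hsz : Commute s z := c.le s hs
  have hsne : s ≠ z := fun e => hne (by rw [e, c.β_z])
  by_contra hz
  have hzs : Commute z s := hsz.symm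
  have hπz : c'.π z ≠ 1 := fun e => hz ((c'.π_ker z hzs).1 e)
  set K := centralizer ({z} : Set G) ⊓ centralizer ({s} : Set G)
  have hKz : ∀ h ∈ K, Commute h z := fun h hh => mem_centralizer_singleton_iff.1 hh.1
  have hKs : ∀ h ∈ K, Commute h s := fun h hh => mem_centralizer_singleton_iff.1 hh.2
  have hKJ : K ⊓ J = J ⊓ centralizer ({s} : Set G) := le_antisymm (fun q hq => ⟨hq.2, hq.1.2⟩)
    fun q hq => ⟨⟨mem_centralizer_singleton_iff.2 (c.le q hq.1).eq, hq.2⟩, hq.1⟩
  have himg : (c.π '' (K : Set G)).ncard = 192 := by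
    rw [← stab_count, List.countP_eq_length_filter,
      ← List.toFinset_card_of_nodup ((nodup_of_ok grpA_ok).filter _)]
    rw [← Set.ncard_coe_finset]
    refine Set.ncard_congr (fun w _ => key w) ?_ ?_ ?_
    · rintro _ ⟨h, hh, rfl⟩
      have hm := c.π_mem h (hKz h hh)
      have e := h5 h (hKz h hh) (hKs h hh)
      simp [fix5_key hm e, ev_key hm, e]
    · rintro _ _ ⟨a, ha, rfl⟩ ⟨b, hb, rfl⟩ e
      exact key_inj (c.π_mem a (hKz a ha)) (c.π_mem b (hKz b hb)) e
    · intro n hn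
      simp only [Finset.mem_coe, List.mem_toFinset, List.mem_filter, beq_iff_eq] at hn
      obtain ⟨w, -, e, hu⟩ := exists_of_mem_list grpA_ok hn.1
      obtain ⟨h, h1, h2, rfl⟩ := hadj w hu (by rw [← ev_key hu, e]; exact hn.2)
      exact ⟨_, ⟨h, ⟨mem_centralizer_singleton_iff.2 h1.eq, mem_centralizer_singleton_iff.2 h2.eq⟩, rfl⟩, e⟩
  have e1 := c.card_split hKz
  rw [hKJ, c.card_centralizer_mem hs hne, himg] at e1
  have e2 := c'.card_split hKs
  have h64 : {v | c'.π z v = v}.ncard ≤ 64 := fixed_le (c'.π_mem z hzs)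
    (by rw [← c'.π_mul z z hzs hzs, c.z_sq, c'.π_one]) hπz
  have hle : Nat.card ↥(K ⊓ J') ≤ 128 := by
    rw [c'.card_pre inf_le_right (show s ∈ K ⊓ J' from Subgroup.mem_inf.2 ⟨Subgroup.mem_inf.2
      ⟨mem_centralizer_singleton_iff.2 hsz.eq, mem_centralizer_singleton_iff.2 rfl⟩, c'.mem⟩)]
    refine le_trans (Nat.mul_le_mul_left 2 (Set.ncard_le_ncard ?_ (Set.toFinite _))) (Nat.mul_le_mul_left 2 h64)
    rintro _ ⟨q, hq, rfl⟩
    show c'.π z (c'.β q) = c'.β q
    rw [← c'.equiv z hzs q hq.2, (hKz q hq.1).symm.eq, mul_inv_cancel_right]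
  have hdvd : Nat.card ↥(K ⊓ J') ∣ 2 ^ 9 := c'.card ▸ Subgroup.card_dvd_of_le inf_le_right
  obtain ⟨j, hj, ej⟩ := (Nat.dvd_prime_pow Nat.prime_two).1 hdvd
  have h128 : Nat.card ↥(K ⊓ J') ∣ 128 := by
    rw [ej] at hle ⊢
    exact (Nat.pow_dvd_pow_iff_le_right (by norm_num)).2 ((Nat.pow_le_pow_iff_right (by norm_num)).1
      (show 2 ^ j ≤ 2 ^ 7 by norm_num; exact hle))
  have : 49152 ∣ 128 * 25920 := by
    rw [show 49152 = Nat.card ↥K by rw [e1], e2]
    exact Nat.mul_dvd_mul h128 (c'.image_dvd hKs)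
  norm_num at this

set_option maxHeartbeats 1000000 in
include hs hv in
theorem inter_ge : 8 ≤ Nat.card ↥(J ⊓ J.map (MulAut.conj g).toMonoidHom) := by
  classical
  have hadj := c.adjust5 hs hv
  have h5 := c.fix5 hs hv
  set s := g * z * g⁻¹ with hsdef
  set J' := J.map (MulAut.conj g).toMonoidHom
  let c' : Coord s J' := c.map g
  have hne : c.β s ≠ 0 := by rw [hv]; exact beta5_ne
  have hsz : Commute s z := c.le s hs
  have hsne : s ≠ z := fun e => hne (by rw [e, c.β_z])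
  have hzJ : z ∈ J' := c.other_mem hs hv
  have hβz : c'.β z ≠ 0 := fun e => by
    rcases (c'.β_ker z hzJ).1 e with h | h
    exacts [c.z_ne_one h, hsne h.symm]
  set K' := J' ⊓ centralizer ({z} : Set G)
  have hK'z : ∀ h ∈ K', Commute h z := fun h hh => mem_centralizer_singleton_iff.1 hh.2
  have hK'card : Nat.card ↥K' = 256 := c'.card_centralizer_mem hzJ hβz
  set D := J ⊓ J'
  have hKJ : K' ⊓ J = D := le_antisymm (fun q hq => ⟨hq.2, hq.1.1⟩)
    fun q hq => ⟨⟨hq.2, mem_centralizer_singleton_iff.2 (c.le q hq.1).eq⟩, hq.1⟩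
  have hsq : ∀ q' ∈ J', q' * q' ∈ J := fun q' hq' => by
    rw [c'.sq q' hq']; cases Q (c'.β q') <;> simp [zp, hs, one_mem]
  have hsplit := c.card_split hK'z
  rw [hKJ, hK'card] at hsplit
  by_contra hlt
  push Not at hlt
  obtain ⟨j, hj, ej⟩ := (Nat.dvd_prime_pow Nat.prime_two).1
    (c.card ▸ Subgroup.card_dvd_of_le (inf_le_left : D ≤ J) : Nat.card ↥D ∣ 2 ^ 9)
  have hj2 : j ≤ 2 := by
    by_contra hh
    push Not at hh
    have := Nat.pow_le_pow_right (show 1 ≤ 2 by norm_num) (show 3 ≤ j from hh)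
    omega
  have hd := c.image_dvd hK'z
  rw [ej] at hsplit
  interval_cases j
  · have e : (c.π '' (K' : Set G)).ncard = 256 := by omega
    rw [e] at hd; norm_num at hd
  · have e : (c.π '' (K' : Set G)).ncard = 128 := by omega
    rw [e] at hd; norm_num at hd
  · have e : (c.π '' (K' : Set G)).ncard = 64 := by omega
    let f : ↥K' →* ↥U :=
      { toFun := fun h => ⟨c.π h, c.π_mem h (hK'z h h.2)⟩
        map_one' := Subtype.ext c.π_one
        map_mul' := fun p q => Subtype.ext (c.π_mul p q (hK'z p p.2) (hK'z q q.2)) }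
    have hr : Nat.card f.range = 2 ^ (Nat.card ↥U).factorization 2 := by
      rw [card_U, Nat.factorization_def _ Nat.prime_two, show (25920 : ℕ) = 2 ^ 6 * 405 by norm_num,
        padicValNat.mul (by norm_num) (by norm_num), padicValNat.prime_pow,
        padicValNat.eq_zero_of_not_dvd (by norm_num), show (2 : ℕ) ^ (6 + 0) = 64 from rfl, ← e, ← Nat.card_coe_set_eq]
      refine Nat.card_congr (Equiv.ofBijective (fun v => ⟨v.1.1, ?_⟩) ⟨fun a b h => ?_, fun b => ?_⟩)
      · obtain ⟨q, hq⟩ := v.2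
        exact ⟨q, q.2, congrArg Subtype.val hq⟩
      · exact Subtype.ext (Subtype.ext (congrArg (fun x => (x.1 : Equiv.Perm Vt)) h))
      · obtain ⟨q, hq, eq⟩ := b.2
        exact ⟨⟨⟨b.1, eq ▸ c.π_mem q (hK'z q hq)⟩, ⟨q, hq⟩, Subtype.ext eq⟩, rfl⟩
    have hS : Nat.card ↥(US.subgroupOf U) = 2 ^ (Nat.card ↥U).factorization 2 := by
      rw [Nat.card_congr (Subgroup.subgroupOfEquivOfLe US_le_U).toEquiv, US, card_closure grpS_ok, grpA_len.2.1,
        card_U, Nat.factorization_def _ Nat.prime_two, show (25920 : ℕ) = 2 ^ 6 * 405 by norm_num,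
        padicValNat.mul (by norm_num) (by norm_num), padicValNat.prime_pow,
        padicValNat.eq_zero_of_not_dvd (by norm_num)]
      rfl
    haveI : Fact (Nat.Prime 2) := ⟨Nat.prime_two⟩
    obtain ⟨y, hy⟩ := MulAction.exists_smul_eq ↥U (Sylow.ofCard f.range hr) (Sylow.ofCard (US.subgroupOf U) hS)
    obtain ⟨n, hn, hn2⟩ := sylow_noninvol
    obtain ⟨w, hw, en, hu⟩ := exists_of_mem_list grpS_ok hn
    have hm : (⟨w, hu⟩ : ↥U) ∈ ((Sylow.ofCard (US.subgroupOf U) hS : Sylow 2 ↥U) : Subgroup ↥U) := hw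
    rw [← hy] at hm
    obtain ⟨x, hx, ex⟩ := (Subgroup.mem_smul_pointwise_iff_exists _ _ _).1 hm
    obtain ⟨q, rfl⟩ := hx
    refine hn2 ?_
    have hx2 : f q * f q = 1 := by
      rw [← map_mul]
      exact Subtype.ext (c.π_of_mem (hsq q q.2.1))
    have hw2 : (⟨w, hu⟩ : ↥U) * ⟨w, hu⟩ = 1 := by
      rw [← ex, ← smul_mul', hx2, smul_one]
    rw [← en, ← key_mul hu]
    exact congrArg key (congrArg Subtype.val hw2)

set_option maxHeartbeats 1000000 in
include hs hv in
theorem exists_omega : ∃ d₀ ∈ J ⊓ J.map (MulAut.conj g).toMonoidHom, c.β d₀ = ⟨10⟩ := by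
  classical
  have hadj := c.adjust5 hs hv
  have h5 := c.fix5 hs hv
  set s := g * z * g⁻¹ with hsdef
  set J' := J.map (MulAut.conj g).toMonoidHom
  let c' : Coord s J' := c.map g
  have hne : c.β s ≠ 0 := by rw [hv]; exact beta5_ne
  have hsz : Commute s z := c.le s hs
  have hsne : s ≠ z := fun e => hne (by rw [e, c.β_z])
  have hzJ : z ∈ J' := c.other_mem hs hv
  set D := J ⊓ J'
  have h8 : 8 ≤ Nat.card ↥D := c.inter_ge hs hv
  have hsing : ∀ d ∈ D, ∀ d' ∈ D, B (c.β d) (c.β d') = false ∧ Q (c.β d) = false := by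
    intro d hd d' hd'
    have key0 : ∀ b b', zp z b = zp s b' → b = false := fun b b' e => by
      cases b
      · rfl
      · exfalso
        cases b'
        · exact c.z_ne_one e
        · exact hsne e.symm
    exact ⟨key0 _ _ ((c.comm d hd.1 d' hd'.1).symm.trans (c'.comm d hd.2 d' hd'.2)),
      key0 _ _ ((c.sq d hd.1).symm.trans (c'.sq d hd.2))⟩
  have hinv : ∀ k : Fin 45, h ⟨5⟩ (ctr k) = 0 → ∀ d ∈ D, ∃ d' ∈ D, c.β d' = tvP k (c.β d) := by
    intro k hk d hd
    obtain ⟨x, hx1, hx2, hx3⟩ := hadj (tvP k) (tvP_mem k) (by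
      rw [tvP_apply, tv, hk, show ∀ v : Vt, sm 0 v = 0 from fun v => by obtain ⟨i⟩ := v; revert i; decide +kernel,
        add_zero])
    refine ⟨x * d * x⁻¹, ⟨c.norm x hx1 d hd.1, c'.norm x hx2 d hd.2⟩, ?_⟩
    rw [c.equiv x hx1 d hd.1, hx3]
  have hsD : s ∈ D := ⟨hs, c'.mem⟩
  have hzD : z ∈ D := ⟨c.mem, hzJ⟩
  have h10 : ∃ d₀ ∈ D, c.β d₀ = ⟨10⟩ := by
    obtain ⟨d, hd, hd0, hd5⟩ : ∃ d ∈ D, c.β d ≠ 0 ∧ c.β d ≠ ⟨5⟩ := by
      by_contra hno
      push Not at hno
      have hcp : Nat.card ↥D = 2 * (c.β '' (D : Set G)).ncard := c.card_pre (inf_le_left : D ≤ J) hzD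
      have hsub : (c.β '' (D : Set G)) ⊆ {0, ⟨5⟩} := by
        rintro _ ⟨d, hd, rfl⟩
        by_cases h0 : c.β d = 0
        · exact Or.inl h0
        · exact Or.inr (hno d hd h0)
      have := (Set.ncard_le_ncard hsub (Set.toFinite _)).trans
        (Set.ncard_insert_le _ _)
      rw [Set.ncard_singleton] at this
      omega
    obtain ⟨hB, hQ⟩ := hsing s hsD d hd
    rw [hv] at hB
    have hQd := (hsing d hd d hd).2
    by_cases hl : onLine ⟨5⟩ (c.β d) = true
    · simp only [onLine, Bool.or_eq_true, beq_iff_eq, ctr_zero.2] at hl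
      rcases hl with ((e | e) | e) | e
      · exact absurd e hd0
      · exact absurd e hd5
      · exact ⟨d, hd, e⟩
      · refine ⟨d * s, mul_mem hd hsD, ?_⟩
        rw [c.β_mul d hd.1 s hs, e, hv]
        decide +kernel
    · obtain ⟨k, l, hk, hl', hcase⟩ := orbit_line (c.β d).code hQd hB (by simpa using hl)
      obtain ⟨d1, hd1, e1⟩ := hinv k hk d hd
      obtain ⟨d2, hd2, e2⟩ := hinv l hl' d hd
      rw [tvP_apply] at e1 e2
      rcases hcase with e | e | e
      · exact ⟨d1 * d2, mul_mem hd1 hd2, by rw [c.β_mul d1 hd1.1 d2 hd2.1, e1, e2]; exact e⟩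
      · refine ⟨d1 * d2 * s, mul_mem (mul_mem hd1 hd2) hsD, ?_⟩
        rw [c.β_mul _ (mul_mem hd1.1 hd2.1) s hs, c.β_mul d1 hd1.1 d2 hd2.1, e1, e2, hv,
          show (⟨(c.β d).code⟩ : Vt) = c.β d from rfl] at *
        rw [e, add_assoc, Vt.add_self, add_zero]
      · exfalso
        have := (hsing _ (mul_mem hd1 hd) _ (mul_mem hd2 hd)).1
        rw [c.β_mul d1 hd1.1 d hd.1, c.β_mul d2 hd2.1 d hd.1, e1, e2] at this
        rw [show (⟨(c.β d).code⟩ : Vt) = c.β d from rfl] at e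
        rw [this] at e
        exact Bool.false_ne_true e
  exact h10

set_option maxHeartbeats 1000000 in
include hs hv in
theorem weak_aux : False := by
  classical
  have hadj := c.adjust5 hs hv
  have h5 := c.fix5 hs hv
  set s := g * z * g⁻¹ with hsdef
  set J' := J.map (MulAut.conj g).toMonoidHom
  let c' : Coord s J' := c.map g
  have hne : c.β s ≠ 0 := by rw [hv]; exact beta5_ne
  have hsz : Commute s z := c.le s hs
  have hsne : s ≠ z := fun e => hne (by rw [e, c.β_z])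
  have hzJ : z ∈ J' := c.other_mem hs hv
  set D := J ⊓ J'
  have h8 : 8 ≤ Nat.card ↥D := c.inter_ge hs hv
  have hβz : c'.β z ≠ 0 := fun e => by
    rcases (c'.β_ker z hzJ).1 e with h | h
    exacts [c.z_ne_one h, hsne h.symm]
  have h10 := c.exists_omega hs hv
  obtain ⟨d₀, hd₀, h10⟩ := h10
  have hne0 : c'.β d₀ ≠ 0 := fun e => by
    rcases (c'.β_ker d₀ hd₀.2).1 e with h | h <;> rw [h] at h10
    · rw [c.β_one] at h10; exact absurd h10 (by decide)
    · rw [hv] at h10; exact absurd h10 (by decide)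
  have hnez : c'.β d₀ ≠ c'.β z := fun e => by
    obtain ⟨b, hb⟩ := c'.eq_or_mul_z hzJ hd₀.2 e.symm
    rw [hb, c.β_mul z c.mem _ (by cases b <;> simp [zp, hs, one_mem]), c.β_z, zero_add] at h10
    cases b
    · rw [show zp s false = 1 from rfl, c.β_one] at h10; exact absurd h10 (by decide)
    · rw [show zp s true = s from rfl, hv] at h10; exact absurd h10 (by decide)
  have hQz : Q (c'.β z) = false := by
    apply c'.zp_inj
    rw [← c'.sq z hzJ, c.z_sq]; rfl

  have hz5 : ∃ w ∈ U, w ⟨5⟩ = c'.β z := by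
    have hh : h (c'.β z) (c'.β z) = 0 := by
      have hlt := h_self_cases (c'.β z)
      have h1 : h (c'.β z) (c'.β z) ≠ 1 := by simpa [Q] using hQz
      omega
    have e := (vec_words (c'.β z).code).resolve_left hβz
    rw [if_pos hh, ← key_word, ev_key (wordP_mem _)] at e
    exact ⟨_, wordP_mem _, e⟩
  obtain ⟨w, hw, hw5⟩ := hz5
  obtain ⟨u, hu1, hu2⟩ := functional_sep (w⁻¹ (c'.β d₀)).code
    (fun e => hne0 (by
      have := congrArg w e
      rwa [show w (w⁻¹ (c'.β d₀)) = c'.β d₀ from w.apply_symm_apply _, (lin_of_mem hw).map_zero] at this))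
    (fun e => hnez (by
      have := congrArg w e
      rwa [show w (w⁻¹ (c'.β d₀)) = c'.β d₀ from w.apply_symm_apply _, hw5] at this))
  obtain ⟨q, hq, hqv⟩ := c'.β_surj (w ⟨u⟩)
  have hwB : ∀ a b, B (w a) (w b) = B a b := fun a b => by rw [B, B, (lin_of_mem hw).map_h]
  have hqz : Commute q z := by
    refine ((c'.commute_iff hzJ hq).2 ?_).symm
    rw [hqv, ← hw5, hwB]
    exact hu1
  have hswap := c'.swap hd₀.2 hq
  rw [show B (c'.β d₀) (c'.β q) = true by
    rw [hqv, ← w.apply_symm_apply (c'.β d₀), hwB]; exact hu2] at hswap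
  simp only [zp, if_true] at hswap
  have hqd : q * d₀ * q⁻¹ = d₀ * s := by
    have hss : q * s = s * q := (c'.le q hq).eq
    have hs2 := c'.z_sq
    calc q * d₀ * q⁻¹ = q * d₀ * (s * s) * q⁻¹ := by rw [hs2]; group
      _ = (q * d₀ * s) * (s * q⁻¹) := by group
      _ = d₀ * (q * s) * q⁻¹ := by rw [← hswap]; group
      _ = d₀ * (s * q) * q⁻¹ := by rw [hss]
      _ = d₀ * s := by group
  have hl := c.π_lin hqz
  have e := c.equiv q hqz d₀ hd₀.1
  rw [hqd, c.β_mul d₀ hd₀.1 s hs, h10, hv, ← ctr_zero.2, hl.map_sm 2 _ (by norm_num), h5 q hqz (c'.le q hq)] at e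
  exact absurd e (by decide +kernel)


end rotated

/-- The centre is weakly closed in its core. -/
theorem weak_closed (c : Coord z J) {g : G} (hs : g * z * g⁻¹ ∈ J) : g * z * g⁻¹ = z := by
  by_contra hne
  have h0 : c.β (g * z * g⁻¹) ≠ 0 := fun e => by
    rcases (c.β_ker _ hs).1 e with h | h
    exacts [c.z_ne_one (conj_eq_one_iff.1 h), hne h]
  have hQ : Q (c.β (g * z * g⁻¹)) = false := by
    apply c.zp_inj
    rw [← c.sq _ hs, show g * z * g⁻¹ * (g * z * g⁻¹) = g * (z * z) * g⁻¹ by group, c.z_sq]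
    simp [zp]
  have hh : h (c.β (g * z * g⁻¹)) (c.β (g * z * g⁻¹)) = 0 := by
    have hlt := h_self_cases (c.β (g * z * g⁻¹))
    have h1 : h (c.β (g * z * g⁻¹)) (c.β (g * z * g⁻¹)) ≠ 1 := by simpa [Q] using hQ
    omega
  have e := (vec_words (c.β (g * z * g⁻¹)).code).resolve_left h0
  rw [if_pos hh, ← key_word, ev_key (wordP_mem _)] at e
  refine (c.twist (wordP (vecWord.getD (c.β (g * z * g⁻¹)).code.val []))⁻¹ (inv_mem (wordP_mem _))).weak_aux hs ?_
  rw [c.twist_β]
  exact (congrArg _ e.symm).trans (Equiv.symm_apply_apply _ _)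

end Coord

end Cfsg.Lib.USixType
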